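import Groth.Agent.GeomProp.PiReduced
import Groth.Agent.GeomRedPull.Basic
import Groth.Agent.GeomRedPull.Field
import Mathlib

/-!
Criteria for geometric reducedness of an algebra over a field.
-/

set_option autoImplicit false
set_option linter.style.haveILetI false

namespace Groth.Agent.GeomProp

universe u

open TensorProduct

theorem isReduced_tensor_sepGen (k K C : Type u) [Field k] [Field K] [Algebra k K] [CommRing C] [Algebra k C]
    [IsReduced C] (h : SepGen k K) : IsReduced (K ⊗[k] C) :=
  GeomRedPull.isReduced_tensor fun L _ _ => by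
    obtain ⟨hr, _⟩ := good_regular.sepGen k K L h inferInstance
    exact FlatDepth.isReduced_of_isNormalRing _ (haveI := hr; FlatDepth.isNormalRing_of_isRegularRing (K ⊗[k] L))

theorem injective_map_left (k L K A : Type u) [Field k] [CommRing L] [CommRing K] [Algebra k L] [Algebra k K]
    [CommRing A] [Algebra k A] (f : L →ₐ[k] K) (hf : Function.Injective f) :
    Function.Injective (Algebra.TensorProduct.map f (AlgHom.id k A)) :=
  Module.Flat.rTensor_preserves_injective_linearMap f.toLinearMap hf

/-- Finite purely inseparable extensions suffice for reducedness. -/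
theorem isReduced_all_of_pi (k A : Type u) [Field k] [CommRing A] [Algebra k A]
    (h : ∀ (k' : Type u) [Field k'] [Algebra k k'], Module.Finite k k' → IsPurelyInseparable k k' →
      IsReduced (k' ⊗[k] A)) (K : Type u) [Field K] [Algebra k K] : IsReduced (K ⊗[k] A) := by
  refine ⟨fun z hz => ?_⟩
  obtain ⟨F, hF⟩ := exists_range_of_finset k K A {z}
  obtain ⟨w, hw⟩ := hF z (Finset.mem_singleton_self z)
  let L := IntermediateField.adjoin k (F : Set K)
  haveI : Algebra.EssFiniteType k L := IntermediateField.essFiniteType_iff.2 (IntermediateField.fg_adjoin_finset F)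
  have hinj := injective_map_left k L K A L.val L.val.injective
  have hwn : IsNilpotent w := by
    obtain ⟨n, hn⟩ := hz
    exact ⟨n, hinj (by rw [map_pow, map_zero]; exact hw ▸ hn)⟩
  obtain ⟨k', K', _, _, _, _, _, _, _, _, hfin, hpi, -, hsep⟩ := exists_sepGen k L
  haveI := h k' hfin hpi
  haveI := isReduced_tensor_sepGen k' K' (k' ⊗[k] A) hsep
  haveI : IsReduced (K' ⊗[k] A) := isReduced_of_injective
    (Algebra.TensorProduct.cancelBaseChange k k' K' K' A).symm
    (Algebra.TensorProduct.cancelBaseChange k k' K' K' A).symm.injective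
  haveI : IsReduced (L ⊗[k] A) := isReduced_of_injective _
    (injective_map_left k L K' A (IsScalarTower.toAlgHom k L K') (algebraMap L K').injective)
  rw [← hw, IsReduced.eq_zero w hwn]
  exact map_zero _

theorem geomReduced_of_pi (k A : Type u) [Field k] [CommRing A] [Algebra k A]
    (h : ∀ (k' : Type u) [Field k'] [Algebra k k'], Module.Finite k k' → IsPurelyInseparable k k' →
      IsReduced (k' ⊗[k] A)) : Algebra.IsGeometricallyReduced k A :=
  (Algebra.isGeometricallyReduced_field_iff k A).2 (isReduced_all_of_pi k A h _)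

/-- The criterion of MacLane: reducedness after adjoining `p`-th roots suffices. -/
theorem isReduced_tensor_of_root (k A k1 K : Type u) [Field k] (p : ℕ) [Fact p.Prime] [CharP k p] [CommRing A]
    [Algebra k A] [Field k1] [Algebra k k1] (r : k →+* k1) (hr : ∀ c, r c ^ p = algebraMap k k1 c)
    [hred : IsReduced (A ⊗[k] k1)] [Field K] [Algebra k K] : IsReduced (K ⊗[k] A) := by
  rcases subsingleton_or_nontrivial A with hA | hA
  · haveI : Subsingleton (K ⊗[k] A) := subsingleton_iff_zero_eq_one.1 (by
      rw [Algebra.TensorProduct.one_def, Subsingleton.elim (1 : A) 0, TensorProduct.tmul_zero])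
    exact inferInstance
  haveI : CharP (K ⊗[k] A) p := charP_of_injective_algebraMap (algebraMap k (K ⊗[k] A)).injective p
  haveI : CharP (A ⊗[k] k1) p := charP_of_injective_algebraMap (algebraMap k (A ⊗[k] k1)).injective p
  haveI : CharP K p := charP_of_injective_algebraMap (algebraMap k K).injective p
  have hp : 1 < p := (Fact.out : p.Prime).one_lt
  refine (isReduced_iff_pow_one_lt p hp).2 fun z hz => ?_
  classical
  let b := Module.Basis.ofVectorSpace k K
  obtain ⟨a, rfl⟩ := (TensorProduct.equivFinsuppOfBasisLeft b (N := A)).symm.surjective z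
  suffices ha : ∀ j ∈ a.support, a j = 0 by
    rw [Finsupp.support_eq_empty.1 (Finset.eq_empty_of_forall_notMem fun j hj =>
      Finsupp.mem_support_iff.1 hj (ha j hj))]
    exact map_zero _
  rw [TensorProduct.equivFinsuppOfBasisLeft_symm_apply, Finsupp.sum, sum_pow_char p] at hz
  simp only [Algebra.TensorProduct.tmul_pow] at hz
  have hfun : ∀ (lam : K →ₗ[k] k) (ψ : A →ₗ[k] k),
      lam ((∑ j ∈ a.support, algebraMap k K (ψ (a j)) * b j) ^ p) = 0 := fun lam ψ => by
    have h1 : ∑ j ∈ a.support, lam (b j ^ p) • a j ^ p = (0 : A) := by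
      have := congrArg (fun t => TensorProduct.lid k A (LinearMap.rTensor A lam t)) hz
      simpa using this
    have h2 : ∑ j ∈ a.support, a j ⊗ₜ[k] r (lam (b j ^ p)) = 0 := by
      refine (isReduced_iff_pow_one_lt p hp).1 hred _ ?_
      rw [sum_pow_char p]
      simp only [Algebra.TensorProduct.tmul_pow, hr, Algebra.algebraMap_eq_smul_one, ← TensorProduct.smul_tmul,
        ← TensorProduct.sum_tmul, h1, TensorProduct.zero_tmul]
    have h3 : r (∑ j ∈ a.support, ψ (a j) ^ p * lam (b j ^ p)) = 0 := by
      have := congrArg (fun t => TensorProduct.lid k k1 (LinearMap.rTensor k1 ψ t)) h2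
      simp only [map_sum, LinearMap.rTensor_tmul,
        TensorProduct.lid_tmul, map_zero] at this
      simpa [map_sum, map_mul, map_pow, hr, Algebra.smul_def] using this
    rw [sum_pow_char p, map_sum]
    refine (Finset.sum_congr rfl fun j _ => ?_).trans ((map_eq_zero r).1 h3)
    rw [mul_pow, ← map_pow, ← Algebra.smul_def, map_smul, smul_eq_mul]
  intro j hj
  refine (Module.forall_dual_apply_eq_zero_iff k _).1 fun ψ => ?_
  have h4 : ∑ i ∈ a.support, ψ (a i) • b i = 0 := by
    refine eq_zero_of_pow_eq_zero (n := p) ((Module.forall_dual_apply_eq_zero_iff k _).1 fun lam => ?_)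
    simpa [Algebra.smul_def] using hfun lam ψ
  exact linearIndependent_iff'.1 b.linearIndependent a.support _ h4 j hj

end Groth.Agent.GeomProp
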