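import Groth.Agent.GeomProp.SchemeGeom
import Groth.Agent.GeomProp.Reduced
import Groth.Agent.GeomRedAt.Open
import Mathlib

/-!
Geometric reducedness of schemes over a field.
-/

set_option autoImplicit false
set_option linter.style.haveILetI false

namespace Groth.Agent.GeomProp

universe u

open CategoryTheory AlgebraicGeometry Limits
open scoped TensorProduct

attribute [local instance] Curv2.stalkAlgebra

variable (k : Type u) [Field k] (X : Scheme.{u}) [X.Over (Spec (CommRingCat.of k))] (x : X)

theorem reduced_tensor_of_stalks (k' : Type u) [Field k'] [Algebra k k'] [Algebra.IsIntegral k k']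
    (h : ∀ x' : Curv2.bc k X k', Curv2.bcFst k X k' x' = x →
      _root_.IsReduced ((Curv2.bc k X k').presheaf.stalk x')) :
    _root_.IsReduced (k' ⊗[k] X.presheaf.stalk x) := by
  let A : Type u := X.presheaf.stalk x
  haveI : _root_.IsReduced (A ⊗[k] k') := isReduced_ofLocalizationMaximal _ fun M hM => by
    haveI := hM
    haveI : (M.comap (algebraMap A (A ⊗[k] k'))).IsMaximal := Ideal.isMaximal_comap_of_isIntegral_of_isMaximal M
    obtain ⟨x', hx', ⟨g⟩⟩ := (bc_stalks k X k' x).2 M (IsLocalRing.eq_maximalIdeal inferInstance)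
    haveI := h x' hx'
    exact isReduced_of_injective g g.injective
  exact isReduced_of_injective (Algebra.TensorProduct.comm k k' A) (Algebra.TensorProduct.comm k k' A).injective

/-- Points specialising to `x` have reduced local rings. -/
theorem reduced_stalk_of_tensor_specializes (k' : Type u) [Field k'] [Algebra k k']
    (h : _root_.IsReduced (k' ⊗[k] X.presheaf.stalk x)) (y' : Curv2.bc k X k')
    (hy' : Curv2.bcFst k X k' y' ⤳ x) : _root_.IsReduced ((Curv2.bc k X k').presheaf.stalk y') := by
  let p := X ↘ Spec (CommRingCat.of k)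
  let g := Spec.map (CommRingCat.ofHom (algebraMap k k'))
  let O : Type u := X.presheaf.stalk x
  let j := X.fromSpecStalk x
  haveI : Flat j := GrpField.flat_fromSpecStalk x
  haveI : IsPreimmersion (pullback.fst (Curv2.bcFst k X k') j) := inferInstance
  have h1 : IsPullback (pullback.snd (Curv2.bcFst k X k') j)
      (pullback.fst (Curv2.bcFst k X k') j ≫ pullback.snd p g) (j ≫ p) g :=
    (IsPullback.of_hasPullback (Curv2.bcFst k X k') j).flip.paste_vert (IsPullback.of_hasPullback p g)
  rw [fromSpecStalk_over k X x] at h1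
  let e : pullback (Curv2.bcFst k X k') j ≅ Spec (CommRingCat.of (O ⊗[k] k')) :=
    h1.isoPullback ≪≫ pullbackSpecIso k O k'
  haveI : _root_.IsReduced (O ⊗[k] k') :=
    isReduced_of_injective (Algebra.TensorProduct.comm k O k') (Algebra.TensorProduct.comm k O k').injective
  haveI : AlgebraicGeometry.IsReduced (pullback (Curv2.bcFst k X k') j) := isReduced_of_isOpenImmersion e.hom
  obtain ⟨P, hP⟩ : Curv2.bcFst k X k' y' ∈ Set.range j := by
    rw [Scheme.range_fromSpecStalk]; exact hy'
  obtain ⟨w, hw, -⟩ := Scheme.Pullback.exists_preimage_pullback (f := Curv2.bcFst k X k') (g := j) y' P hP.symm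
  subst hw
  haveI : Flat (pullback.fst (Curv2.bcFst k X k') j) := inferInstance
  have hb := bijective_stalkMap (pullback.fst (Curv2.bcFst k X k') j) w
  exact isReduced_of_injective _ hb.1

theorem isGeomReducedAt_iff :
    Curv2.IsGeomReducedAt k X x ↔ Algebra.IsGeometricallyReduced k (X.presheaf.stalk x) := by
  refine ⟨fun h => (Algebra.isGeometricallyReduced_field_iff k _).2
    (reduced_tensor_of_stalks k X x (AlgebraicClosure k) (h (AlgebraicClosure k))), fun _ k' _ _ x' hx' => ?_⟩
  exact reduced_stalk_of_tensor_specializes k X x k' (GeomRedPull.isReduced_field_tensor k') x'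
    (hx' ▸ specializes_refl _)

theorem isGeomReducedAt_of_specializes {y : X} (h : y ⤳ x) (hx : Curv2.IsGeomReducedAt k X x) :
    Curv2.IsGeomReducedAt k X y := fun k' _ _ y' hy' => by
  haveI := (isGeomReducedAt_iff k X x).1 hx
  exact reduced_stalk_of_tensor_specializes k X x k' (GeomRedPull.isReduced_field_tensor k') y' (hy' ▸ h)

theorem geometricallyReduced_iff_forall :
    GeometricallyReduced (X ↘ Spec (CommRingCat.of k)) ↔ ∀ x, Curv2.IsGeomReducedAt k X x := by
  refine ⟨fun h x k' _ _ x' _ => ?_, fun h => ⟨geometrically_iff_of_commRing_of_isClosedUnderIsomorphisms.2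
    fun K _ _ => ?_⟩⟩
  · haveI : AlgebraicGeometry.IsReduced (Curv2.bc k X k') := pullback_of_geometrically h.1 k' _
    infer_instance
  · haveI : ∀ x' : Curv2.bc k X K, _root_.IsReduced ((Curv2.bc k X K).presheaf.stalk x') :=
      fun x' => h _ K x' rfl
    exact isReduced_of_isReduced_stalk (Curv2.bc k X K)

theorem isGeomReducedAt_iff_gr : Curv2.IsGeomReducedAt k X x ↔ GeomRedAt.GR (X ↘ Spec (CommRingCat.of k)) x := by
  refine ⟨fun h K _ v p hp => ?_, fun h k' _ _ x' hx' => h k' _ x' hx'⟩
  obtain ⟨φ, rfl⟩ := Spec.map_surjective v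
  algebraize [φ.hom]
  exact h K p hp

theorem isGeomReducedAt_iff_pi :
    Curv2.IsGeomReducedAt k X x ↔ ∀ (k' : Type u) [Field k'] [Algebra k k'] [Module.Finite k k']
      [IsPurelyInseparable k k'] (x' : Curv2.bc k X k'), Curv2.bcFst k X k' x' = x →
      _root_.IsReduced ((Curv2.bc k X k').presheaf.stalk x') := by
  refine ⟨fun h k' _ _ _ _ x' hx' => h k' x' hx', fun h => (isGeomReducedAt_iff k X x).2 ?_⟩
  refine geomReduced_of_pi k _ fun k' _ _ hfin hpi => ?_
  haveI := hfin
  haveI := hpi
  exact reduced_tensor_of_stalks k X x k' (h k')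

theorem geometricallyReduced_of_root (p : ℕ) [Fact p.Prime] [CharP k p] (k1 : Type u) [Field k1] [Algebra k k1]
    [Algebra.IsIntegral k k1] (r : k →+* k1) (hr : ∀ c, r c ^ p = algebraMap k k1 c)
    [hred : AlgebraicGeometry.IsReduced (Curv2.bc k X k1)] :
    GeometricallyReduced (X ↘ Spec (CommRingCat.of k)) := by
  refine (geometricallyReduced_iff_forall k X).2 fun x =>
    (isGeomReducedAt_iff k X x).2 ((Algebra.isGeometricallyReduced_field_iff k _).2 ?_)
  haveI := reduced_tensor_of_stalks k X x k1 fun x' _ => inferInstance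
  haveI : _root_.IsReduced (X.presheaf.stalk x ⊗[k] k1) := isReduced_of_injective
    (Algebra.TensorProduct.comm k (X.presheaf.stalk x) k1) (Algebra.TensorProduct.comm k _ k1).injective
  exact isReduced_tensor_of_root k (X.presheaf.stalk x) k1 (AlgebraicClosure k) p r hr

/-- The map of local rings attached to a specialisation, over `k`. -/
noncomputable def specAlgHom {y : X} (h : y ⤳ x) : X.presheaf.stalk x →ₐ[k] X.presheaf.stalk y :=
  { (X.presheaf.stalkSpecializes h).hom with
    commutes' := fun c => by
      have hh : CommRingCat.ofHom (algebraMap k (X.presheaf.stalk x)) ≫ X.presheaf.stalkSpecializes h =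
          CommRingCat.ofHom (algebraMap k (X.presheaf.stalk y)) := by
        apply Spec.map_injective
        rw [Spec.map_comp, ← fromSpecStalk_over k X x, ← fromSpecStalk_over k X y,
          Scheme.SpecMap_stalkSpecializes_fromSpecStalk_assoc]
      exact congr($(hh) c) }

theorem exists_generic_ne_zero [_root_.IsReduced (X.presheaf.stalk x)] (f : X.presheaf.stalk x) (hf : f ≠ 0) :
    ∃ η ∈ genericPoints X, ∃ h : η ⤳ x, specAlgHom k X x h f ≠ 0 := by
  let j := X.fromSpecStalk x
  obtain ⟨P, hP, hfP⟩ : ∃ P ∈ minimalPrimes (X.presheaf.stalk x), f ∉ P := by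
    by_contra! hh
    refine hf ((nilradical_eq_zero (X.presheaf.stalk x) ▸ ?_ : f ∈ (0 : Ideal _)))
    rw [nilradical_eq_sInf]
    exact Ideal.mem_sInf.2 fun {Q} hQ => by
      haveI : Q.IsPrime := hQ
      obtain ⟨P, hP, hle⟩ := Ideal.exists_minimalPrimes_le (I := (⊥ : Ideal _)) (J := Q) bot_le
      exact hle (hh P hP)
  let P' : Spec (X.presheaf.stalk x) := ⟨P, Ideal.minimalPrimes_isPrime hP⟩
  have hspec : j P' ⤳ x := by
    have : j P' ∈ Set.range j := ⟨P', rfl⟩
    rwa [Scheme.range_fromSpecStalk] at this
  refine ⟨j P', ?_, hspec, ?_⟩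
  · refine ⟨isIrreducible_singleton.closure, fun Z hZ hle => ?_⟩
    have hZ' : IsIrreducible (closure Z) := hZ.closure
    let z := hZ'.genericPoint
    have hz : IsGenericPoint z (closure Z) := hZ'.isGenericPoint_genericPoint isClosed_closure
    have hzP : z ⤳ j P' := hz.specializes (subset_closure (hle (subset_closure rfl)))
    obtain ⟨Q, hQ⟩ : z ∈ Set.range j := by
      rw [Scheme.range_fromSpecStalk]; exact hzP.trans hspec
    have hQP : Q ⤳ P' := (IsPreimmersion.isEmbedding j).isInducing.specializes_iff.1 (hQ.symm ▸ hzP)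
    have hQe : Q = P' := PrimeSpectrum.ext (le_antisymm ((PrimeSpectrum.le_iff_specializes Q P').2 hQP)
      (hP.2 ⟨Q.isPrime, bot_le⟩ ((PrimeSpectrum.le_iff_specializes Q P').2 hQP)))
    have : closure Z = closure {j P'} := by rw [← hQe, hQ]; exact hz.symm
    exact subset_closure.trans this.le
  · intro h0
    have h1 : Spec.map (X.presheaf.stalkSpecializes hspec) (IsLocalRing.closedPoint _) = P' := by
      apply (IsPreimmersion.isEmbedding j).injective
      rw [← Scheme.Hom.comp_apply, Scheme.SpecMap_stalkSpecializes_fromSpecStalk, Scheme.fromSpecStalk_closedPoint]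
    refine hfP ?_
    rw [show P = (Spec.map (X.presheaf.stalkSpecializes hspec) (IsLocalRing.closedPoint _)).asIdeal by rw [h1]]
    show (X.presheaf.stalkSpecializes hspec).hom f ∈ IsLocalRing.maximalIdeal _
    rw [show (X.presheaf.stalkSpecializes hspec).hom f = 0 from h0]
    exact zero_mem _

theorem geometricallyReduced_of_genericPoints [AlgebraicGeometry.IsReduced X]
    (h : ∀ η ∈ genericPoints X, Curv2.IsGeomReducedAt k X η) :
    GeometricallyReduced (X ↘ Spec (CommRingCat.of k)) := by
  refine (geometricallyReduced_iff_forall k X).2 fun x =>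
    (isGeomReducedAt_iff k X x).2 ((Algebra.isGeometricallyReduced_field_iff k _).2 ?_)
  let ι := {η : X // η ∈ genericPoints X ∧ η ⤳ x}
  let M : ι → Type u := fun i => X.presheaf.stalk i.1
  let Φ : X.presheaf.stalk x →ₐ[k] (∀ i, M i) :=
    { RingHom.pi (fun i : ι => (specAlgHom k X x i.2.2).toRingHom) with
      commutes' := fun c => funext fun i => (specAlgHom k X x i.2.2).commutes c }
  have hΦ : Function.Injective Φ := (injective_iff_map_eq_zero Φ).2 fun f hf => by
    by_contra hf0
    obtain ⟨η, hη, hs, hne⟩ := exists_generic_ne_zero k X x f hf0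
    exact hne (congrFun hf (⟨η, hη, hs⟩ : ι))
  let K := AlgebraicClosure k
  haveI : ∀ i, _root_.IsReduced (K ⊗[k] M i) := fun i =>
    haveI := (isGeomReducedAt_iff k X i.1).1 (h i.1 i.2.1)
    GeomRedPull.isReduced_field_tensor K
  exact isReduced_of_injective
    ((Algebra.TensorProduct.piRightHom k k K M).comp (Algebra.TensorProduct.map (AlgHom.id k K) Φ))
    ((GeomRedPull.piRightHom_injective M).comp
      (Module.Flat.lTensor_preserves_injective_linearMap Φ.toLinearMap hΦ))

end Groth.Agent.GeomProp
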