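import Groth.Agent.GeomProp.SmoothRegular
import Groth.Agent.GeomProp.SchemeReduced
import Groth.Agent.SmLocalST.SmoothField
import Groth.Agent.SmDesc.Scheme
import Mathlib

/-!
Smooth points and geometrically regular points.
-/

set_option autoImplicit false
set_option linter.style.haveILetI false

namespace Groth.Agent.GeomProp

universe u

open CategoryTheory AlgebraicGeometry Limits
open scoped TensorProduct

attribute [local instance] Curv2.stalkAlgebra

theorem regular_stalk_of_mem_smoothLocus {k : Type u} [Field k] {X : Scheme.{u}}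
    (f : X ⟶ Spec (CommRingCat.of k)) [LocallyOfFinitePresentation f] {x : X} (hx : x ∈ f.smoothLocus) :
    IsRegularLocalRing (X.presheaf.stalk x) := by
  haveI := SmDesc.smooth_smoothLocus f
  haveI := SmLocalST.isRegularLocalRing_stalk_of_smooth_field (f.smoothLocus.ι ≫ f) ⟨x, hx⟩
  exact IsRegularLocalRing.of_ringEquiv (R := (f.smoothLocus : Scheme).presheaf.stalk ⟨x, hx⟩)
    (asIso (f.smoothLocus.ι.stalkMap ⟨x, hx⟩)).commRingCatIsoToRingEquiv.symm

theorem mem_smoothLocus_of_regular_perfect {k : Type u} [Field k] [PerfectField k] {X : Scheme.{u}}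
    (f : X ⟶ Spec (CommRingCat.of k)) [LocallyOfFinitePresentation f] {x : X}
    (hx : IsRegularLocalRing (X.presheaf.stalk x)) : x ∈ f.smoothLocus := by
  obtain ⟨V, hV, hxV, hVU⟩ := exists_isAffineOpen_mem_and_subset (show x ∈ f ⁻¹ᵁ ⊤ from trivial)
  have hU : IsAffineOpen (⊤ : (Spec (CommRingCat.of k)).Opens) := isAffineOpen_top _
  rw [Scheme.Hom.mem_smoothLocus, formallySmooth_stalkMap_iff ⊤ hU V hV hVU hxV]
  let e : k →+* Γ(Spec (CommRingCat.of k), ⊤) := (Scheme.ΓSpecIso (CommRingCat.of k)).inv.hom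
  let φ : Γ(Spec (CommRingCat.of k), ⊤) →+* Γ(X, V) := (f.appLE ⊤ V hVU).hom
  letI := φ.toAlgebra
  letI := e.toAlgebra
  letI : Algebra k Γ(X, V) := (φ.comp e).toAlgebra
  haveI : IsScalarTower k Γ(Spec (CommRingCat.of k), ⊤) Γ(X, V) := IsScalarTower.of_algebraMap_eq fun _ => rfl
  have heb : Function.Bijective e := ConcreteCategory.bijective_of_isIso (Scheme.ΓSpecIso (CommRingCat.of k)).inv
  let eq : k ≃ₐ[k] Γ(Spec (CommRingCat.of k), ⊤) := AlgEquiv.ofBijective (Algebra.ofId _ _) heb
  haveI : Algebra.FormallyEtale k Γ(Spec (CommRingCat.of k), ⊤) := Algebra.FormallyEtale.of_equiv eq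
  haveI : Algebra.FiniteType k Γ(Spec (CommRingCat.of k), ⊤) := Algebra.FiniteType.equiv inferInstance eq
  haveI : Algebra.FiniteType Γ(Spec (CommRingCat.of k), ⊤) Γ(X, V) := (f.finiteType_appLE hU hV hVU)
  haveI : Algebra.FiniteType k Γ(X, V) := Algebra.FiniteType.trans inferInstance ‹Algebra.FiniteType Γ(Spec (CommRingCat.of k), ⊤) Γ(X, V)›
  let q := (hV.primeIdealOf ⟨x, hxV⟩).asIdeal
  letI : Algebra Γ(X, V) (X.presheaf.stalk x) := TopCat.Presheaf.algebra_section_stalk X.presheaf ⟨x, hxV⟩
  haveI : IsLocalization.AtPrime (X.presheaf.stalk x) q := hV.isLocalization_stalk ⟨x, hxV⟩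
  haveI : IsRegularLocalRing (Localization.AtPrime q) := IsRegularLocalRing.of_ringEquiv (R := X.presheaf.stalk x)
    (IsLocalization.algEquiv q.primeCompl (X.presheaf.stalk x) (Localization.AtPrime q)).toRingEquiv
  haveI := geomReduced_of_perfectField k q.ResidueField
  exact Algebra.FormallySmooth.iff_restrictScalars (R := k).1 (isSmoothAt_of_regular k Γ(X, V) q inferInstance)

variable (k : Type u) [Field k] (X : Scheme.{u}) [X.Over (Spec (CommRingCat.of k))]
  [LocallyOfFinitePresentation (X ↘ Spec (CommRingCat.of k))]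

theorem flat_specMap_field (k' : Type u) [Field k'] [Algebra k k'] :
    Flat (Spec.map (CommRingCat.ofHom (algebraMap k k'))) := by
  rw [HasRingHomProperty.Spec_iff (P := @Flat)]
  exact RingHom.flat_algebraMap_iff.2 inferInstance

theorem mem_smoothLocus_of_bc_regular (x : X) (K : Type u) [Field K] [Algebra k K] [PerfectField K]
    (y : Curv2.bc k X K) (hy : Curv2.bcFst k X K y = x)
    (hreg : IsRegularLocalRing ((Curv2.bc k X K).presheaf.stalk y)) :
    x ∈ (X ↘ Spec (CommRingCat.of k)).smoothLocus := by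
  haveI := flat_specMap_field k K
  haveI : LocallyOfFinitePresentation (Curv2.bcSnd k X K) :=
    inferInstanceAs (LocallyOfFinitePresentation (pullback.snd _ _))
  rw [← hy]
  exact SmDesc.mem_smoothLocus_of_isPullback (IsPullback.of_hasPullback _ _)
    (mem_smoothLocus_of_regular_perfect (Curv2.bcSnd k X K) hreg)

theorem isNoetherianRing_tensor_stalk (x : X) (K : Type u) [Field K] [Algebra k K] :
    IsNoetherianRing (K ⊗[k] X.presheaf.stalk x) := by
  let A : Type u := X.presheaf.stalk x
  obtain ⟨V, hV, hxV, -⟩ := exists_isAffineOpen_mem_and_subset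
    (show x ∈ (X ↘ Spec (CommRingCat.of k)) ⁻¹ᵁ ⊤ from trivial)
  letI : Algebra Γ(X, V) A := TopCat.Presheaf.algebra_section_stalk X.presheaf ⟨x, hxV⟩
  haveI : IsLocalization.AtPrime A (hV.primeIdealOf ⟨x, hxV⟩).asIdeal := hV.isLocalization_stalk ⟨x, hxV⟩
  let φ : k →+* Γ(X, V) := ((Scheme.ΓSpecIso (CommRingCat.of k)).inv ≫
    (X ↘ Spec (CommRingCat.of k)).appLE ⊤ V le_top).hom
  letI := φ.toAlgebra
  haveI : Algebra.FiniteType k Γ(X, V) := RingHom.FiniteType.comp
    ((X ↘ Spec (CommRingCat.of k)).finiteType_appLE (isAffineOpen_top _) hV le_top)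
    (RingHom.FiniteType.of_surjective _
      (ConcreteCategory.bijective_of_isIso (Scheme.ΓSpecIso (CommRingCat.of k)).inv).2)
  haveI : IsScalarTower k Γ(X, V) A := IsScalarTower.of_algebraMap_eq fun c => by
    show X.presheaf.germ ⊤ x trivial ((X ↘ Spec (CommRingCat.of k)).appTop ((Scheme.ΓSpecIso (CommRingCat.of k)).inv c)) =
      X.presheaf.germ V x hxV ((X ↘ Spec (CommRingCat.of k)).appLE ⊤ V le_top ((Scheme.ΓSpecIso (CommRingCat.of k)).inv c))
    rw [Scheme.Hom.appLE, CommRingCat.comp_apply, TopCat.Presheaf.germ_res_apply]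
    rfl
  haveI : Algebra.EssFiniteType Γ(X, V) A :=
    .of_isLocalization _ (hV.primeIdealOf ⟨x, hxV⟩).asIdeal.primeCompl
  haveI : Algebra.EssFiniteType k A := Algebra.EssFiniteType.comp k Γ(X, V) A
  haveI := FlatDepth.isNoetherianRing_tensor_essFinite k K A
  exact isNoetherianRing_of_ringEquiv (A ⊗[k] K) (Algebra.TensorProduct.comm k A K).toRingEquiv

theorem isGeomRegularAt_iff_mem_smoothLocus (x : X) :
    Curv2.IsGeomRegularAt k X x ↔ x ∈ (X ↘ Spec (CommRingCat.of k)).smoothLocus := by
  refine ⟨fun h => ?_, fun h k' _ _ _ x' hx' => ?_⟩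
  · haveI : IsLocallyNoetherian X := LocallyOfFiniteType.isLocallyNoetherian (X ↘ Spec (CommRingCat.of k))
    let K := AlgebraicClosure k
    obtain ⟨y, hy, -⟩ := Scheme.Pullback.exists_preimage_pullback (f := X ↘ Spec (CommRingCat.of k))
      (g := Spec.map (CommRingCat.ofHom (algebraMap k K))) x (IsLocalRing.closedPoint K)
      (Subsingleton.elim (α := PrimeSpectrum k) _ _)
    refine mem_smoothLocus_of_bc_regular k X x K y hy ?_
    let A : Type u := X.presheaf.stalk x
    obtain ⟨Q, _, -, ⟨g⟩⟩ := (bc_stalks k X K x).1 y hy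
    haveI : IsNoetherianRing (K ⊗[k] A) := isNoetherianRing_tensor_stalk k X x K
    haveI : IsRegularRing (A ⊗[k] K) := FlatDepth.isRegularRing_of_equiv _ _
      (Algebra.TensorProduct.comm k K A).toRingEquiv
      (good_regular.all k A (fun k' _ _ hfin _ => (isGeomRegularAt_iff k X x).1 h k' hfin) K)
    haveI := IsRegularRing.isRegularLocalRing_localization (R := A ⊗[k] K) Q
    exact IsRegularLocalRing.of_ringEquiv (R := Localization.AtPrime Q) g
  · haveI : LocallyOfFinitePresentation (Curv2.bcSnd k X k') :=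
      inferInstanceAs (LocallyOfFinitePresentation (pullback.snd _ _))
    subst hx'
    exact regular_stalk_of_mem_smoothLocus (Curv2.bcSnd k X k')
      (SmDesc.preimage_smoothLocus_le (IsPullback.of_hasPullback _ _) h)

theorem smoothLocus_iff_regular [PerfectField k] (x : X) :
    x ∈ (X ↘ Spec (CommRingCat.of k)).smoothLocus ↔ IsRegularLocalRing (X.presheaf.stalk x) :=
  ⟨regular_stalk_of_mem_smoothLocus _, mem_smoothLocus_of_regular_perfect _⟩

omit [X.Over (Spec (CommRingCat.of k))] [LocallyOfFinitePresentation (X ↘ Spec (CommRingCat.of k))] in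
theorem isNoetherian_openCover_point [IsLocallyNoetherian X] (η : X) :
    ∃ V : X.Opens, η ∈ V ∧ TopologicalSpace.NoetherianSpace V := by
  obtain ⟨V, hV, hxV, -⟩ := exists_isAffineOpen_mem_and_subset (show η ∈ (⊤ : X.Opens) from trivial)
  haveI : IsNoetherianRing Γ(X, V) := IsLocallyNoetherian.component_noetherian ⟨V, hV⟩
  exact ⟨V, hxV, (noetherianSpace_of_isAffineOpen V hV : _)⟩

omit [X.Over (Spec (CommRingCat.of k))] [LocallyOfFinitePresentation (X ↘ Spec (CommRingCat.of k))] in
theorem genericPoint_mem_of_dense [IsLocallyNoetherian X] {η : X} (hη : η ∈ genericPoints X) (U : X.Opens) (hU : Dense (U : Set X)) :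
    η ∈ U := by
  obtain ⟨V, hηV, hVn⟩ := isNoetherian_openCover_point X η
  let η' : V := ⟨η, hηV⟩
  let Z := irreducibleComponent η'
  have hZ : Z ∈ irreducibleComponents V := irreducibleComponent_mem_irreducibleComponents η'
  obtain ⟨W, hW, ⟨w, hw⟩, hWZ⟩ :=
    @TopologicalSpace.NoetherianSpace.exists_isOpen_nonempty_subset_irreducibleComponent V _ hVn Z hZ
  obtain ⟨z, ⟨v, hvW, rfl⟩, hzU⟩ := dense_iff_inter_open.1 hU _ (V.2.isOpenMap_subtype_val _ hW) ⟨w.1, w, hw, rfl⟩
  haveI : QuasiSober {x : X // x ∈ V} := V.2.isOpenEmbedding_subtypeVal.quasiSober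
  let ζ := (isIrreducible_irreducibleComponent (x := η')).genericPoint
  have hζ : IsGenericPoint ζ Z :=
    (isIrreducible_irreducibleComponent (x := η')).isGenericPoint_genericPoint isClosed_irreducibleComponent
  have h1 : ζ.1 ⤳ η := (hζ.specializes mem_irreducibleComponent).map continuous_subtype_val
  have h2 : η ⤳ ζ.1 := specializes_iff_closure_subset.2
    (hη.2 isIrreducible_singleton.closure (specializes_iff_closure_subset.1 h1))
  exact (h2.trans ((hζ.specializes (hWZ hvW)).map continuous_subtype_val)).mem_open U.2 hzU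

theorem geometricallyReduced_iff_dense_smooth [AlgebraicGeometry.IsReduced X] :
    GeometricallyReduced (X ↘ Spec (CommRingCat.of k)) ↔
      ∃ U : X.Opens, Dense (U : Set X) ∧ Smooth (U.ι ≫ (X ↘ Spec (CommRingCat.of k))) := by
  refine ⟨fun h => ⟨(X ↘ Spec (CommRingCat.of k)).smoothLocus, ?_, SmDesc.smooth_smoothLocus _⟩,
    fun ⟨U, hU, hs⟩ => geometricallyReduced_of_genericPoints k X fun η hη => ?_⟩
  · refine dense_iff_closure_eq.2 (Set.eq_univ_of_univ_subset (genericPoints.closure (α := X) ▸ closure_mono ?_))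
    intro η hη
    let K := AlgebraicClosure k
    obtain ⟨y, hy, -⟩ := Scheme.Pullback.exists_preimage_pullback (f := X ↘ Spec (CommRingCat.of k))
      (g := Spec.map (CommRingCat.ofHom (algebraMap k K))) η (IsLocalRing.closedPoint K)
      (Subsingleton.elim (α := PrimeSpectrum k) _ _)
    refine mem_smoothLocus_of_bc_regular k X η K y hy ?_
    let A : Type u := X.presheaf.stalk η
    obtain ⟨Q, _, -, ⟨g⟩⟩ := (bc_stalks k X K η).1 y hy
    letI : Field A := (isField_stalk_of_closure_mem_irreducibleComponents X η hη).toField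
    haveI : IsNoetherianRing (K ⊗[k] A) := isNoetherianRing_tensor_stalk k X η K
    haveI : Algebra.IsGeometricallyReduced k A :=
      (isGeomReducedAt_iff k X η).1 ((geometricallyReduced_iff_forall k X).1 h η)
    haveI : IsRegularRing (A ⊗[k] K) := FlatDepth.isRegularRing_of_equiv _ _
      (Algebra.TensorProduct.comm k K A).toRingEquiv (isRegularRing_tensor_fields k K A)
    haveI := IsRegularRing.isRegularLocalRing_localization (R := A ⊗[k] K) Q
    exact IsRegularLocalRing.of_ringEquiv (R := Localization.AtPrime Q) g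
  · intro k' _ _ x' hx'
    haveI : LocallyOfFinitePresentation (Curv2.bcSnd k X k') :=
      inferInstanceAs (LocallyOfFinitePresentation (pullback.snd _ _))
    haveI : IsLocallyNoetherian X := LocallyOfFiniteType.isLocallyNoetherian (X ↘ Spec (CommRingCat.of k))
    subst hx'
    haveI := regular_stalk_of_mem_smoothLocus (Curv2.bcSnd k X k')
      (SmDesc.preimage_smoothLocus_le (IsPullback.of_hasPullback _ _)
        (SmDesc.mem_smoothLocus_of_smooth_ι _ (genericPoint_mem_of_dense X hη U hU) : _))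
    haveI := RegLoc.isDomain ((Curv2.bc k X k').presheaf.stalk x')
    infer_instance

end Groth.Agent.GeomProp
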