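import Groth.Agent.GeomProp.SmoothRegular
import Groth.Agent.SmDesc.Scheme
import Groth.Agent.FlatDepth.AtPrime
import Groth.Agent.FlatDepth.Fibre
import Groth.Agent.FlatDepth.RegHom
import Groth.Agent.S1182
import Groth.Agent.SmoothRed.Basic
import Mathlib

/-!
Local rings along smooth morphisms.
-/

set_option autoImplicit false
set_option linter.style.haveILetI false

namespace Groth.Agent.GeomProp

universe u

open CategoryTheory AlgebraicGeometry IsLocalRing
open scoped TensorProduct

/-- The fibre local rings of a smooth algebra are regular. -/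
theorem isRegularLocalRing_fibLocRing_of_smooth (A B : Type u) [CommRing A] [CommRing B] [Algebra A B]
    [Algebra.Smooth A B] (q : Ideal B) [q.IsPrime] : IsRegularLocalRing (EGA4.FibLocRing A B q) := by
  obtain ⟨Q, _, ⟨e⟩⟩ := FlatDepth.exists_fibre_equiv (A := A) q
  let p := q.comap (algebraMap A B)
  haveI : Algebra.Smooth p.ResidueField (p.Fiber B) := inferInstance
  haveI := isRegularRing_of_smooth p.ResidueField (p.Fiber B)
  haveI := IsRegularRing.isRegularLocalRing_localization Q
  exact IsRegularLocalRing.of_ringEquiv (R := Localization.AtPrime Q) e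

/-- The affine local model of a morphism at a smooth point. -/
theorem exists_local_model {X Y : Scheme.{u}} (f : X ⟶ Y) [LocallyOfFinitePresentation f] (x : X)
    (hx : x ∈ f.smoothLocus) :
    ∃ (A B : Type u) (_ : CommRing A) (_ : CommRing B) (_ : Algebra A B), Algebra.Smooth A B ∧
      (IsLocallyNoetherian Y → IsNoetherianRing A) ∧ ∃ (q : Ideal B) (_ : q.IsPrime)
      (eY : Y.presheaf.stalk (f.base x) ≃+* Localization.AtPrime (q.comap (algebraMap A B)))
      (eX : X.presheaf.stalk x ≃+* Localization.AtPrime q),
      ∀ a, eX ((f.stalkMap x).hom a) = Localization.localRingHom (q.comap (algebraMap A B)) q (algebraMap A B) rfl (eY a) := by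
  obtain ⟨U, hU, V, hV, hVU, hxV, H⟩ := exists_smooth_of_formallySmooth_stalk f x hx
  let φ : Γ(Y, U) →+* Γ(X, V) := (f.appLE U V hVU).hom
  letI : Algebra Γ(Y, U) Γ(X, V) := φ.toAlgebra
  refine ⟨Γ(Y, U), Γ(X, V), inferInstance, inferInstance, inferInstance, H, fun h =>
    IsLocallyNoetherian.component_noetherian ⟨U, hU⟩, (hV.primeIdealOf ⟨x, hxV⟩).asIdeal, inferInstance, ?_⟩
  have hcomap := congr($(IsAffineOpen.comap_primeIdealOf_appLE U hU V hV hVU hxV).1)
  let e := IsAffineOpen.arrowStalkMapIso f U hU V hV hVU hxV
  suffices key : ∀ (p : Ideal Γ(Y, U)) (_ : p.IsPrime) (hp : p = (hV.primeIdealOf ⟨x, hxV⟩).asIdeal.comap φ)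
      (eY : Y.presheaf.stalk (f.base x) ≃+* Localization.AtPrime p)
      (eX : X.presheaf.stalk x ≃+* Localization.AtPrime (hV.primeIdealOf ⟨x, hxV⟩).asIdeal),
      (∀ a, eX ((f.stalkMap x).hom a) = Localization.localRingHom p _ φ hp (eY a)) →
      ∃ (eY : Y.presheaf.stalk (f.base x) ≃+* Localization.AtPrime ((hV.primeIdealOf ⟨x, hxV⟩).asIdeal.comap φ))
        (eX : X.presheaf.stalk x ≃+* Localization.AtPrime (hV.primeIdealOf ⟨x, hxV⟩).asIdeal),
        ∀ a, eX ((f.stalkMap x).hom a) = Localization.localRingHom _ _ φ rfl (eY a) by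
    refine key _ inferInstance hcomap.symm
      (Iso.commRingCatIsoToRingEquiv (Arrow.leftFunc.mapIso e))
      (Iso.commRingCatIsoToRingEquiv (Arrow.rightFunc.mapIso e)) fun a => ?_
    exact (congr($(e.hom.w).hom a)).symm
  rintro p _ rfl eY eX h
  exact ⟨eY, eX, h⟩

theorem mem_smoothLocus_of_nhd {X Y : Scheme.{u}} (f : X ⟶ Y) [LocallyOfFinitePresentation f] (x : X)
    (hx : ∃ U : X.Opens, x ∈ U ∧ Smooth (U.ι ≫ f)) : x ∈ f.smoothLocus := by
  obtain ⟨U, hxU, hU⟩ := hx
  exact SmDesc.mem_smoothLocus_of_smooth_ι f hxU

section local_rings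

variable {A B : Type u} [CommRing A] [CommRing B] [Algebra A B] [Algebra.Smooth A B] [IsNoetherianRing A]
  (q : Ideal B) [q.IsPrime]

theorem isNoetherianRing_of_smooth (A B : Type u) [CommRing A] [CommRing B] [Algebra A B] [Algebra.Smooth A B]
    [IsNoetherianRing A] : IsNoetherianRing B := Algebra.FiniteType.isNoetherianRing A B

theorem isRegular_iff_of_smooth : IsRegularLocalRing (Localization.AtPrime q) ↔
    IsRegularLocalRing (Localization.AtPrime (q.comap (algebraMap A B))) := by
  haveI := isNoetherianRing_of_smooth A B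
  exact ⟨FlatDepth.isRegular_atPrime_descent q,
    fun h => FlatDepth.isRegular_atPrime_ascent q h (isRegularLocalRing_fibLocRing_of_smooth A B q)⟩

theorem hasRk_iff_of_smooth (n : ℕ) : LocCoh.HasRk n (Localization.AtPrime q) ↔
    LocCoh.HasRk n (Localization.AtPrime (q.comap (algebraMap A B))) := by
  haveI := isNoetherianRing_of_smooth A B
  refine ⟨FlatDepth.hasRk_at_descent n q, FlatDepth.hasRk_at_ascent n (fun P _ => ?_) q⟩
  intro Q _ _
  haveI := isRegularLocalRing_fibLocRing_of_smooth A B P
  exact SerreReg.isRegularLocalRing_localization (EGA4.FibLocRing A B P) Q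

theorem hasSk_iff_of_smooth (n : ℕ) : LocCoh.HasSk n (Localization.AtPrime q) (Localization.AtPrime q) ↔
    LocCoh.HasSk n (Localization.AtPrime (q.comap (algebraMap A B))) (Localization.AtPrime (q.comap (algebraMap A B))) := by
  haveI := isNoetherianRing_of_smooth A B
  let p := q.comap (algebraMap A B)
  haveI : q.LiesOver p := ⟨rfl⟩
  letI := Localization.AtPrime.algebraOfLiesOver p q
  obtain ⟨h1, h2, -⟩ := FlatDepth.atPrime_setup q p
  haveI := h1
  haveI := h2
  haveI : Module.FaithfullyFlat (Localization.AtPrime p) (Localization.AtPrime q) :=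
    Module.FaithfullyFlat.of_flat_of_isLocalHom
  haveI : IsNoetherianRing (Localization.AtPrime p) := IsLocalization.isNoetherianRing p.primeCompl _ inferInstance
  haveI : IsNoetherianRing (Localization.AtPrime q) := IsLocalization.isNoetherianRing q.primeCompl _ inferInstance
  refine ⟨FlatDepth.hasSk_descent (A := Localization.AtPrime p) (B := Localization.AtPrime q) n, fun h => ?_⟩
  rw [FlatDepth.hasSk_iff_condS]
  intro P hP
  let P₀ := P.comap (algebraMap B (Localization.AtPrime q))
  haveI := FlatDepth.isLocalRing_fibLocRing (A := A) P₀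
  haveI := isRegularLocalRing_fibLocRing_of_smooth A B P₀
  have hA : FlatDepth.CondS n (Localization.AtPrime (P₀.comap (algebraMap A B))) :=
    FlatDepth.hasSk_loc_apply p h _ (Ideal.comap_mono (FlatDepth.comap_loc_le q P))
  have hF : FlatDepth.CondS n (EGA4.FibLocRing A B P₀) := by
    haveI := CMFlat.isCohenMacaulayLocalRing_of_isRegularLocalRing (EGA4.FibLocRing A B P₀)
    have := LocCoh.IsCohenMacaulayLocalRing.supportDim_eq_depth (R := EGA4.FibLocRing A B P₀)
    rw [Module.supportDim_self_eq_ringKrullDim] at this
    rw [FlatDepth.CondS, this]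
    exact min_le_right _ _
  exact (FlatDepth.condS_atPrime_ascent n P₀ hA hF).of_ringEquiv
    (IsLocalization.localizationLocalizationAtPrimeIsoLocalization q.primeCompl P).toRingEquiv

end local_rings

section nonNoetherian

variable (A B : Type u) [CommRing A] [CommRing B] [Algebra A B] [Algebra.Smooth A B] (q : Ideal B) [q.IsPrime]

theorem localHom_setup_of_smooth :
    (Localization.localRingHom (q.comap (algebraMap A B)) q (algebraMap A B) rfl).Flat ∧
      IsLocalHom (Localization.localRingHom (q.comap (algebraMap A B)) q (algebraMap A B) rfl) :=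
  ⟨RingHom.Flat.localRingHom (by rw [RingHom.flat_algebraMap_iff]; infer_instance) _ _ _,
    Localization.isLocalHom_localRingHom _ _ _ _⟩

theorem exists_smooth_localModel : ∃ (B' : Type u) (_ : CommRing B') (_ : Algebra (Localization.AtPrime (q.comap (algebraMap A B))) B')
    (_ : Algebra.Smooth (Localization.AtPrime (q.comap (algebraMap A B))) B') (q' : Ideal B') (_ : q'.IsPrime),
      Nonempty (Localization.AtPrime q' ≃+* Localization.AtPrime q) := by
  let p := q.comap (algebraMap A B)
  let B' := Localization (Algebra.algebraMapSubmonoid B p.primeCompl)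
  haveI : Algebra.IsPushout A (Localization.AtPrime p) B B' :=
    .symm <| Algebra.isPushout_of_isLocalization p.primeCompl _ _ _
  haveI hs : Algebra.Smooth (Localization.AtPrime p) B' :=
    .of_equiv (Algebra.IsPushout.equiv A (Localization.AtPrime p) B B')
  have hdisj : Disjoint (Algebra.algebraMapSubmonoid B p.primeCompl : Set B) (q : Set B) := by
    rw [Set.disjoint_left]
    rintro _ ⟨x, hx, rfl⟩ h
    exact hx h
  let q' : Ideal B' := q.map (algebraMap B B')
  haveI hq' : q'.IsPrime :=
    IsLocalization.isPrime_of_isPrime_disjoint (Algebra.algebraMapSubmonoid B p.primeCompl) _ q ‹_› hdisj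
  have hcomap : q'.comap (algebraMap B B') = q :=
    IsLocalization.comap_map_of_isPrime_disjoint (Algebra.algebraMapSubmonoid B p.primeCompl) B' ‹_› hdisj
  haveI : IsLocalization.AtPrime (Localization.AtPrime q') q := by
    have := IsLocalization.isLocalization_isLocalization_atPrime_isLocalization
      (S := B') (Algebra.algebraMapSubmonoid B p.primeCompl) (Localization.AtPrime q') q'
    simpa only [hcomap] using this
  exact ⟨B', inferInstance, inferInstance, hs, q', hq',
    ⟨(IsLocalization.algEquiv q.primeCompl (Localization.AtPrime q') (Localization.AtPrime q)).toRingEquiv⟩⟩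

theorem isReduced_iff_of_smooth :
    IsReduced (Localization.AtPrime q) ↔ IsReduced (Localization.AtPrime (q.comap (algebraMap A B))) := by
  refine ⟨fun h => ?_, fun h => ?_⟩
  · let p := q.comap (algebraMap A B)
    obtain ⟨h1, h2⟩ := localHom_setup_of_smooth A B q
    let φ : Localization.AtPrime p →+* Localization.AtPrime q := Localization.localRingHom p q (algebraMap A B) rfl
    algebraize [φ]
    haveI : Module.FaithfullyFlat (Localization.AtPrime p) (Localization.AtPrime q) :=
      Module.FaithfullyFlat.of_flat_of_isLocalHom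
    exact isReduced_of_injective (algebraMap (Localization.AtPrime p) (Localization.AtPrime q))
      (FaithfulSMul.algebraMap_injective _ _)
  · obtain ⟨B', _, _, _, q', _, ⟨e⟩⟩ := exists_smooth_localModel A B q
    haveI := SmoothRed.isReduced_of_smooth (Localization.AtPrime (q.comap (algebraMap A B))) B'
    exact isReduced_of_injective e.symm e.symm.injective

theorem normal_iff_of_smooth :
    (IsDomain (Localization.AtPrime q) ∧ IsIntegrallyClosed (Localization.AtPrime q)) ↔
      (IsDomain (Localization.AtPrime (q.comap (algebraMap A B))) ∧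
        IsIntegrallyClosed (Localization.AtPrime (q.comap (algebraMap A B)))) := by
  refine ⟨fun ⟨_, _⟩ => ?_, fun ⟨_, _⟩ => ?_⟩
  · let p := q.comap (algebraMap A B)
    obtain ⟨h1, h2⟩ := localHom_setup_of_smooth A B q
    let φ : Localization.AtPrime p →+* Localization.AtPrime q := Localization.localRingHom p q (algebraMap A B) rfl
    algebraize [φ]
    haveI : Module.FaithfullyFlat (Localization.AtPrime p) (Localization.AtPrime q) :=
      Module.FaithfullyFlat.of_flat_of_isLocalHom
    exact FlatDepth.isIntegrallyClosed_descent (R := Localization.AtPrime p) (S := Localization.AtPrime q)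
  · obtain ⟨B', _, _, _, q', _, ⟨e⟩⟩ := exists_smooth_localModel A B q
    obtain ⟨_, _⟩ := S1182.normal_atPrime_of_smooth (Localization.AtPrime (q.comap (algebraMap A B))) B' q'
    exact ⟨e.toMulEquiv.symm.isDomain _, IsIntegrallyClosed.of_equiv e⟩

end nonNoetherian

section scheme

variable {X Y : Scheme.{u}} (f : X ⟶ Y) [LocallyOfFinitePresentation f] (x : X) (hx : x ∈ f.smoothLocus)

include hx in
theorem stalk_setup [IsLocallyNoetherian Y] :
    IsNoetherianRing (X.presheaf.stalk x) ∧ IsNoetherianRing (Y.presheaf.stalk (f.base x)) ∧ (f.stalkMap x).hom.Flat ∧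
      IsRegularLocalRing (↑(X.presheaf.stalk x) ⧸
        (IsLocalRing.maximalIdeal ↑(Y.presheaf.stalk (f.base x))).map (f.stalkMap x).hom) := by
  haveI : IsLocallyNoetherian X := LocallyOfFiniteType.isLocallyNoetherian f
  obtain ⟨A, B, _, _, _, _, hA, q, _, eY, eX, h⟩ := exists_local_model f x hx
  haveI := hA inferInstance
  refine ⟨inferInstance, inferInstance, ?_, ?_⟩
  · have : (f.stalkMap x).hom = eX.symm.toRingHom.comp
        ((Localization.localRingHom (q.comap (algebraMap A B)) q (algebraMap A B) rfl).comp eY.toRingHom) :=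
      RingHom.ext fun a => eX.injective (by simp [h a])
    rw [this]
    exact ((RingHom.Flat.of_bijective eY.bijective).comp (localHom_setup_of_smooth A B q).1).comp
      (RingHom.Flat.of_bijective eX.symm.bijective)
  · haveI := isRegularLocalRing_fibLocRing_of_smooth A B q
    refine IsRegularLocalRing.of_ringEquiv (R := EGA4.FibLocRing A B q) (Ideal.quotientEquiv _ _ eX ?_).symm
    let p := q.comap (algebraMap A B)
    have h2 : eX.toRingHom.comp (f.stalkMap x).hom =
        (Localization.localRingHom p q (algebraMap A B) rfl).comp eY.toRingHom := RingHom.ext h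
    have h3 : (IsLocalRing.maximalIdeal (Y.presheaf.stalk (f.base x))).map eY.toRingHom =
        IsLocalRing.maximalIdeal (Localization.AtPrime p) := IsLocalRing.map_ringEquiv_maximalIdeal eY
    have h4 : (Localization.localRingHom p q (algebraMap A B) rfl).comp (algebraMap A (Localization.AtPrime p)) =
        algebraMap A (Localization.AtPrime q) := RingHom.ext fun a => by
      rw [RingHom.comp_apply, Localization.localRingHom_to_map, ← IsScalarTower.algebraMap_apply]
    show _ = Ideal.map eX.toRingHom (Ideal.map (f.stalkMap x).hom _)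
    rw [Ideal.map_map, h2, ← Ideal.map_map, h3, ← Localization.AtPrime.map_eq_maximalIdeal, Ideal.map_map, h4]

end scheme


theorem hasRk_of_equiv {R R' : Type u} [CommRing R] [CommRing R'] (n : ℕ) (e : R ≃+* R')
    (h : LocCoh.HasRk n R) : LocCoh.HasRk n R' := fun p _ hp => by
  haveI := h (p.comap e) (by rwa [RingEquiv.height_comap e p])
  exact IsRegularLocalRing.of_ringEquiv (IsLocalization.ringEquivOfRingEquiv
    (Localization.AtPrime (p.comap e)) (Localization.AtPrime p) e (e.map_primeCompl_comap_eq p))

end Groth.Agent.GeomProp
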