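import Groth.Agent.GeomProp.BaseChange
import Groth.Agent.FlatDepth.Localize
import Mathlib

/-!
Regularity of a ring map is local.
-/

set_option autoImplicit false
set_option linter.style.haveILetI false

namespace Groth.Agent.GeomProp

universe u

open IsLocalRing TensorProduct

theorem isRegularRing_of_isLocalization {R L : Type u} [CommRing R] [CommRing L] [Algebra R L] (M : Submonoid R)
    [IsLocalization M L] (h : IsRegularRing R) : IsRegularRing L := by
  haveI := h
  haveI : IsNoetherianRing L := IsLocalization.isNoetherianRing M L inferInstance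
  refine isRegularRing_iff.2 fun Q _ => ?_
  haveI := IsLocalization.isLocalization_isLocalization_atPrime_isLocalization M (Localization.AtPrime Q) Q
  exact IsRegularLocalRing.of_ringEquiv (R := Localization.AtPrime (Q.comap (algebraMap R L)))
    (IsLocalization.algEquiv (Q.comap (algebraMap R L)).primeCompl _ _).toRingEquiv

section

variable {R Λ R' Λ' : Type u} [CommRing R] [CommRing Λ] [CommRing R'] [CommRing Λ'] [Algebra R Λ] [Algebra R R']
  [Algebra Λ Λ'] [Algebra R' Λ'] [Algebra R Λ'] [IsScalarTower R R' Λ'] [IsScalarTower R Λ Λ']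
  (S : Submonoid R) [IsLocalization S R']

include S in
theorem isPushout_self : (algebraMap R R').SurjectiveOnStalks ∧ Algebra.IsPushout R R' Λ' Λ' := by
  haveI : IsLocalization (Algebra.algebraMapSubmonoid Λ' S) Λ' := IsLocalization.self (by
    rintro _ ⟨s, hs, rfl⟩
    show IsUnit (algebraMap R Λ' s)
    rw [IsScalarTower.algebraMap_apply R R' Λ']
    exact (IsLocalization.map_units R' (⟨s, hs⟩ : S)).map _)
  exact ⟨RingHom.surjectiveOnStalks_of_isLocalization (M := S) R',
    (Algebra.isPushout_of_isLocalization (R := R) (A := R') S Λ' Λ').symm⟩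

variable (T : Submonoid Λ) [IsLocalization T Λ']

include T in
theorem tensor_localization (K : Type u) [CommRing K] [Algebra R K] :
    ∃ (_ : Algebra (Λ ⊗[R] K) (Λ' ⊗[R] K)),
      IsScalarTower Λ (Λ ⊗[R] K) (Λ' ⊗[R] K) ∧
        IsLocalization (Algebra.algebraMapSubmonoid (Λ ⊗[R] K) T) (Λ' ⊗[R] K) := by
  let f : Λ ⊗[R] K →ₐ[R] Λ' ⊗[R] K := Algebra.TensorProduct.map (IsScalarTower.toAlgHom R Λ Λ') (AlgHom.id R K)
  letI : Algebra (Λ ⊗[R] K) (Λ' ⊗[R] K) := f.toRingHom.toAlgebra
  haveI : IsScalarTower Λ (Λ ⊗[R] K) (Λ' ⊗[R] K) := IsScalarTower.of_algebraMap_eq fun s => by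
    show algebraMap Λ Λ' s ⊗ₜ[R] (1 : K) = f (s ⊗ₜ 1)
    rfl
  exact ⟨inferInstance, inferInstance, IsLocalization.tensorProduct_tensorProduct R K T Λ'
    (RingHom.ext fun c => by
      show f (1 ⊗ₜ c) = 1 ⊗ₜ c
      exact congrArg (· ⊗ₜ[R] c) (map_one (algebraMap Λ Λ')))⟩

/-- The two descriptions of a base changed fibre. -/
theorem exists_fibre_equiv_tensor (p : Ideal R) [p.IsPrime] (B : Type u) [CommRing B] [Algebra R B] (K : Type u)
    [CommRing K] [Algebra p.ResidueField K] [Algebra R K] [IsScalarTower R p.ResidueField K] :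
    Nonempty ((K ⊗[p.ResidueField] p.Fiber B) ≃+* (B ⊗[R] K)) :=
  ⟨(Algebra.TensorProduct.cancelBaseChange R p.ResidueField K K B).toRingEquiv.trans
    (Algebra.TensorProduct.comm R K B).toRingEquiv⟩

include S T in
theorem regular_localizeBoth [IsNoetherianRing Λ] (h : CAlg.IsRegularHom R Λ) : CAlg.IsRegularHom R' Λ' := by
  obtain ⟨_, h⟩ := h
  obtain ⟨hs, _⟩ := isPushout_self (R := R) (R' := R') (Λ' := Λ') S
  haveI : IsNoetherianRing Λ' := IsLocalization.isNoetherianRing T Λ' inferInstance
  haveI : Module.Flat Λ Λ' := IsLocalization.flat _ T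
  haveI : Module.Flat R Λ' := Module.Flat.trans R Λ Λ'
  refine ⟨(Module.flat_iff_of_isLocalization R' S Λ').2 inferInstance,
    fun q _ => ⟨FlatDepth.isNoetherianRing_tensor_essFinite R' Λ' q.ResidueField, fun K _ _ hK => ?_⟩⟩
  obtain ⟨_, hfin, ⟨e⟩⟩ := FlatDepth.fibre_pushout (B := Λ') (B' := Λ') hs q K
  let p := q.comap (algebraMap R R')
  letI : Algebra R K := ((algebraMap p.ResidueField K).comp (algebraMap R p.ResidueField)).toAlgebra
  haveI : IsScalarTower R p.ResidueField K := IsScalarTower.of_algebraMap_eq fun _ => rfl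
  obtain ⟨e1⟩ := exists_fibre_equiv_tensor p Λ K
  obtain ⟨e2⟩ := exists_fibre_equiv_tensor p Λ' K
  obtain ⟨_, _, _⟩ := tensor_localization (R := R) (Λ' := Λ') T K
  exact FlatDepth.isRegularRing_of_equiv _ _ (e2.symm.trans e.symm)
    (isRegularRing_of_isLocalization (Algebra.algebraMapSubmonoid (Λ ⊗[R] K) T)
      (FlatDepth.isRegularRing_of_equiv _ _ e1 ((h p).2 K (hfin hK))))

end

theorem regular_iff_localRingHom (R Λ : Type u) [CommRing R] [CommRing Λ] [Algebra R Λ] [IsNoetherianRing Λ] :
    (CAlg.IsRegularHom R Λ ↔ ∀ (q : Ideal Λ) [q.IsPrime],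
      letI := (Localization.localRingHom (Ideal.comap (algebraMap R Λ) q) q (algebraMap R Λ) rfl).toAlgebra
      CAlg.IsRegularHom (Localization.AtPrime (Ideal.comap (algebraMap R Λ) q)) (Localization.AtPrime q)) ∧
    (CAlg.IsRegularHom R Λ ↔ ∀ (n : Ideal Λ) [n.IsMaximal],
      letI := (Localization.localRingHom (Ideal.comap (algebraMap R Λ) n) n (algebraMap R Λ) rfl).toAlgebra
      CAlg.IsRegularHom (Localization.AtPrime (Ideal.comap (algebraMap R Λ) n)) (Localization.AtPrime n)) := by
  have hforward : CAlg.IsRegularHom R Λ → ∀ (q : Ideal Λ) [q.IsPrime],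
      letI := (Localization.localRingHom (Ideal.comap (algebraMap R Λ) q) q (algebraMap R Λ) rfl).toAlgebra
      CAlg.IsRegularHom (Localization.AtPrime (Ideal.comap (algebraMap R Λ) q)) (Localization.AtPrime q) := by
    intro h q _
    letI := (Localization.localRingHom (Ideal.comap (algebraMap R Λ) q) q (algebraMap R Λ) rfl).toAlgebra
    haveI : IsScalarTower R (Localization.AtPrime (q.comap (algebraMap R Λ))) (Localization.AtPrime q) :=
      IsScalarTower.of_algebraMap_eq fun r => by
        rw [RingHom.algebraMap_toAlgebra, Localization.localRingHom_to_map, ← IsScalarTower.algebraMap_apply]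
    exact regular_localizeBoth (R := R) (Λ := Λ) (q.comap (algebraMap R Λ)).primeCompl q.primeCompl h
  have hback : (∀ (n : Ideal Λ) [n.IsMaximal],
      letI := (Localization.localRingHom (Ideal.comap (algebraMap R Λ) n) n (algebraMap R Λ) rfl).toAlgebra
      CAlg.IsRegularHom (Localization.AtPrime (Ideal.comap (algebraMap R Λ) n)) (Localization.AtPrime n)) →
      CAlg.IsRegularHom R Λ := by
    intro h
    have hflat : ∀ (n : Ideal Λ) [n.IsMaximal], Module.Flat R (Localization.AtPrime n) := fun n _ => by
      letI := (Localization.localRingHom (Ideal.comap (algebraMap R Λ) n) n (algebraMap R Λ) rfl).toAlgebra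
      haveI : IsScalarTower R (Localization.AtPrime (n.comap (algebraMap R Λ))) (Localization.AtPrime n) :=
        IsScalarTower.of_algebraMap_eq fun r => by
          rw [RingHom.algebraMap_toAlgebra, Localization.localRingHom_to_map, ← IsScalarTower.algebraMap_apply]
      exact (Module.flat_iff_of_isLocalization _ (n.comap (algebraMap R Λ)).primeCompl _).1 (h n).1
    refine ⟨Module.flat_of_isLocalized_maximal (R := R) (S := Λ) (M := Λ) (fun n => Localization.AtPrime n)
      (fun n _ => Algebra.linearMap Λ (Localization.AtPrime n)) hflat,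
      fun p _ => ⟨FlatDepth.isNoetherianRing_tensor_essFinite R Λ p.ResidueField, fun K _ _ hK => ?_⟩⟩
    letI : Algebra R K := ((algebraMap p.ResidueField K).comp (algebraMap R p.ResidueField)).toAlgebra
    haveI : IsScalarTower R p.ResidueField K := IsScalarTower.of_algebraMap_eq fun _ => rfl
    haveI := hK
    haveI : Algebra.EssFiniteType R K := Algebra.EssFiniteType.comp R p.ResidueField K
    obtain ⟨e⟩ := exists_fibre_equiv_tensor p Λ K
    haveI : IsNoetherianRing (Λ ⊗[R] K) := Algebra.EssFiniteType.isNoetherianRing Λ (Λ ⊗[R] K)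
    refine FlatDepth.isRegularRing_of_equiv _ _ e.symm (isRegularRing_iff.2 fun P _ => ?_)
    obtain ⟨n, hn, hle⟩ := Ideal.exists_le_maximal (P.comap (algebraMap Λ (Λ ⊗[R] K))) Ideal.IsPrime.ne_top'
    haveI := hn
    letI := (Localization.localRingHom (Ideal.comap (algebraMap R Λ) n) n (algebraMap R Λ) rfl).toAlgebra
    let R' := Localization.AtPrime (n.comap (algebraMap R Λ))
    let Λ' := Localization.AtPrime n
    haveI : IsScalarTower R R' Λ' := IsScalarTower.of_algebraMap_eq fun r => by
      rw [RingHom.algebraMap_toAlgebra, Localization.localRingHom_to_map, ← IsScalarTower.algebraMap_apply]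
    have hpP : p = P.comap (algebraMap R (Λ ⊗[R] K)) := by
      have hker : RingHom.ker (algebraMap R K) = p := by
        rw [IsScalarTower.algebraMap_eq R p.ResidueField K, ← RingHom.comap_ker,
          (RingHom.injective_iff_ker_eq_bot _).1 (algebraMap p.ResidueField K).injective, ← RingHom.ker_eq_comap_bot,
          Ideal.ker_algebraMap_residueField]
      have hbot : P.comap ((Algebra.TensorProduct.includeRight : K →ₐ[R] Λ ⊗[R] K).toRingHom) = ⊥ :=
        (Ideal.eq_bot_or_top _).resolve_right Ideal.IsPrime.ne_top'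
      rw [← hker, RingHom.ker_eq_comap_bot, ← hbot, Ideal.comap_comap,
        ← (Algebra.TensorProduct.includeRight : K →ₐ[R] Λ ⊗[R] K).comp_algebraMap]
      rfl
    have hpm : p ≤ n.comap (algebraMap R Λ) := by
      rw [hpP, IsScalarTower.algebraMap_eq R Λ, ← Ideal.comap_comap]
      exact Ideal.comap_mono hle
    have hdisj : Disjoint ((n.comap (algebraMap R Λ)).primeCompl : Set R) p :=
      Set.disjoint_left.2 fun a ha hap => ha (hpm hap)
    let q := p.map (algebraMap R R')
    haveI : q.IsPrime := IsLocalization.isPrime_of_isPrime_disjoint _ R' p inferInstance hdisj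
    have hq : q.comap (algebraMap R R') = p := IsLocalization.under_map_of_isPrime_disjoint _ R' inferInstance hdisj
    obtain ⟨hs, _⟩ := isPushout_self (R := R) (R' := R') (Λ' := Λ') (n.comap (algebraMap R Λ)).primeCompl
    let φ := Ideal.ResidueField.map p q (algebraMap R R') hq.symm
    have hφ : Function.Bijective φ := hs.residueFieldMap_bijective p q hq.symm
    let ψ : q.ResidueField →+* K := (algebraMap p.ResidueField K).comp (RingEquiv.ofBijective φ hφ).symm.toRingHom
    letI : Algebra q.ResidueField K := ψ.toAlgebra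
    letI : Algebra p.ResidueField q.ResidueField := φ.toAlgebra
    haveI : IsScalarTower p.ResidueField q.ResidueField K := IsScalarTower.of_algebraMap_eq fun c => by
      show algebraMap p.ResidueField K c = algebraMap p.ResidueField K ((RingEquiv.ofBijective φ hφ).symm (φ c))
      rw [show (RingEquiv.ofBijective φ hφ).symm (φ c) = c from (RingEquiv.ofBijective φ hφ).symm_apply_apply c]
    haveI : Module.Finite q.ResidueField K := Module.Finite.of_restrictScalars_finite p.ResidueField q.ResidueField K
    letI : Algebra R' K := ((algebraMap q.ResidueField K).comp (algebraMap R' q.ResidueField)).toAlgebra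
    haveI : IsScalarTower R' q.ResidueField K := IsScalarTower.of_algebraMap_eq fun _ => rfl
    haveI : IsScalarTower R R' K := IsScalarTower.of_algebraMap_eq fun a => by
      show algebraMap R K a = algebraMap q.ResidueField K (algebraMap R' q.ResidueField (algebraMap R R' a))
      rw [show algebraMap R' q.ResidueField (algebraMap R R' a) = φ (algebraMap R p.ResidueField a) from
        (Ideal.ResidueField.map_algebraMap _ _ _ _ _).symm,
        show φ (algebraMap R p.ResidueField a) = algebraMap p.ResidueField q.ResidueField (algebraMap R p.ResidueField a)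
          from rfl, ← IsScalarTower.algebraMap_apply, ← IsScalarTower.algebraMap_apply]
    have h1 : IsRegularRing (K ⊗[q.ResidueField] q.Fiber Λ') := ((h n).2 q).2 K inferInstance
    let e' : (K ⊗[q.ResidueField] q.Fiber Λ') ≃+* (Λ' ⊗[R] K) :=
      ((Algebra.TensorProduct.cancelBaseChange R' q.ResidueField K K Λ').toRingEquiv.trans
        ((Algebra.TensorProduct.congr (AlgEquiv.refl (R := R') (A₁ := K))
          (Algebra.IsPushout.equiv R R' Λ' Λ')).symm.toRingEquiv.trans
        (Algebra.TensorProduct.cancelBaseChange R R' K K Λ').toRingEquiv)).trans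
      (Algebra.TensorProduct.comm R K Λ').toRingEquiv
    haveI h2 : IsRegularRing (Λ' ⊗[R] K) := FlatDepth.isRegularRing_of_equiv _ _ e' h1
    obtain ⟨_, _, hloc⟩ := tensor_localization (R := R) (Λ := Λ) (Λ' := Λ') n.primeCompl K
    let M := Algebra.algebraMapSubmonoid (Λ ⊗[R] K) n.primeCompl
    have hdisj' : Disjoint (M : Set (Λ ⊗[R] K)) P := by
      rw [Set.disjoint_left]
      rintro _ ⟨b, hb, rfl⟩ hbq
      exact hb (hle hbq)
    haveI := IsLocalization.isPrime_of_isPrime_disjoint M (Λ' ⊗[R] K) P inferInstance hdisj'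
    let Q := P.map (algebraMap (Λ ⊗[R] K) (Λ' ⊗[R] K))
    have h3 : Q.comap (algebraMap (Λ ⊗[R] K) (Λ' ⊗[R] K)) = P :=
      IsLocalization.under_map_of_isPrime_disjoint M _ inferInstance hdisj'
    haveI := IsLocalization.isLocalization_isLocalization_atPrime_isLocalization M (Localization.AtPrime Q) Q
    haveI := h2.isRegularLocalRing_localization Q
    exact IsRegularLocalRing.of_ringEquiv (R := Localization.AtPrime Q)
      ((IsLocalization.algEquiv (Q.comap (algebraMap (Λ ⊗[R] K) (Λ' ⊗[R] K))).primeCompl
          (Localization.AtPrime Q) (Localization.AtPrime (Q.comap (algebraMap (Λ ⊗[R] K) (Λ' ⊗[R] K))))).toRingEquiv.trans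
        (IsLocalization.ringEquivOfRingEquiv (M := (Q.comap (algebraMap (Λ ⊗[R] K) (Λ' ⊗[R] K))).primeCompl)
          (T := P.primeCompl) _ (Localization.AtPrime P) (RingEquiv.refl _) (by
            ext x
            simp only [Submonoid.mem_map, Ideal.mem_primeCompl_iff]
            rw [h3]
            exact ⟨fun ⟨y, hy, hyx⟩ => hyx ▸ hy, fun hx => ⟨x, hx, rfl⟩⟩)))
  exact ⟨⟨hforward, fun h => hback fun n _ => h n⟩, ⟨fun h n _ => hforward h n, hback⟩⟩

end Groth.Agent.GeomProp
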