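import Groth.Agent.GeomProp.Apps
import Mathlib

/-!
Base change of morphisms with geometrically regular or normal fibres.
-/

set_option autoImplicit false
set_option linter.style.haveILetI false

namespace Groth.Agent.GeomProp

universe u

open IsLocalRing TensorProduct

variable {P : ∀ (R : Type u) [CommRing R], Prop}

/-- Fibres of a base change. -/
theorem Good.fibre_baseChange (hP : Good P) {A B A' : Type u} [CommRing A] [CommRing B] [CommRing A'] [Algebra A B]
    [Algebra A A'] (p' : Ideal A') [p'.IsPrime]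
    (hN : IsNoetherianRing ((p'.comap (algebraMap A A')).Fiber B))
    (h : ∀ (k' : Type u) [Field k'] [Algebra (p'.comap (algebraMap A A')).ResidueField k'],
      Module.Finite (p'.comap (algebraMap A A')).ResidueField k' →
        P (k' ⊗[(p'.comap (algebraMap A A')).ResidueField] (p'.comap (algebraMap A A')).Fiber B))
    (L : Type u) [Field L] [Algebra p'.ResidueField L]
    (hL : IsNoetherianRing (L ⊗[p'.ResidueField] p'.Fiber (A' ⊗[A] B))) :
    P (L ⊗[p'.ResidueField] p'.Fiber (A' ⊗[A] B)) := by
  let p := p'.comap (algebraMap A A')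
  let φ := Ideal.ResidueField.map p p' (algebraMap A A') rfl
  letI : Algebra A' L := ((algebraMap p'.ResidueField L).comp (algebraMap A' p'.ResidueField)).toAlgebra
  haveI : IsScalarTower A' p'.ResidueField L := IsScalarTower.of_algebraMap_eq fun _ => rfl
  letI : Algebra A L := ((algebraMap A' L).comp (algebraMap A A')).toAlgebra
  haveI : IsScalarTower A A' L := IsScalarTower.of_algebraMap_eq fun _ => rfl
  letI : Algebra p.ResidueField L := ((algebraMap p'.ResidueField L).comp φ).toAlgebra
  haveI : IsScalarTower A p.ResidueField L := IsScalarTower.of_algebraMap_eq fun a => by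
    show algebraMap p'.ResidueField L (algebraMap A' p'.ResidueField (algebraMap A A' a)) =
      algebraMap p'.ResidueField L (φ (algebraMap A p.ResidueField a))
    rw [Ideal.ResidueField.map_algebraMap]
  let e₁ : (L ⊗[p'.ResidueField] p'.Fiber (A' ⊗[A] B)) ≃+* (L ⊗[p.ResidueField] p.Fiber B) :=
    (Algebra.TensorProduct.cancelBaseChange A' p'.ResidueField L L (A' ⊗[A] B)).toRingEquiv.trans
      ((Algebra.TensorProduct.cancelBaseChange A A' L L B).toRingEquiv.trans
        (Algebra.TensorProduct.cancelBaseChange A p.ResidueField L L B).symm.toRingEquiv)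
  haveI := hN
  haveI : IsNoetherianRing (L ⊗[p.ResidueField] p.Fiber B) :=
    isNoetherianRing_of_ringEquiv (L ⊗[p'.ResidueField] p'.Fiber (A' ⊗[A] B)) e₁
  exact hP.equiv _ _ e₁.symm (hP.all p.ResidueField (p.Fiber B) (fun k' _ _ hfin _ => h k' hfin) L)

/-- Fibres descend along a faithfully flat base change. -/
theorem Good.fibre_descent (hP : Good P) {A B A' : Type u} [CommRing A] [CommRing B] [CommRing A'] [Algebra A B]
    [Algebra A A'] [IsNoetherianRing (A' ⊗[A] B)] (p' : Ideal A') [p'.IsPrime]
    (hN : IsNoetherianRing ((p'.comap (algebraMap A A')).Fiber B))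
    (h : ∀ (L : Type u) [Field L] [Algebra p'.ResidueField L],
      Module.Finite p'.ResidueField L → P (L ⊗[p'.ResidueField] p'.Fiber (A' ⊗[A] B)))
    (k' : Type u) [Field k'] [Algebra (p'.comap (algebraMap A A')).ResidueField k']
    [Module.Finite (p'.comap (algebraMap A A')).ResidueField k'] :
    P (k' ⊗[(p'.comap (algebraMap A A')).ResidueField] (p'.comap (algebraMap A A')).Fiber B) := by
  let p := p'.comap (algebraMap A A')
  let φ := Ideal.ResidueField.map p p' (algebraMap A A') rfl
  let κ' := p'.ResidueField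
  letI : Algebra p.ResidueField κ' := φ.toAlgebra
  haveI : IsScalarTower A p.ResidueField κ' := IsScalarTower.of_algebraMap_eq fun a => by
    rw [RingHom.algebraMap_toAlgebra, Ideal.ResidueField.map_algebraMap, ← IsScalarTower.algebraMap_apply]
  haveI := hN
  haveI hK : IsNoetherianRing (κ' ⊗[p.ResidueField] p.Fiber B) := by
    let e := (Algebra.TensorProduct.cancelBaseChange A' κ' κ' κ' (A' ⊗[A] B)).toRingEquiv
    exact @isNoetherianRing_of_ringEquiv (p'.Fiber (A' ⊗[A] B)) _ (κ' ⊗[p.ResidueField] p.Fiber B) _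
      ((Algebra.TensorProduct.cancelBaseChange A A' κ' κ' B).toRingEquiv.trans
        (Algebra.TensorProduct.cancelBaseChange A p.ResidueField κ' κ' B).symm.toRingEquiv)
      (FlatDepth.isNoetherianRing_tensor_essFinite A' (A' ⊗[A] B) κ')
  refine hP.baseDescent p.ResidueField κ' (p.Fiber B) (fun L _ _ hL => ?_) k'
  letI : Algebra A' L := ((algebraMap κ' L).comp (algebraMap A' κ')).toAlgebra
  haveI : IsScalarTower A' κ' L := IsScalarTower.of_algebraMap_eq fun _ => rfl
  letI : Algebra A L := ((algebraMap A' L).comp (algebraMap A A')).toAlgebra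
  haveI : IsScalarTower A A' L := IsScalarTower.of_algebraMap_eq fun _ => rfl
  letI : Algebra p.ResidueField L := ((algebraMap κ' L).comp φ).toAlgebra
  haveI : IsScalarTower A p.ResidueField L := IsScalarTower.of_algebraMap_eq fun a => by
    show algebraMap κ' L (algebraMap A' κ' (algebraMap A A' a)) = algebraMap κ' L (φ (algebraMap A p.ResidueField a))
    rw [Ideal.ResidueField.map_algebraMap]
  haveI : IsScalarTower p.ResidueField κ' L := IsScalarTower.of_algebraMap_eq fun _ => rfl
  exact hP.equiv _ _ ((((Algebra.TensorProduct.cancelBaseChange A' κ' L L (A' ⊗[A] B)).toRingEquiv.trans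
    (Algebra.TensorProduct.cancelBaseChange A A' L L B).toRingEquiv).trans
    (Algebra.TensorProduct.cancelBaseChange A p.ResidueField L L B).symm.toRingEquiv).trans
    (Algebra.TensorProduct.cancelBaseChange p.ResidueField κ' L L (p.Fiber B)).symm.toRingEquiv) (h L hL)

theorem isNoetherianRing_baseChange (A B A' : Type u) [CommRing A] [CommRing B] [CommRing A'] [IsNoetherianRing B]
    [IsNoetherianRing A'] [Algebra A B] [Algebra A A'] (hft : Algebra.FiniteType A B ∨ Algebra.FiniteType A A') :
    IsNoetherianRing (A' ⊗[A] B) := by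
  rcases hft with h | h
  · haveI := h
    exact Algebra.FiniteType.isNoetherianRing A' (A' ⊗[A] B)
  · haveI := h
    exact FlatDepth.isNoetherianRing_tensor_essFinite A B A'

theorem regular_baseChange (A B A' : Type u) [CommRing A] [CommRing B] [CommRing A'] [Algebra A B] [Algebra A A']
    (hN : ∀ (p' : Ideal A') [p'.IsPrime], IsNoetherianRing (p'.Fiber (A' ⊗[A] B))) (h : CAlg.IsRegularHom A B) :
    CAlg.IsRegularHom A' (A' ⊗[A] B) := by
  obtain ⟨_, h⟩ := h
  refine ⟨inferInstance, fun p' _ => ⟨hN p', fun L _ _ hL => ?_⟩⟩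
  haveI := hN p'
  haveI := hL
  exact good_regular.fibre_baseChange p' (h _).1 (h _).2 L
    (FlatDepth.isNoetherianRing_tensor_essFinite p'.ResidueField (p'.Fiber (A' ⊗[A] B)) L)

theorem regular_baseChange_finiteType (R Λ R' : Type u) [CommRing R] [CommRing Λ] [CommRing R'] [Algebra R Λ]
    [Algebra R R'] [Algebra.FiniteType R R'] (h : CAlg.IsRegularHom R Λ) :
    CAlg.IsRegularHom R' (R' ⊗[R] Λ) := by
  refine regular_baseChange R Λ R' (fun p' _ => ?_) h
  let p := p'.comap (algebraMap R R')
  let φ := Ideal.ResidueField.map p p' (algebraMap R R') rfl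
  letI : Algebra p.ResidueField p'.ResidueField := φ.toAlgebra
  haveI : IsScalarTower R p.ResidueField p'.ResidueField := IsScalarTower.of_algebraMap_eq fun a => by
    rw [RingHom.algebraMap_toAlgebra, Ideal.ResidueField.map_algebraMap, ← IsScalarTower.algebraMap_apply]
  haveI : Algebra.EssFiniteType R p'.ResidueField := Algebra.EssFiniteType.comp R R' p'.ResidueField
  haveI : Algebra.EssFiniteType p.ResidueField p'.ResidueField :=
    Algebra.EssFiniteType.of_comp R p.ResidueField p'.ResidueField
  haveI := (h.2 p).1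
  exact @isNoetherianRing_of_ringEquiv (p'.ResidueField ⊗[p.ResidueField] p.Fiber Λ) _
    (p'.Fiber (R' ⊗[R] Λ)) _
    ((Algebra.TensorProduct.cancelBaseChange R p.ResidueField p'.ResidueField p'.ResidueField Λ).toRingEquiv.trans
      (Algebra.TensorProduct.cancelBaseChange R R' p'.ResidueField p'.ResidueField Λ).symm.toRingEquiv)
    (FlatDepth.isNoetherianRing_tensor_essFinite p.ResidueField (p.Fiber Λ) p'.ResidueField)

theorem regular_baseChange_iff (A B A' : Type u) [CommRing A] [CommRing B] [CommRing A'] [IsNoetherianRing B]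
    [IsNoetherianRing A'] [Algebra A B] [Algebra A A'] (hft : Algebra.FiniteType A B ∨ Algebra.FiniteType A A') :
    (CAlg.IsRegularHom A B → CAlg.IsRegularHom A' (A' ⊗[A] B)) ∧
      (Module.FaithfullyFlat A A' → CAlg.IsRegularHom A' (A' ⊗[A] B) → CAlg.IsRegularHom A B) := by
  haveI := isNoetherianRing_baseChange A B A' hft
  refine ⟨regular_baseChange A B A' fun p' _ =>
    FlatDepth.isNoetherianRing_tensor_essFinite A' (A' ⊗[A] B) p'.ResidueField, fun hff h => ?_⟩
  haveI := hff
  obtain ⟨_, h⟩ := h
  refine ⟨Module.Flat.of_flat_tensorProduct A B A', fun p _ => ?_⟩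
  obtain ⟨T, hT⟩ := PrimeSpectrum.comap_surjective_of_faithfullyFlat (A := A) (B := A') ⟨p, inferInstance⟩
  have hp : T.asIdeal.comap (algebraMap A A') = p := congrArg PrimeSpectrum.asIdeal hT
  subst hp
  have hN := FlatDepth.isNoetherianRing_tensor_essFinite A B (T.asIdeal.comap (algebraMap A A')).ResidueField
  exact ⟨hN, fun k' _ _ hk' => haveI := hk';
    good_regular.fibre_descent T.asIdeal hN (fun L _ _ hL => (h T.asIdeal).2 L hL) k'⟩

theorem normal_baseChange_iff (A B A' : Type u) [CommRing A] [CommRing B] [CommRing A'] [IsNoetherianRing B]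
    [IsNoetherianRing A'] [Algebra A B] [Algebra A A'] (hft : Algebra.FiniteType A B ∨ Algebra.FiniteType A A') :
    (EGA4.IsNormalHom A B → EGA4.IsNormalHom A' (A' ⊗[A] B)) ∧
      (Module.FaithfullyFlat A A' → EGA4.IsNormalHom A' (A' ⊗[A] B) → EGA4.IsNormalHom A B) := by
  haveI := isNoetherianRing_baseChange A B A' hft
  refine ⟨fun h => ?_, fun hff h => ?_⟩
  · obtain ⟨_, h⟩ := h
    refine ⟨inferInstance, fun p' _ L _ _ hL => ?_⟩
    haveI := hL
    haveI := FlatDepth.isNoetherianRing_tensor_essFinite A' (A' ⊗[A] B) p'.ResidueField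
    exact good_normal.fibre_baseChange p'
      (FlatDepth.isNoetherianRing_tensor_essFinite A B (p'.comap (algebraMap A A')).ResidueField) (h _) L
      (FlatDepth.isNoetherianRing_tensor_essFinite p'.ResidueField (p'.Fiber (A' ⊗[A] B)) L)
  · haveI := hff
    obtain ⟨_, h⟩ := h
    refine ⟨Module.Flat.of_flat_tensorProduct A B A', fun p _ k' _ _ hk' => ?_⟩
    obtain ⟨T, hT⟩ := PrimeSpectrum.comap_surjective_of_faithfullyFlat (A := A) (B := A') ⟨p, inferInstance⟩
    have hp : T.asIdeal.comap (algebraMap A A') = p := congrArg PrimeSpectrum.asIdeal hT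
    subst hp
    haveI := hk'
    exact good_normal.fibre_descent T.asIdeal
      (FlatDepth.isNoetherianRing_tensor_essFinite A B (T.asIdeal.comap (algebraMap A A')).ResidueField) (h T.asIdeal) k'

theorem isNormalRing_atPrime {S : Type u} [CommRing S] (p : Ideal S) [p.IsPrime] [IsDomain (Localization.AtPrime p)]
    [IsIntegrallyClosed (Localization.AtPrime p)] : EGA4.IsNormalRing (Localization.AtPrime p) := fun q _ =>
  ⟨IsLocalization.isDomain_localization q.primeCompl_le_nonZeroDivisors,
    isIntegrallyClosed_of_isLocalization _ q.primeCompl q.primeCompl_le_nonZeroDivisors⟩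

/-- Local version of the tensor product with a geometrically reduced field extension. -/
theorem Good.atPrime (hP : Good P) (k S k' : Type u) [Field k] [CommRing S] [Algebra k S] [IsNoetherianRing S]
    [Field k'] [Algebra k k'] [Algebra.IsGeometricallyReduced k k'] [IsNoetherianRing (S ⊗[k] k')]
    (q' : Ideal (S ⊗[k] k')) [q'.IsPrime]
    (h : P (Localization.AtPrime (q'.comap (algebraMap S (S ⊗[k] k'))))) :
    ∃ (R : Type u) (_ : CommRing R) (_ : IsNoetherianRing R) (Q : Ideal R) (_ : Q.IsPrime),
      P R ∧ Nonempty (Localization.AtPrime Q ≃+* Localization.AtPrime q') := by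
  let p := q'.comap (algebraMap S (S ⊗[k] k'))
  let R := Localization.AtPrime p
  haveI : IsNoetherianRing R := IsLocalization.isNoetherianRing p.primeCompl R inferInstance
  let f : S ⊗[k] k' →ₐ[k] R ⊗[k] k' :=
    Algebra.TensorProduct.map (IsScalarTower.toAlgHom k S R) (AlgHom.id k k')
  letI : Algebra (S ⊗[k] k') (R ⊗[k] k') := f.toRingHom.toAlgebra
  haveI : IsScalarTower S (S ⊗[k] k') (R ⊗[k] k') := IsScalarTower.of_algebraMap_eq fun s => by
    show algebraMap S R s ⊗ₜ[k] (1 : k') = f (s ⊗ₜ 1)
    rfl
  let M := Algebra.algebraMapSubmonoid (S ⊗[k] k') p.primeCompl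
  haveI : IsLocalization M (R ⊗[k] k') := IsLocalization.tensorProduct_tensorProduct k k' p.primeCompl R
    (RingHom.ext fun c => by
      show f (1 ⊗ₜ c) = 1 ⊗ₜ c
      exact congrArg (· ⊗ₜ[k] c) (map_one (algebraMap S R)))
  haveI : IsNoetherianRing (R ⊗[k] k') := IsLocalization.isNoetherianRing M _ inferInstance
  have hdisj : Disjoint (M : Set (S ⊗[k] k')) q' := by
    rw [Set.disjoint_left]
    rintro _ ⟨b, hb, rfl⟩ hbq
    exact hb hbq
  haveI := IsLocalization.isPrime_of_isPrime_disjoint M (R ⊗[k] k') q' inferInstance hdisj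
  let Q := q'.map (algebraMap (S ⊗[k] k') (R ⊗[k] k'))
  have h1 : Q.comap (algebraMap (S ⊗[k] k') (R ⊗[k] k')) = q' :=
    IsLocalization.under_map_of_isPrime_disjoint M _ inferInstance hdisj
  haveI := IsLocalization.isLocalization_isLocalization_atPrime_isLocalization M (Localization.AtPrime Q) Q
  refine ⟨R ⊗[k] k', inferInstance, inferInstance, Q, inferInstance,
    hP.tensor k R k' h fun k'' _ _ hfin _ => haveI := hfin; hP.of_regular _ (regular_of_geomReduced_field k k' k''), ?_⟩
  exact ⟨(IsLocalization.algEquiv (Q.comap (algebraMap (S ⊗[k] k') (R ⊗[k] k'))).primeCompl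
      (Localization.AtPrime Q) (Localization.AtPrime (Q.comap (algebraMap (S ⊗[k] k') (R ⊗[k] k'))))).toRingEquiv.trans
    (IsLocalization.ringEquivOfRingEquiv (M := (Q.comap (algebraMap (S ⊗[k] k') (R ⊗[k] k'))).primeCompl)
      (T := q'.primeCompl) _ (Localization.AtPrime q') (RingEquiv.refl _) (by
        ext x
        simp only [Submonoid.mem_map, Ideal.mem_primeCompl_iff]
        rw [h1]
        exact ⟨fun ⟨y, hy, hyx⟩ => hyx ▸ hy, fun hx => ⟨x, hx, rfl⟩⟩))⟩

theorem regular_field_iff (k S k' : Type u) [Field k] [CommRing S] [Algebra k S] [IsNoetherianRing S] [Field k']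
    [Algebra k k'] [IsNoetherianRing (S ⊗[k] k')] (q' : Ideal (S ⊗[k] k')) [q'.IsPrime] :
    (IsRegularLocalRing (Localization.AtPrime q') →
      IsRegularLocalRing (Localization.AtPrime (q'.comap (algebraMap S (S ⊗[k] k'))))) ∧
    (Algebra.IsGeometricallyReduced k k' →
      IsRegularLocalRing (Localization.AtPrime (q'.comap (algebraMap S (S ⊗[k] k')))) →
      IsRegularLocalRing (Localization.AtPrime q')) := by
  refine ⟨FlatDepth.isRegular_atPrime_descent q', fun _ h => ?_⟩
  haveI := h
  obtain ⟨R, _, _, Q, _, hR, ⟨e⟩⟩ := good_regular.atPrime k S k' q'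
    (SerreReg.isRegularRing_of_isRegularLocalRing _)
  haveI := hR.isRegularLocalRing_localization Q
  exact IsRegularLocalRing.of_ringEquiv (R := Localization.AtPrime Q) e

theorem normal_field_iff (k S k' : Type u) [Field k] [CommRing S] [Algebra k S] [IsNoetherianRing S] [Field k']
    [Algebra k k'] [IsNoetherianRing (S ⊗[k] k')] (q' : Ideal (S ⊗[k] k')) [q'.IsPrime] :
    ((IsDomain (Localization.AtPrime q') ∧ IsIntegrallyClosed (Localization.AtPrime q')) →
      (IsDomain (Localization.AtPrime (q'.comap (algebraMap S (S ⊗[k] k')))) ∧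
        IsIntegrallyClosed (Localization.AtPrime (q'.comap (algebraMap S (S ⊗[k] k')))))) ∧
    (Algebra.IsGeometricallyReduced k k' →
      (IsDomain (Localization.AtPrime (q'.comap (algebraMap S (S ⊗[k] k')))) ∧
        IsIntegrallyClosed (Localization.AtPrime (q'.comap (algebraMap S (S ⊗[k] k'))))) →
      (IsDomain (Localization.AtPrime q') ∧ IsIntegrallyClosed (Localization.AtPrime q'))) := by
  refine ⟨fun ⟨_, _⟩ => FlatDepth.normal_atPrime_descent q', fun _ ⟨_, _⟩ => ?_⟩
  obtain ⟨R, _, _, Q, _, hR, ⟨e⟩⟩ := good_normal.atPrime k S k' q' (isNormalRing_atPrime _)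
  obtain ⟨_, _⟩ := hR Q
  exact ⟨e.symm.toMulEquiv.isDomain (Localization.AtPrime Q), IsIntegrallyClosed.of_equiv (R := Localization.AtPrime Q) e⟩

end Groth.Agent.GeomProp
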