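import Groth.Agent.GrpField.FlatPoint
import Groth.Prelude.Def_CurvBase
import Mathlib

/-!
Local rings of a base change of a `k`-scheme to a field extension.
-/

set_option autoImplicit false
set_option linter.style.haveILetI false

namespace Groth.Agent.GeomProp

universe u

open CategoryTheory AlgebraicGeometry Limits
open scoped TensorProduct

attribute [local instance] Curv2.stalkAlgebra

variable (k : Type u) [Field k] (X : Scheme.{u}) [X.Over (Spec (CommRingCat.of k))]

theorem fromSpecStalk_over (x : X) :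
    X.fromSpecStalk x ≫ (X ↘ Spec (CommRingCat.of k)) =
      Spec.map (CommRingCat.ofHom (algebraMap k (X.presheaf.stalk x))) := by
  let p := X ↘ Spec (CommRingCat.of k)
  have h1 := Scheme.toSpecΓ_naturality p
  have h2 : p = X.toSpecΓ ≫ Spec.map p.appTop ≫ Spec.map (Scheme.ΓSpecIso (CommRingCat.of k)).inv := by
    rw [← Category.assoc, ← h1, Category.assoc]
    simp
  have h3 : CommRingCat.ofHom (algebraMap k (X.presheaf.stalk x)) =
      (Scheme.ΓSpecIso (CommRingCat.of k)).inv ≫ p.appTop ≫ X.presheaf.germ ⊤ x trivial := rfl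
  show X.fromSpecStalk x ≫ p = _
  rw [h3, Spec.map_comp, Spec.map_comp, Category.assoc]
  conv_lhs => rw [h2]
  rw [Scheme.fromSpecStalk_toSpecΓ_assoc]

/-- Stalk maps of flat preimmersions are bijective. -/
theorem bijective_stalkMap {S T : Scheme.{u}} (h : S ⟶ T) [Flat h] [IsPreimmersion h] (z : S) :
    Function.Bijective (h.stalkMap z).hom := by
  refine ⟨?_, h.stalkMap_surjective z⟩
  letI := (h.stalkMap z).hom.toAlgebra
  haveI : IsLocalHom (algebraMap (T.presheaf.stalk (h z)) (S.presheaf.stalk z)) :=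
    inferInstanceAs (IsLocalHom (h.stalkMap z).hom)
  haveI : Module.Flat (T.presheaf.stalk (h z)) (S.presheaf.stalk z) := Flat.stalkMap h z
  haveI : Module.FaithfullyFlat (T.presheaf.stalk (h z)) (S.presheaf.stalk z) :=
    Module.FaithfullyFlat.of_flat_of_isLocalHom
  exact FaithfulSMul.algebraMap_injective (T.presheaf.stalk (h z)) (S.presheaf.stalk z)

variable (k' : Type u) [Field k'] [Algebra k k'] (x : X)

/-- The points over `x` and their local rings. -/
theorem bc_stalks :
    (∀ x' : Curv2.bc k X k', Curv2.bcFst k X k' x' = x →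
      ∃ (Q : Ideal (X.presheaf.stalk x ⊗[k] k')) (_ : Q.IsPrime),
        Q.comap (algebraMap (X.presheaf.stalk x) (X.presheaf.stalk x ⊗[k] k')) = IsLocalRing.maximalIdeal _ ∧
          Nonempty (Localization.AtPrime Q ≃+* (Curv2.bc k X k').presheaf.stalk x')) ∧
    (∀ (Q : Ideal (X.presheaf.stalk x ⊗[k] k')) [Q.IsPrime],
      Q.comap (algebraMap (X.presheaf.stalk x) (X.presheaf.stalk x ⊗[k] k')) = IsLocalRing.maximalIdeal _ →
        ∃ x' : Curv2.bc k X k', Curv2.bcFst k X k' x' = x ∧
          Nonempty (Localization.AtPrime Q ≃+* (Curv2.bc k X k').presheaf.stalk x')) := by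
  let p := X ↘ Spec (CommRingCat.of k)
  let g := Spec.map (CommRingCat.ofHom (algebraMap k k'))
  let O := X.presheaf.stalk x
  let j := X.fromSpecStalk x
  haveI : Flat j := GrpField.flat_fromSpecStalk x
  haveI : Flat (pullback.fst (Curv2.bcFst k X k') j) := inferInstance
  haveI : IsPreimmersion (pullback.fst (Curv2.bcFst k X k') j) := inferInstance
  have h1 : IsPullback (pullback.snd (Curv2.bcFst k X k') j)
      (pullback.fst (Curv2.bcFst k X k') j ≫ pullback.snd p g) (j ≫ p) g :=
    (IsPullback.of_hasPullback (Curv2.bcFst k X k') j).flip.paste_vert (IsPullback.of_hasPullback p g)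
  rw [fromSpecStalk_over k X x] at h1
  let e : pullback (Curv2.bcFst k X k') j ≅ Spec (CommRingCat.of (O ⊗[k] k')) :=
    h1.isoPullback ≪≫ pullbackSpecIso k O k'
  let h : Spec (CommRingCat.of (O ⊗[k] k')) ⟶ Curv2.bc k X k' := e.inv ≫ pullback.fst (Curv2.bcFst k X k') j
  haveI : Flat h := inferInstanceAs (Flat (e.inv ≫ _))
  haveI : IsPreimmersion h := inferInstanceAs (IsPreimmersion (e.inv ≫ _))
  have he : e.inv ≫ pullback.snd (Curv2.bcFst k X k') j =
      Spec.map (CommRingCat.ofHom (algebraMap O (O ⊗[k] k'))) := by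
    show (pullbackSpecIso k O k').inv ≫ h1.isoPullback.inv ≫ pullback.snd (Curv2.bcFst k X k') j = _
    rw [h1.isoPullback_inv_fst]
    exact pullbackSpecIso_inv_fst k O k'
  have hh : h ≫ Curv2.bcFst k X k' = Spec.map (CommRingCat.ofHom (algebraMap O (O ⊗[k] k'))) ≫ j := by
    rw [← he, Category.assoc, Category.assoc, pullback.condition]
  have hstalk : ∀ z : Spec (CommRingCat.of (O ⊗[k] k')),
      Nonempty (Localization.AtPrime z.asIdeal ≃+* (Curv2.bc k X k').presheaf.stalk (h z)) := fun z =>
    ⟨((StructureSheaf.stalkIso _ z).toRingEquiv).trans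
      (RingEquiv.ofBijective (h.stalkMap z).hom (bijective_stalkMap h z)).symm⟩
  refine ⟨fun x' hx' => ?_, fun Q _ hQ => ?_⟩
  · obtain ⟨w, hw1, hw2⟩ := Scheme.Pullback.exists_preimage_pullback (f := Curv2.bcFst k X k') (g := j) x'
      (IsLocalRing.closedPoint O) (hx'.trans (Scheme.fromSpecStalk_closedPoint).symm)
    let z := e.hom w
    have hz : h z = x' := by
      show (e.hom ≫ e.inv ≫ pullback.fst (Curv2.bcFst k X k') j) w = x'
      rw [Iso.hom_inv_id_assoc, hw1]
    refine ⟨z.asIdeal, z.isPrime, ?_, ?_⟩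
    · have h4 : Spec.map (CommRingCat.ofHom (algebraMap O (O ⊗[k] k'))) z = IsLocalRing.closedPoint O := by
        rw [← he]
        show (e.hom ≫ e.inv ≫ pullback.snd (Curv2.bcFst k X k') j) w = _
        rw [Iso.hom_inv_id_assoc, hw2]
      exact congrArg PrimeSpectrum.asIdeal h4
    · subst hz
      exact hstalk z
  · let z : Spec (CommRingCat.of (O ⊗[k] k')) := ⟨Q, inferInstance⟩
    refine ⟨h z, ?_, hstalk z⟩
    show (h ≫ Curv2.bcFst k X k') z = x
    rw [hh]
    show j (Spec.map (CommRingCat.ofHom (algebraMap O (O ⊗[k] k'))) z) = x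
    rw [show Spec.map (CommRingCat.ofHom (algebraMap O (O ⊗[k] k'))) z = IsLocalRing.closedPoint O from
      PrimeSpectrum.ext hQ]
    exact Scheme.fromSpecStalk_closedPoint

end Groth.Agent.GeomProp
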