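import Groth.Agent.GeomProp.BaseChange
import Groth.Agent.Nagata.Japanese
import Mathlib

/-!
Normality of tensor products with algebras which need not be Noetherian.
-/

set_option autoImplicit false
set_option linter.style.haveILetI false

namespace Groth.Agent.GeomProp

universe u

open IsLocalRing TensorProduct

theorem homogeneous_eval {B K : Type u} [CommRing B] [Field K] (ψ : B →+* K) (g : Polynomial B) (a b : B)
    (hb : ψ b ≠ 0) :
    g.eval₂ ψ (ψ a / ψ b) * ψ b ^ g.natDegree =
      ψ (∑ i ∈ Finset.range (g.natDegree + 1), g.coeff i * a ^ i * b ^ (g.natDegree - i)) := by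
  rw [Polynomial.eval₂_eq_sum_range, Finset.sum_mul, map_sum]
  refine Finset.sum_congr rfl fun i hi => ?_
  rw [map_mul, map_mul, map_pow, map_pow, div_pow, mul_assoc, mul_assoc, div_mul_eq_mul_div, mul_div_assoc]
  congr 2
  rw [eq_comm, eq_div_iff (pow_ne_zero _ hb), ← pow_add, Nat.sub_add_cancel (Nat.lt_succ_iff.1 (Finset.mem_range.1 hi))]

/-- A ring covered by normal subrings is normal. -/
theorem isNormalRing_of_subrings {R : Type u} [CommRing R]
    (h : ∀ F : Finset R, ∃ B : Subring R, (F : Set R) ⊆ B ∧ EGA4.IsNormalRing B) : EGA4.IsNormalRing R := by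
  classical
  intro P _
  let RP := Localization.AtPrime P
  haveI hdom : IsDomain RP := by
    haveI : NoZeroDivisors RP := ⟨fun {x y} hxy => by
      obtain ⟨a, ⟨s, hs⟩, rfl⟩ := IsLocalization.exists_mk'_eq P.primeCompl x
      obtain ⟨b, ⟨t, ht⟩, rfl⟩ := IsLocalization.exists_mk'_eq P.primeCompl y
      rw [← IsLocalization.mk'_mul, IsLocalization.mk'_eq_zero_iff] at hxy
      obtain ⟨⟨u, hu⟩, huab⟩ := hxy
      obtain ⟨B, hB, hBn⟩ := h {a, b, u}
      obtain ⟨ha, hb, hu'⟩ : a ∈ B ∧ b ∈ B ∧ u ∈ B := ⟨hB (by simp), hB (by simp), hB (by simp)⟩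
      let q := P.comap B.subtype
      obtain ⟨_, -⟩ := hBn q
      have h1 : algebraMap B (Localization.AtPrime q) (⟨a, ha⟩ * ⟨b, hb⟩) = 0 :=
        (IsLocalization.map_eq_zero_iff q.primeCompl _ _).2 ⟨⟨⟨u, hu'⟩, hu⟩, Subtype.ext huab⟩
      rw [map_mul, mul_eq_zero] at h1
      rcases h1 with h1 | h1
      · obtain ⟨⟨⟨v, hv⟩, hv'⟩, hva⟩ := (IsLocalization.map_eq_zero_iff q.primeCompl _ _).1 h1
        exact Or.inl ((IsLocalization.mk'_eq_zero_iff _ _).2 ⟨⟨v, hv'⟩, congrArg Subtype.val hva⟩)
      · obtain ⟨⟨⟨v, hv⟩, hv'⟩, hvb⟩ := (IsLocalization.map_eq_zero_iff q.primeCompl _ _).1 h1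
        exact Or.inr ((IsLocalization.mk'_eq_zero_iff _ _).2 ⟨⟨v, hv'⟩, congrArg Subtype.val hvb⟩)⟩
    exact NoZeroDivisors.to_isDomain _
  refine ⟨hdom, (isIntegrallyClosed_iff (FractionRing RP)).2 fun {z} hz => ?_⟩
  let K := FractionRing RP
  obtain ⟨⟨m, hm⟩, hint⟩ := IsIntegral.exists_multiple_integral_of_isLocalization P.primeCompl (Rₘ := RP) z hz
  obtain ⟨g, hgm, hg⟩ := hint
  have hinj : Function.Injective (algebraMap RP K) := IsFractionRing.injective RP K
  obtain ⟨x, y, hy, hxy⟩ := IsFractionRing.div_surjective RP ((⟨m, hm⟩ : P.primeCompl) • z : K)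
  obtain ⟨a, ⟨s, hs⟩, rfl⟩ := IsLocalization.exists_mk'_eq P.primeCompl x
  obtain ⟨b, ⟨t, ht⟩, rfl⟩ := IsLocalization.exists_mk'_eq P.primeCompl y
  have hval : ∀ (c w : R) (hw : w ∈ P.primeCompl),
      algebraMap RP K (IsLocalization.mk' RP c ⟨w, hw⟩) = algebraMap R K c / algebraMap R K w := fun c w hw => by
    rw [eq_div_iff, IsScalarTower.algebraMap_apply R RP K w, ← map_mul, IsLocalization.mk'_spec,
      ← IsScalarTower.algebraMap_apply]
    rw [IsScalarTower.algebraMap_apply R RP K w, map_ne_zero_iff _ hinj]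
    exact (IsLocalization.map_units RP (⟨w, hw⟩ : P.primeCompl)).ne_zero
  have hne : ∀ w : R, w ∈ P.primeCompl → algebraMap R K w ≠ 0 := fun w hw => by
    rw [IsScalarTower.algebraMap_apply R RP K w, map_ne_zero_iff _ hinj]
    exact (IsLocalization.map_units RP (⟨w, hw⟩ : P.primeCompl)).ne_zero
  have hbne : algebraMap R K b ≠ 0 := fun h0 => by
    refine nonZeroDivisors.ne_zero hy (hinj ?_)
    rw [hval, h0, zero_div, map_zero]
  rw [hval, hval, div_div_div_eq, ← map_mul, ← map_mul] at hxy
  have hd : algebraMap R K (s * b) ≠ 0 := by rw [map_mul]; exact mul_ne_zero (hne s hs) hbne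
  -- lift the equation to a normal subring
  have hS : algebraMap R RP
      (∑ i ∈ Finset.range (g.natDegree + 1), g.coeff i * (a * t) ^ i * (s * b) ^ (g.natDegree - i)) = 0 := hinj (by
    rw [map_zero, ← IsScalarTower.algebraMap_apply, ← homogeneous_eval (algebraMap R K) g _ _ hd, hxy, hg, zero_mul])
  obtain ⟨⟨u, hu⟩, huS⟩ := (IsLocalization.map_eq_zero_iff P.primeCompl _ _).1 hS
  obtain ⟨B, hB, hBn⟩ := h ({a * t, s * b, u, m} ∪ g.coeffs)
  obtain ⟨hat, hsb, hu'⟩ : a * t ∈ B ∧ s * b ∈ B ∧ u ∈ B := ⟨hB (by simp), hB (by simp), hB (by simp)⟩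
  have hc : ∀ i, g.coeff i ∈ B := fun i => by
    by_cases hi : g.coeff i = 0
    · rw [hi]; exact zero_mem _
    · exact hB (Finset.mem_coe.2 (Finset.mem_union_right _ (Polynomial.coeff_mem_coeffs hi)))
  haveI : Nontrivial R := nontrivial_of_ne 1 0 fun h10 => Ideal.IsPrime.ne_top' (I := P) ((Ideal.eq_top_iff_one P).2 (h10 ▸ zero_mem P))
  obtain ⟨g', hg'⟩ : ∃ g' : Polynomial B, g'.map B.subtype = g ∧ g'.natDegree = g.natDegree ∧ g'.Monic := by
    obtain ⟨g', hg', hd', hm'⟩ := Polynomial.lifts_and_degree_eq_and_monic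
      ((Polynomial.lifts_iff_coeff_lifts g).2 fun i => ⟨⟨g.coeff i, hc i⟩, rfl⟩ : g ∈ Polynomial.lifts B.subtype) hgm
    exact ⟨g', hg', Polynomial.natDegree_eq_of_degree_eq hd', hm'⟩
  obtain ⟨hg', hdeg, hmon⟩ := hg'
  let q := P.comap B.subtype
  obtain ⟨_, hic⟩ := hBn q
  let Bq := Localization.AtPrime q
  let Kq := FractionRing Bq
  let φ : Bq →+* RP := Localization.localRingHom q P B.subtype rfl
  have hφ : ∀ w : B, φ (algebraMap B Bq w) = algebraMap R RP w := fun w => Localization.localRingHom_to_map _ _ _ _ _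
  have hφK : ∀ w : B, algebraMap RP K (φ (algebraMap B Bq w)) = algebraMap R K w := fun w => by
    rw [hφ, ← IsScalarTower.algebraMap_apply]
  let A' : B := ⟨a * t, hat⟩
  let D' : B := ⟨s * b, hsb⟩
  let S' : B := ∑ i ∈ Finset.range (g'.natDegree + 1), g'.coeff i * A' ^ i * D' ^ (g'.natDegree - i)
  have hS' : algebraMap B Bq S' = 0 := (IsLocalization.map_eq_zero_iff q.primeCompl _ _).2 ⟨⟨⟨u, hu'⟩, hu⟩, by
    refine Subtype.ext ?_
    show u * (B.subtype S') = 0
    rw [map_sum, hdeg, ← huS]
    congr 1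
    refine Finset.sum_congr rfl fun i _ => ?_
    rw [← hg', Polynomial.coeff_map, map_mul, map_mul, map_pow, map_pow]
    rfl⟩
  have hd' : algebraMap B Kq D' ≠ 0 := fun h0 => by
    rw [IsScalarTower.algebraMap_apply B Bq Kq] at h0
    have h2 := IsFractionRing.injective Bq Kq (h0.trans (map_zero _).symm)
    exact hd (by rw [← show algebraMap RP K (φ (algebraMap B Bq D')) = algebraMap R K (s * b) from hφK D', h2, map_zero, map_zero])
  have hint' : IsIntegral Bq (algebraMap B Kq A' / algebraMap B Kq D') := by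
    refine IsIntegral.tower_top (R := B) ⟨g', hmon, ?_⟩
    have h3 := homogeneous_eval (algebraMap B Kq) g' A' D' hd'
    rw [IsScalarTower.algebraMap_apply B Bq Kq S', hS', map_zero, mul_eq_zero] at h3
    exact h3.resolve_right (pow_ne_zero _ hd')
  obtain ⟨c, hc'⟩ := IsIntegrallyClosed.isIntegral_iff.1 hint'
  rw [eq_div_iff hd', IsScalarTower.algebraMap_apply B Bq Kq D', IsScalarTower.algebraMap_apply B Bq Kq A',
    ← map_mul] at hc'
  have h4 := congrArg (fun w => algebraMap RP K (φ w)) (IsFractionRing.injective Bq Kq hc')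
  simp only [map_mul, hφK] at h4
  change algebraMap RP K (φ c) * algebraMap R K (s * b) = algebraMap R K (a * t) at h4
  refine ⟨φ c * IsLocalization.mk' RP 1 ⟨m, hm⟩, ?_⟩
  rw [map_mul, hval, map_one, eq_comm, ← mul_left_inj' (hne m hm), mul_assoc, div_mul_cancel₀ _ (hne m hm), mul_one]
  rw [← mul_left_inj' hd, h4, ← div_mul_cancel₀ (algebraMap R K (a * t)) hd, hxy]
  congr 1
  rw [Submonoid.smul_def, Algebra.smul_def, mul_comm]

theorem isNormalRing_of_isLocalization {R L : Type u} [CommRing R] [CommRing L] [Algebra R L] (M : Submonoid R)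
    [IsLocalization M L] (h : EGA4.IsNormalRing R) : EGA4.IsNormalRing L := fun Q _ => by
  haveI := IsLocalization.isLocalization_isLocalization_atPrime_isLocalization M (Localization.AtPrime Q) Q
  let e := (IsLocalization.algEquiv (Q.comap (algebraMap R L)).primeCompl
    (Localization.AtPrime (Q.comap (algebraMap R L))) (Localization.AtPrime Q)).toRingEquiv
  obtain ⟨_, _⟩ := h (Q.comap (algebraMap R L))
  exact ⟨e.symm.toMulEquiv.isDomain (Localization.AtPrime (Q.comap (algebraMap R L))),
    IsIntegrallyClosed.of_equiv (R := Localization.AtPrime (Q.comap (algebraMap R L))) e⟩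

theorem isNormalRing_of_domain (C : Type u) [CommRing C] [IsDomain C] [IsIntegrallyClosed C] : EGA4.IsNormalRing C :=
  fun q _ => ⟨IsLocalization.isDomain_localization q.primeCompl_le_nonZeroDivisors,
    isIntegrallyClosed_of_isLocalization _ q.primeCompl q.primeCompl_le_nonZeroDivisors⟩

/-- Normality of a tensor product is local on the left factor. -/
theorem normal_localize_left (k T U : Type u) [CommRing k] [CommRing T] [CommRing U] [Algebra k T] [Algebra k U]
    (h : ∀ (p : Ideal T) [p.IsPrime], EGA4.IsNormalRing (Localization.AtPrime p ⊗[k] U)) :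
    EGA4.IsNormalRing (T ⊗[k] U) := fun P _ => by
  let p := P.comap (algebraMap T (T ⊗[k] U))
  let R := Localization.AtPrime p
  let f : T ⊗[k] U →ₐ[k] R ⊗[k] U := Algebra.TensorProduct.map (IsScalarTower.toAlgHom k T R) (AlgHom.id k U)
  letI : Algebra (T ⊗[k] U) (R ⊗[k] U) := f.toRingHom.toAlgebra
  haveI : IsScalarTower T (T ⊗[k] U) (R ⊗[k] U) := IsScalarTower.of_algebraMap_eq fun s => by
    show algebraMap T R s ⊗ₜ[k] (1 : U) = f (s ⊗ₜ 1)
    rfl
  let M := Algebra.algebraMapSubmonoid (T ⊗[k] U) p.primeCompl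
  haveI : IsLocalization M (R ⊗[k] U) := IsLocalization.tensorProduct_tensorProduct k U p.primeCompl R
    (RingHom.ext fun c => by
      show f (1 ⊗ₜ c) = 1 ⊗ₜ c
      exact congrArg (· ⊗ₜ[k] c) (map_one (algebraMap T R)))
  have hdisj : Disjoint (M : Set (T ⊗[k] U)) P := by
    rw [Set.disjoint_left]
    rintro _ ⟨b, hb, rfl⟩ hbq
    exact hb hbq
  haveI := IsLocalization.isPrime_of_isPrime_disjoint M (R ⊗[k] U) P inferInstance hdisj
  let Q := P.map (algebraMap (T ⊗[k] U) (R ⊗[k] U))
  have h1 : Q.comap (algebraMap (T ⊗[k] U) (R ⊗[k] U)) = P :=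
    IsLocalization.under_map_of_isPrime_disjoint M _ inferInstance hdisj
  haveI := IsLocalization.isLocalization_isLocalization_atPrime_isLocalization M (Localization.AtPrime Q) Q
  obtain ⟨_, _⟩ := h p Q
  let e : Localization.AtPrime Q ≃+* Localization.AtPrime P :=
    (IsLocalization.algEquiv (Q.comap (algebraMap (T ⊗[k] U) (R ⊗[k] U))).primeCompl
      (Localization.AtPrime Q) (Localization.AtPrime (Q.comap (algebraMap (T ⊗[k] U) (R ⊗[k] U))))).toRingEquiv.trans
    (IsLocalization.ringEquivOfRingEquiv (M := (Q.comap (algebraMap (T ⊗[k] U) (R ⊗[k] U))).primeCompl)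
      (T := P.primeCompl) _ (Localization.AtPrime P) (RingEquiv.refl _) (by
        ext x
        simp only [Submonoid.mem_map, Ideal.mem_primeCompl_iff]
        rw [h1]
        exact ⟨fun ⟨y, hy, hyx⟩ => hyx ▸ hy, fun hx => ⟨x, hx, rfl⟩⟩))
  exact ⟨e.symm.toMulEquiv.isDomain (Localization.AtPrime Q), IsIntegrallyClosed.of_equiv (R := Localization.AtPrime Q) e⟩

/-- Normality descends along faithfully flat maps. -/
theorem isNormalRing_descent (R S : Type u) [CommRing R] [CommRing S] [Algebra R S] [Module.FaithfullyFlat R S]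
    (hS : EGA4.IsNormalRing S) : EGA4.IsNormalRing R := fun p _ => by
  obtain ⟨T, hT⟩ := PrimeSpectrum.comap_surjective_of_faithfullyFlat (A := R) (B := S) ⟨p, inferInstance⟩
  have hp : T.asIdeal.comap (algebraMap R S) = p := congrArg PrimeSpectrum.asIdeal hT
  subst hp
  let q := T.asIdeal
  let p := q.comap (algebraMap R S)
  haveI : q.LiesOver p := ⟨rfl⟩
  letI := Localization.AtPrime.algebraOfLiesOver p q
  haveI : IsLocalHom (algebraMap (Localization.AtPrime p) (Localization.AtPrime q)) := by
    show IsLocalHom (Localization.localRingHom p q (algebraMap R S) rfl)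
    infer_instance
  haveI : Module.Flat S (Localization.AtPrime q) := IsLocalization.flat _ q.primeCompl
  haveI : Module.Flat R (Localization.AtPrime q) := Module.Flat.trans R S _
  haveI : Module.Flat (Localization.AtPrime p) (Localization.AtPrime q) :=
    (Module.flat_iff_of_isLocalization (Localization.AtPrime p) p.primeCompl _).2 inferInstance
  haveI : Module.FaithfullyFlat (Localization.AtPrime p) (Localization.AtPrime q) :=
    Module.FaithfullyFlat.of_flat_of_isLocalHom
  obtain ⟨_, _⟩ := hS q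
  exact FlatDepth.isIntegrallyClosed_descent (R := Localization.AtPrime p) (S := Localization.AtPrime q)

theorem isN2_quotient_field (k : Type u) [Field k] : CAlg.IsNagata k := ⟨inferInstance, fun p _ => by
  obtain rfl : p = ⊥ := (Ideal.eq_bot_or_top p).resolve_right Ideal.IsPrime.ne_top'
  exact Nagata.isN2_of_ringEquiv (RingEquiv.quotientBot k).symm (Nagata.isN2_field k)⟩

/-- A normal domain over a field is covered by normal Noetherian subalgebras. -/
theorem exists_normal_subalgebra (k A : Type u) [Field k] [CommRing A] [IsDomain A] [IsIntegrallyClosed A]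
    [Algebra k A] (F : Finset A) : ∃ (C : Type u) (_ : CommRing C) (_ : Algebra k C) (j : C →ₐ[k] A),
      Function.Injective j ∧ (F : Set A) ⊆ Set.range j ∧ IsNoetherianRing C ∧ EGA4.IsNormalRing C := by
  let A0 := Algebra.adjoin k (F : Set A)
  haveI : Algebra.FiniteType k A0 := (Subalgebra.fg_iff_finiteType A0).1 ⟨F, rfl⟩
  haveI : IsNoetherianRing A0 := Algebra.FiniteType.isNoetherianRing k A0
  have hN1 : CAlg.IsN1 A0 := Nagata.isN1_of_isN2
    (Nagata.isN2_of_isNagata (Nagata.isNagata_of_finiteType (R := k) (S := A0) (isN2_quotient_field k)))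
  let F0 := FractionRing A0
  let C := integralClosure A0 F0
  haveI : Module.Finite A0 C := hN1
  haveI : IsNoetherianRing C := IsNoetherianRing.of_finite A0 C
  haveI : IsIntegrallyClosed C := integralClosure.isIntegrallyClosedOfFiniteExtension F0
  have hinj : Function.Injective ((algebraMap A (FractionRing A)).comp A0.val.toRingHom) :=
    (IsFractionRing.injective A (FractionRing A)).comp Subtype.val_injective
  let φ : F0 →+* FractionRing A := IsFractionRing.lift hinj
  have hφ : ∀ a : A0, φ (algebraMap A0 F0 a) = algebraMap A (FractionRing A) a :=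
    fun a => IsFractionRing.lift_algebraMap hinj a
  have hmem : ∀ c : C, ∃ a : A, algebraMap A (FractionRing A) a = φ c := fun c => by
    refine IsIntegrallyClosed.isIntegral_iff.1 ?_
    obtain ⟨f, hf, hfc⟩ := c.2
    refine ⟨f.map A0.val.toRingHom, hf.map _, ?_⟩
    have h1 := congrArg φ hfc
    rw [map_zero, Polynomial.hom_eval₂] at h1
    rw [Polynomial.eval₂_map]
    rwa [show φ.comp (algebraMap A0 F0) = (algebraMap A (FractionRing A)).comp A0.val.toRingHom from
      RingHom.ext hφ] at h1
  choose jf hjf using hmem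
  have hAinj := IsFractionRing.injective A (FractionRing A)
  letI : Algebra k C := ((algebraMap A0 C).comp (algebraMap k A0)).toAlgebra
  let j : C →ₐ[k] A :=
    { toFun := jf
      map_one' := hAinj (by rw [hjf, map_one]; exact map_one φ)
      map_mul' := fun x y => hAinj (by rw [hjf, map_mul, hjf, hjf]; exact map_mul φ _ _)
      map_zero' := hAinj (by rw [hjf, map_zero]; exact map_zero φ)
      map_add' := fun x y => hAinj (by rw [hjf, map_add, hjf, hjf]; exact map_add φ _ _)
      commutes' := fun r => hAinj (by rw [hjf]; exact hφ (algebraMap k A0 r)) }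
  refine ⟨C, inferInstance, inferInstance, j, fun x y hxy => Subtype.ext (φ.injective ?_), fun a ha => ?_,
    inferInstance, isNormalRing_of_domain C⟩
  · rw [← hjf, ← hjf]
    exact congrArg _ hxy
  · exact ⟨algebraMap A0 C ⟨a, Algebra.subset_adjoin ha⟩, hAinj ((hjf _).trans (hφ _))⟩

theorem exists_right_finset (k K A : Type u) [Field k] [CommRing K] [Algebra k K] [CommRing A] [Algebra k A]
    (G : Finset (K ⊗[k] A)) : ∃ F : Finset A, ∀ z ∈ G, z ∈
      (Algebra.TensorProduct.map (AlgHom.id k K) (Algebra.adjoin k (F : Set A)).val).range := by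
  classical
  let f : ∀ L : Subalgebra k A, (K ⊗[k] L) →ₐ[k] (K ⊗[k] A) :=
    fun L => Algebra.TensorProduct.map (AlgHom.id k K) L.val
  have hmono : ∀ {L L' : Subalgebra k A}, L ≤ L' → (f L).range ≤ (f L').range := fun {L L'} hle => by
    rintro _ ⟨w, rfl⟩
    refine ⟨Algebra.TensorProduct.map (AlgHom.id k K) (Subalgebra.inclusion hle) w, ?_⟩
    induction w using TensorProduct.induction_on with
    | zero => simp
    | add a b ha hb => simp only [map_add, ha, hb]
    | tmul a b => rfl
  have h1 : ∀ z : K ⊗[k] A, ∃ F : Finset A, z ∈ (f (Algebra.adjoin k (F : Set A))).range := fun z => by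
    induction z using TensorProduct.induction_on with
    | zero => exact ⟨∅, zero_mem _⟩
    | tmul a b => exact ⟨{b}, ⟨a ⊗ₜ ⟨b, Algebra.subset_adjoin (by simp)⟩, rfl⟩⟩
    | add x y hx hy =>
      obtain ⟨F1, hF1⟩ := hx
      obtain ⟨F2, hF2⟩ := hy
      exact ⟨F1 ∪ F2, add_mem (hmono (Algebra.adjoin_mono (by simp)) hF1) (hmono (Algebra.adjoin_mono (by simp)) hF2)⟩
  choose F hF using h1
  exact ⟨G.biUnion F, fun z hz => hmono (Algebra.adjoin_mono
    (Finset.coe_subset.2 (Finset.subset_biUnion_of_mem F hz))) (hF z)⟩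

/-- Tensor products with arbitrary normal algebras reduce to Noetherian normal ones. -/
theorem normal_tensor_of_noetherian (k K A : Type u) [Field k] [CommRing K] [Algebra k K] [CommRing A] [Algebra k A]
    (h : ∀ (C : Type u) [CommRing C] [Algebra k C], IsNoetherianRing C → EGA4.IsNormalRing C →
      EGA4.IsNormalRing (K ⊗[k] C))
    (hA : EGA4.IsNormalRing A) : EGA4.IsNormalRing (K ⊗[k] A) := by
  refine FlatDepth.isNormalRing_of_equiv (Algebra.TensorProduct.comm k A K).toRingEquiv
    (normal_localize_left k A K fun p _ => ?_)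
  obtain ⟨_, _⟩ := hA p
  let A' := Localization.AtPrime p
  refine FlatDepth.isNormalRing_of_equiv (Algebra.TensorProduct.comm k A' K).symm.toRingEquiv
    (isNormalRing_of_subrings fun G => ?_)
  obtain ⟨F, hF⟩ := exists_right_finset k K A' G
  obtain ⟨C, _, _, j, hj, hFj, hCN, hCn⟩ := exists_normal_subalgebra k A' F
  let g := Algebra.TensorProduct.map (AlgHom.id k K) j
  have hg : Function.Injective g := Module.Flat.lTensor_preserves_injective_linearMap j.toLinearMap hj
  refine ⟨g.toRingHom.range, fun z hz => ?_, ?_⟩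
  · obtain ⟨w, rfl⟩ := hF z hz
    clear hz
    induction w using TensorProduct.induction_on with
    | zero => exact ⟨0, by simp⟩
    | add a b ha hb =>
      obtain ⟨a', ha'⟩ := ha
      obtain ⟨b', hb'⟩ := hb
      exact ⟨a' + b', by rw [map_add, ha', hb', map_add]⟩
    | tmul a b =>
      obtain ⟨c, hc⟩ : (b : A') ∈ j.range := Algebra.adjoin_le (S := j.range) hFj b.2
      exact ⟨a ⊗ₜ c, congrArg (a ⊗ₜ[k] ·) hc⟩
  · exact FlatDepth.isNormalRing_of_equiv (RingEquiv.ofBijective g.toRingHom.rangeRestrict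
      ⟨fun x y hxy => hg (congrArg Subtype.val hxy), g.toRingHom.rangeRestrict_surjective⟩) (h C hCN hCn)

/-- Normality of `K ⊗ A` is tested on finitely generated subfields of `K`. -/
theorem normal_of_subfields (k K A : Type u) [Field k] [Field K] [Algebra k K] [CommRing A] [Algebra k A]
    (h : ∀ L : IntermediateField k K, Algebra.EssFiniteType k L → EGA4.IsNormalRing (L ⊗[k] A)) :
    EGA4.IsNormalRing (K ⊗[k] A) := by
  refine isNormalRing_of_subrings fun G => ?_
  obtain ⟨F, hF⟩ := exists_range_of_finset k K A G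
  let L := IntermediateField.adjoin k (F : Set K)
  let g := Algebra.TensorProduct.map L.val (AlgHom.id k A)
  have hg : Function.Injective g :=
    Module.Flat.rTensor_preserves_injective_linearMap L.val.toLinearMap Subtype.val_injective
  refine ⟨g.toRingHom.range, hF, ?_⟩
  exact FlatDepth.isNormalRing_of_equiv (RingEquiv.ofBijective g.toRingHom.rangeRestrict
      ⟨fun x y hxy => hg (congrArg Subtype.val hxy), g.toRingHom.rangeRestrict_surjective⟩)
    (h L (IntermediateField.essFiniteType_iff.2 (IntermediateField.fg_adjoin_finset F)))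

/-- Base change by an extension with geometrically reduced subextensions. -/
theorem normal_tensor_geomReduced (k A k' : Type u) [Field k] [CommRing A] [Algebra k A] (hA : EGA4.IsNormalRing A)
    [Field k'] [Algebra k k'] [Algebra.IsGeometricallyReduced k k'] : EGA4.IsNormalRing (k' ⊗[k] A) := by
  refine normal_of_subfields k k' A fun L hL => normal_tensor_of_noetherian k L A (fun C _ _ hN hC => ?_) hA
  haveI := hL
  haveI := hN
  haveI : Algebra.IsGeometricallyReduced k L := Algebra.IsGeometricallyReduced.of_injective L.val Subtype.val_injective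
  haveI := FlatDepth.isNoetherianRing_tensor_essFinite k C L
  haveI : IsNoetherianRing (C ⊗[k] L) :=
    isNoetherianRing_of_ringEquiv (L ⊗[k] C) (Algebra.TensorProduct.comm k L C).toRingEquiv
  exact FlatDepth.isNormalRing_of_equiv (Algebra.TensorProduct.comm k C L).toRingEquiv
    (good_normal.tensor k C L hC fun k'' _ _ hfin _ => haveI := hfin;
      good_normal.of_regular _ (regular_of_geomReduced_field k L k''))

/-- Descent of normality along an extension of fields. -/
theorem normal_fieldDescent (k L K' A : Type u) [Field k] [Field L] [Field K'] [Algebra k L] [Algebra k K']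
    [Algebra L K'] [IsScalarTower k L K'] [CommRing A] [Algebra k A] (h : EGA4.IsNormalRing (K' ⊗[k] A)) :
    EGA4.IsNormalRing (L ⊗[k] A) :=
  isNormalRing_descent (L ⊗[k] A) ((L ⊗[k] A) ⊗[L] K')
    (FlatDepth.isNormalRing_of_equiv ((Algebra.TensorProduct.comm L (L ⊗[k] A) K').toRingEquiv.trans
      (Algebra.TensorProduct.cancelBaseChange k L K' K' A).toRingEquiv).symm h)

/-- Finite purely inseparable extensions suffice for normality. -/
theorem normal_all_of_purelyInseparable (k A : Type u) [Field k] [CommRing A] [Algebra k A]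
    (h : ∀ (k' : Type u) [Field k'] [Algebra k k'], Module.Finite k k' → IsPurelyInseparable k k' →
      EGA4.IsNormalRing (k' ⊗[k] A)) (K : Type u) [Field K] [Algebra k K] : EGA4.IsNormalRing (K ⊗[k] A) := by
  refine normal_of_subfields k K A fun L hL => ?_
  haveI := hL
  obtain ⟨k', K', _, _, _, _, _, _, _, _, hfin, hpi, hess, hsep⟩ := exists_sepGen k L
  refine normal_fieldDescent k L K' A
    (FlatDepth.isNormalRing_of_equiv (Algebra.TensorProduct.cancelBaseChange k k' K' K' A).toRingEquiv ?_)
  exact normal_tensor_of_noetherian k' K' (k' ⊗[k] A)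
    (fun C _ _ hN hC => haveI := hN; (good_normal.sepGen k' K' C hsep hC).1) (h k' hfin hpi)

end Groth.Agent.GeomProp
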