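import Groth.Agent.GeomProp.RegLocal
import Groth.Agent.RegLimit.Basic
import Mathlib

/-!
Smooth algebras and their direct limits give regular homomorphisms.
-/

set_option autoImplicit false
set_option linter.style.haveILetI false

namespace Groth.Agent.GeomProp

universe u

open TensorProduct

theorem isRegularRing_of_standardSmooth (k S : Type u) [Field k] [CommRing S] [Algebra k S]
    [Algebra.IsStandardSmooth k S] [IsNoetherianRing S] : IsRegularRing S := by
  obtain ⟨n, g, -, hg⟩ := RingHom.IsStandardSmooth.exists_etale_mvPolynomial
    (f := algebraMap k S) (RingHom.isStandardSmooth_algebraMap.2 inferInstance)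
  letI : Algebra (MvPolynomial (Fin n) k) S := g.toAlgebra
  haveI : Algebra.Etale (MvPolynomial (Fin n) k) S := hg
  haveI : Module.Flat (MvPolynomial (Fin n) k) S := Algebra.Smooth.flat _ _
  exact good_regular.formallyUnramified (MvPolynomial (Fin n) k) S inferInstance

/-- Smooth algebras over fields are regular. -/
theorem isRegularRing_of_smooth (k S : Type u) [Field k] [CommRing S] [Algebra k S] [Algebra.Smooth k S] :
    IsRegularRing S := by
  haveI : IsNoetherianRing S := Algebra.FiniteType.isNoetherianRing k S
  refine isRegularRing_iff.2 fun p _ => ?_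
  haveI : Algebra.IsSmoothAt k p := inferInstance
  obtain ⟨f, hf, hstd⟩ := Algebra.IsSmoothAt.exists_notMem_isStandardSmooth k p
  haveI := hstd
  let Sf := Localization.Away f
  haveI : IsNoetherianRing Sf := IsLocalization.isNoetherianRing (Submonoid.powers f) _ inferInstance
  haveI := isRegularRing_of_standardSmooth k Sf
  have hdisj : Disjoint ((Submonoid.powers f : Submonoid S) : Set S) p :=
    (Ideal.disjoint_powers_iff_notMem_of_isPrime f).2 hf
  let Q := p.map (algebraMap S Sf)
  haveI : Q.IsPrime := IsLocalization.isPrime_of_isPrime_disjoint (Submonoid.powers f) _ p inferInstance hdisj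
  have hQ : Q.comap (algebraMap S Sf) = p :=
    IsLocalization.under_map_of_isPrime_disjoint (Submonoid.powers f) _ inferInstance hdisj
  haveI := IsLocalization.isLocalization_isLocalization_atPrime_isLocalization (Submonoid.powers f)
    (Localization.AtPrime Q) Q
  exact IsRegularLocalRing.of_ringEquiv (R := Localization.AtPrime Q)
    ((IsLocalization.algEquiv (Q.comap (algebraMap S Sf)).primeCompl
        (Localization.AtPrime Q) (Localization.AtPrime (Q.comap (algebraMap S Sf)))).toRingEquiv.trans
      (IsLocalization.ringEquivOfRingEquiv (M := (Q.comap (algebraMap S Sf)).primeCompl)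
        (T := p.primeCompl) _ (Localization.AtPrime p) (RingEquiv.refl _) (by
          ext x
          simp only [Submonoid.mem_map, Ideal.mem_primeCompl_iff]
          rw [hQ]
          exact ⟨fun ⟨y, hy, hyx⟩ => hyx ▸ hy, fun hx => ⟨x, hx, rfl⟩⟩)))

theorem isRegularHom_of_smooth (R S : Type u) [CommRing R] [CommRing S] [Algebra R S] [Algebra.Smooth R S] :
    CAlg.IsRegularHom R S := by
  refine ⟨inferInstance, fun p _ => ?_⟩
  haveI : IsNoetherianRing (p.Fiber S) := Algebra.FiniteType.isNoetherianRing p.ResidueField _
  exact ⟨inferInstance, fun K _ _ _ => isRegularRing_of_smooth K _⟩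

end Groth.Agent.GeomProp
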