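import Groth.Agent.GeomProp.Apps
import Groth.Agent.GeomProp.SmoothReg
import Groth.Agent.GeomProp.Reduced
import Groth.Agent.RegLocus.J2
import Groth.Agent.SmDesc.Ring
import Groth.Agent.CotT.PointSmooth
import Mathlib

/-!
Smoothness and regularity at a prime with separable residue field.
-/

set_option autoImplicit false
set_option linter.style.haveILetI false

namespace Groth.Agent.GeomProp

universe u

open TensorProduct

theorem isSmoothAt_of_regular_algClosed (K T : Type u) [Field K] [IsAlgClosed K] [CommRing T] [Algebra K T]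
    [Algebra.FiniteType K T] (Q : PrimeSpectrum T) (h : IsRegularLocalRing (Localization.AtPrime Q.asIdeal)) :
    Q ∈ Algebra.smoothLocus K T := by
  haveI : Algebra.FinitePresentation K T := Algebra.FinitePresentation.of_finiteType.1 inferInstance
  haveI : IsNoetherianRing T := Algebra.FiniteType.isNoetherianRing K T
  haveI : IsJacobsonRing T := isJacobsonRing_of_finiteType (A := K)
  have hopen : IsOpen (EGA4.regLocus T) := RegLocus.isJ2_field K T inferInstance
  obtain ⟨M, ⟨hM1, hM2⟩, hM3⟩ := nonempty_inter_closedPoints (Z := closure {Q} ∩ EGA4.regLocus T)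
    ⟨Q, subset_closure rfl, h⟩ (isClosed_closure.isLocallyClosed.inter hopen.isLocallyClosed)
  haveI : M.asIdeal.IsMaximal := (PrimeSpectrum.isClosed_singleton_iff_isMaximal M).1 hM3
  have hM' : M ∈ Algebra.smoothLocus K T := (CotT.regular_iff_smoothAt (k := K) M.asIdeal).1 hM2
  exact (specializes_iff_mem_closure.2 hM1).mem_open Algebra.isOpen_smoothLocus hM'

theorem isRegular_of_isSmoothAt (k S : Type u) [Field k] [CommRing S] [Algebra k S] [Algebra.FiniteType k S]
    (q : Ideal S) [q.IsPrime] (h : Algebra.IsSmoothAt k q) : IsRegularLocalRing (Localization.AtPrime q) := by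
  haveI : Algebra.FinitePresentation k S := Algebra.FinitePresentation.of_finiteType.1 inferInstance
  obtain ⟨f, hfq, hf⟩ := Algebra.IsSmoothAt.exists_notMem_smooth k q
  haveI := hf
  haveI := isRegularRing_of_smooth k (Localization.Away f)
  have hd : Disjoint (Submonoid.powers f : Set S) q := by
    rw [Set.disjoint_left]
    rintro _ ⟨n, rfl⟩ hn
    exact hfq (‹q.IsPrime›.mem_of_pow_mem n hn)
  let q' := q.map (algebraMap S (Localization.Away f))
  haveI : q'.IsPrime := IsLocalization.isPrime_of_isPrime_disjoint (Submonoid.powers f) _ _ ‹q.IsPrime› hd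
  haveI : IsLocalization.AtPrime (Localization.AtPrime q') q := by
    convert IsLocalization.isLocalization_isLocalization_atPrime_isLocalization (Submonoid.powers f)
      (Localization.AtPrime q') q'
    exact (IsLocalization.under_map_of_isPrime_disjoint _ _ ‹q.IsPrime› hd).symm
  haveI := IsRegularRing.isRegularLocalRing_localization q'
  exact IsRegularLocalRing.of_ringEquiv (R := Localization.AtPrime q')
    (IsLocalization.algEquiv q.primeCompl (Localization.AtPrime q') (Localization.AtPrime q)).toRingEquiv

attribute [local instance] Algebra.TensorProduct.rightAlgebra in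
theorem isSmoothAt_of_regular (k S : Type u) [Field k] [CommRing S] [Algebra k S] [Algebra.FiniteType k S]
    (q : Ideal S) [q.IsPrime] [Algebra.IsGeometricallyReduced k q.ResidueField]
    (h : IsRegularLocalRing (Localization.AtPrime q)) : Algebra.IsSmoothAt k q := by
  let K := AlgebraicClosure k
  haveI : IsNoetherianRing S := Algebra.FiniteType.isNoetherianRing k S
  haveI : Algebra.FinitePresentation k S := Algebra.FinitePresentation.of_finiteType.1 inferInstance
  let B := S ⊗[k] K
  let c : B ≃+* K ⊗[k] S := (Algebra.TensorProduct.comm k S K).toRingEquiv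
  haveI : IsNoetherianRing (K ⊗[k] S) := Algebra.FiniteType.isNoetherianRing K _
  haveI : IsNoetherianRing B := isNoetherianRing_of_ringEquiv _ c.symm
  obtain ⟨P, hP⟩ := PrimeSpectrum.comap_surjective_of_faithfullyFlat (A := S) (B := B) ⟨q, inferInstance⟩
  have hPq : P.asIdeal.comap (algebraMap S B) = q := congrArg PrimeSpectrum.asIdeal hP
  have hreg : IsRegularLocalRing (Localization.AtPrime P.asIdeal) := by
    subst hPq
    let p := P.asIdeal.comap (algebraMap S B)
    let κ := p.ResidueField
    haveI : Algebra.EssFiniteType k κ := Algebra.EssFiniteType.comp k S κ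
    haveI := FlatDepth.isNoetherianRing_tensor_essFinite k K κ
    haveI : IsNoetherianRing (K ⊗[k] κ) :=
      isNoetherianRing_of_ringEquiv (κ ⊗[k] K) (Algebra.TensorProduct.comm k κ K).toRingEquiv
    haveI : IsRegularRing (p.Fiber B) := FlatDepth.isRegularRing_of_equiv (K ⊗[k] κ) _
      ((Algebra.TensorProduct.comm k K κ).toRingEquiv.trans
        (Algebra.TensorProduct.cancelBaseChange k S κ κ K).toRingEquiv.symm)
      (isRegularRing_tensor_fields k K κ)
    obtain ⟨Q, _, ⟨e⟩⟩ := FlatDepth.exists_fibre_equiv (A := S) P.asIdeal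
    haveI := IsRegularRing.isRegularLocalRing_localization Q
    exact FlatDepth.isRegular_atPrime_ascent P.asIdeal h (IsRegularLocalRing.of_ringEquiv (R := Localization.AtPrime Q) e)
  let Q : PrimeSpectrum (K ⊗[k] S) := PrimeSpectrum.comap c.symm.toRingHom P
  have hQ : IsRegularLocalRing (Localization.AtPrime Q.asIdeal) := by
    haveI := hreg
    exact IsRegularLocalRing.of_ringEquiv (R := Localization.AtPrime P.asIdeal)
      (IsLocalization.ringEquivOfRingEquiv (M := P.asIdeal.primeCompl) (T := Q.asIdeal.primeCompl)
        (Localization.AtPrime P.asIdeal) (Localization.AtPrime Q.asIdeal) c (by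
          ext y
          simp only [Submonoid.mem_map, Ideal.mem_primeCompl_iff]
          exact ⟨fun ⟨z, hz, hzy⟩ => hzy ▸ fun hh => hz (by simpa [Q] using hh),
            fun hy => ⟨c.symm y, hy, by simp⟩⟩))
  have hsm := SmDesc.isSmoothAt_of_tensor (R := k) (S := S) (T := K) Q (isSmoothAt_of_regular_algClosed K _ Q hQ)
  have hq : PrimeSpectrum.comap (algebraMap S (K ⊗[k] S)) Q = ⟨q, inferInstance⟩ := by
    rw [← hP, ← PrimeSpectrum.comap_comp_apply]
    congr 1
  rw [hq] at hsm
  exact hsm

theorem isSmoothAt_iff_regular (k S : Type u) [Field k] [CommRing S] [Algebra k S] [Algebra.FiniteType k S]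
    (q : Ideal S) [q.IsPrime] [Algebra.IsGeometricallyReduced k q.ResidueField] :
    Algebra.IsSmoothAt k q ↔ IsRegularLocalRing (Localization.AtPrime q) :=
  ⟨isRegular_of_isSmoothAt k S q, isSmoothAt_of_regular k S q⟩

theorem geomReduced_of_perfectField (k A : Type u) [Field k] [PerfectField k] [CommRing A] [Algebra k A] [IsReduced A] :
    Algebra.IsGeometricallyReduced k A := by
  refine geomReduced_of_pi k A fun k' _ _ hfin hpi => ?_
  haveI := hfin
  haveI := hpi
  haveI : Algebra.IsSeparable k k' := Algebra.IsAlgebraic.isSeparable_of_perfectField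
  have hb := IsPurelyInseparable.bijective_algebraMap_of_isSeparable k k'
  exact isReduced_of_injective
    (((Algebra.TensorProduct.congr (AlgEquiv.ofBijective (Algebra.ofId k k') hb).symm (AlgEquiv.refl)).trans
      (Algebra.TensorProduct.lid k A)))
    (((Algebra.TensorProduct.congr (AlgEquiv.ofBijective (Algebra.ofId k k') hb).symm (AlgEquiv.refl)).trans
      (Algebra.TensorProduct.lid k A))).injective

end Groth.Agent.GeomProp
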