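import Groth.Agent.GeomProp.Good
import Mathlib

/-!
Consequences: criteria for geometric regularity and normality.
-/

set_option autoImplicit false
set_option linter.style.haveILetI false

namespace Groth.Agent.GeomProp

universe u

open TensorProduct

variable {P : ∀ (R : Type u) [CommRing R], Prop}

theorem Good.geom_iff (hP : Good P) (k S : Type u) [Field k] [CommRing S] [Algebra k S] [IsNoetherianRing S] :
    ((∀ (k' : Type u) [Field k'] [Algebra k k'], Module.Finite k k' → P (k' ⊗[k] S)) ↔
      ∀ (k' : Type u) [Field k'] [Algebra k k'], Module.Finite k k' → IsPurelyInseparable k k' → P (k' ⊗[k] S)) ∧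
    ((∀ (k' : Type u) [Field k'] [Algebra k k'], Module.Finite k k' → P (k' ⊗[k] S)) ↔
      ∀ (K : Type u) [Field K] [Algebra k K], Algebra.EssFiniteType k K → P (K ⊗[k] S)) :=
  ⟨⟨fun h k' _ _ hfin _ => h k' hfin,
    fun h k' _ _ hfin => haveI := hfin; hP.essFinite k S h k'⟩,
   ⟨fun h K _ _ hK => haveI := hK; hP.essFinite k S (fun k' _ _ hfin _ => h k' hfin) K,
    fun h k' _ _ hfin => haveI := hfin; h k' inferInstance⟩⟩

theorem Good.geom_baseField_iff (hP : Good P) (k K S : Type u) [Field k] [Field K] [Algebra k K] [CommRing S]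
    [Algebra k S] [IsNoetherianRing S] [IsNoetherianRing (K ⊗[k] S)] :
    (∀ (k' : Type u) [Field k'] [Algebra k k'], Module.Finite k k' → P (k' ⊗[k] S)) ↔
      ∀ (L : Type u) [Field L] [Algebra K L], Module.Finite K L → P (L ⊗[K] (K ⊗[k] S)) :=
  ⟨fun h L _ _ hL => haveI := hL; hP.baseChange k K S (fun k' _ _ hfin _ => h k' hfin) L,
    fun h k' _ _ hfin => haveI := hfin; hP.baseDescent k K S h k'⟩

theorem Good.geom_tensor (hP : Good P) (k S T : Type u) [Field k] [CommRing S] [CommRing T] [Algebra k S] [Algebra k T]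
    [IsNoetherianRing S] [IsNoetherianRing T] [IsNoetherianRing (S ⊗[k] T)]
    (hS : ∀ (k' : Type u) [Field k'] [Algebra k k'], Module.Finite k k' → P (k' ⊗[k] S))
    (hT : ∀ (k' : Type u) [Field k'] [Algebra k k'], Module.Finite k k' → P (k' ⊗[k] T))
    (k' : Type u) [Field k'] [Algebra k k'] [Module.Finite k k'] : P (k' ⊗[k] (S ⊗[k] T)) := by
  haveI := FlatDepth.isNoetherianRing_tensor_essFinite k S k'
  haveI := FlatDepth.isNoetherianRing_tensor_essFinite k (S ⊗[k] T) k'
  let e : (k' ⊗[k] (S ⊗[k] T)) ≃+* ((k' ⊗[k] S) ⊗[k] T) :=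
    (Algebra.TensorProduct.assoc k k k k' S T).symm.toRingEquiv
  haveI : IsNoetherianRing ((k' ⊗[k] S) ⊗[k] T) := isNoetherianRing_of_ringEquiv (k' ⊗[k] (S ⊗[k] T)) e
  exact hP.equiv _ _ e.symm (hP.tensor k (k' ⊗[k] S) T (hS k' inferInstance) fun k'' _ _ hfin _ => hT k'' hfin)

theorem regular_of_geomReduced_field (k K k' : Type u) [Field k] [Field K] [Algebra k K]
    [Algebra.IsGeometricallyReduced k K] [Field k'] [Algebra k k'] [Module.Finite k k'] :
    IsRegularRing (k' ⊗[k] K) := by
  haveI : IsReduced (k' ⊗[k] K) := GeomRedPull.isReduced_field_tensor (k := k) (A := K) k'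
  haveI : Module.Finite K (K ⊗[k] k') := inferInstance
  haveI : IsArtinianRing (K ⊗[k] k') := IsArtinianRing.of_finite K _
  haveI : IsReduced (K ⊗[k] k') := isReduced_of_injective (Algebra.TensorProduct.comm k K k')
    (Algebra.TensorProduct.comm k K k').injective
  exact FlatDepth.isRegularRing_of_equiv _ _ (Algebra.TensorProduct.comm k K k').toRingEquiv
    (isRegularRing_of_reduced_artinian (K ⊗[k] k'))

theorem isRegularRing_tensor_fields (k K L : Type u) [Field k] [Field K] [Field L] [Algebra k K] [Algebra k L]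
    [Algebra.IsGeometricallyReduced k L] [IsNoetherianRing (K ⊗[k] L)] : IsRegularRing (K ⊗[k] L) :=
  good_regular.all k L (fun k' _ _ hfin _ => haveI := hfin; regular_of_geomReduced_field k L k') K

theorem isRegularHom_field_iff (k K : Type u) [Field k] [Field K] [Algebra k K] :
    CAlg.IsRegularHom k K ↔ Algebra.IsGeometricallyReduced k K := by
  refine ⟨fun h => FlatDepth.geomReduced_of_finite fun k' _ _ hk' => ?_, fun h => ⟨inferInstance, fun p _ => ?_⟩⟩
  · let p : Ideal k := ⊥
    letI : Algebra p.ResidueField k' := (Ideal.ResidueField.lift p (algebraMap k k') bot_le (fun x hx =>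
      Ne.isUnit (by rw [map_ne_zero]; exact fun h0 => hx (Ideal.mem_bot.2 h0)))).toAlgebra
    haveI : IsScalarTower k p.ResidueField k' := IsScalarTower.of_algebraMap_eq fun a =>
      (Ideal.ResidueField.lift_algebraMap _ _ _ _ a).symm
    haveI := hk'
    haveI : Module.Finite p.ResidueField k' := Module.Finite.of_restrictScalars_finite k p.ResidueField k'
    have h1 : IsRegularRing (k' ⊗[p.ResidueField] p.Fiber K) := (h.2 p).2 k' inferInstance
    haveI := FlatDepth.isReduced_of_isNormalRing _ (FlatDepth.isNormalRing_of_isRegularRing (k' ⊗[p.ResidueField] p.Fiber K))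
    exact isReduced_of_injective (Algebra.TensorProduct.cancelBaseChange k p.ResidueField k' k' K).symm
      (Algebra.TensorProduct.cancelBaseChange k p.ResidueField k' k' K).symm.injective
  · haveI := h
    haveI : Module.Finite k p.ResidueField := by
      obtain rfl : p = ⊥ := (Ideal.eq_bot_or_top p).resolve_right Ideal.IsPrime.ne_top'
      exact Module.Finite.of_surjective (Algebra.linearMap k _)
        (Ideal.algebraMap_residueField_surjective (⊥ : Ideal k))
    refine ⟨FlatDepth.isNoetherianRing_tensor_essFinite k K p.ResidueField, fun k' _ _ hk' => ?_⟩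
    letI : Algebra k k' := ((algebraMap p.ResidueField k').comp (algebraMap k p.ResidueField)).toAlgebra
    haveI : IsScalarTower k p.ResidueField k' := IsScalarTower.of_algebraMap_eq fun _ => rfl
    haveI := hk'
    haveI : Module.Finite k k' := Module.Finite.trans p.ResidueField k'
    exact FlatDepth.isRegularRing_of_equiv _ _
      (Algebra.TensorProduct.cancelBaseChange k p.ResidueField k' k' K).toRingEquiv.symm
      (regular_of_geomReduced_field k K k')

end Groth.Agent.GeomProp
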