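import Mathlib

/-!
Every finitely generated field extension becomes separably generated after a finite purely
inseparable extension of the base field.
-/

set_option autoImplicit false
set_option linter.style.haveILetI false

namespace Groth.Agent.GeomProp

universe u

open IntermediateField

/-- `K'` is an extension which is formally unramified and flat over a polynomial ring over `k`. -/
def SepGen (k K' : Type u) [Field k] [Field K'] [Algebra k K'] : Prop :=
  ∃ (σ : Type u) (_ : Finite σ) (_ : Algebra (MvPolynomial σ k) K'),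
    IsScalarTower k (MvPolynomial σ k) K' ∧ Module.Flat (MvPolynomial σ k) K' ∧
      Algebra.FormallyUnramified (MvPolynomial σ k) K' ∧ Algebra.EssFiniteType (MvPolynomial σ k) K'

/-- Evaluation of a derivation on a polynomial with constant coefficients. -/
theorem D_eval (P0 K : Type u) [CommRing P0] [Field K] [Algebra P0 K] (g : Polynomial K) (x : K)
    (hg : ∀ i, KaehlerDifferential.D P0 K (g.coeff i) = 0) :
    KaehlerDifferential.D P0 K (g.eval x) = g.derivative.eval x • KaehlerDifferential.D P0 K x := by
  conv_lhs => rw [Polynomial.eval_eq_sum, Polynomial.sum_def, map_sum]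
  conv_rhs => rw [Polynomial.derivative_eval, Polynomial.sum_def, Finset.sum_smul]
  refine Finset.sum_congr rfl fun i _ => ?_
  rw [Derivation.leibniz, hg i, smul_zero, add_zero, Derivation.leibniz_pow, ← Nat.cast_smul_eq_nsmul K,
    smul_smul, smul_smul]


/-- A field generated by elements which are separable over a purely transcendental subextension. -/
theorem sepGen_of_separable (k' K' : Type u) [Field k'] [Field K'] [Algebra k' K'] {σ : Type u} [Finite σ] (v : σ → K')
    (hv : AlgebraicIndependent k' v) (s : Set K') (hsfin : s.Finite) (hs : IntermediateField.adjoin k' s = ⊤)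
    (hsep : ∀ z ∈ s, ∃ g : Polynomial K', g.Separable ∧ g.eval z = 0 ∧
      ∀ i, g.coeff i ∈ IntermediateField.adjoin k' (Set.range v)) : SepGen k' K' := by
  haveI : Algebra.EssFiniteType k' K' := by
    haveI : Algebra.EssFiniteType k' (IntermediateField.adjoin k' s) :=
      IntermediateField.essFiniteType_iff.2 (fg_adjoin_of_finite hsfin)
    rw [hs] at this
    exact Algebra.EssFiniteType.of_surjective IntermediateField.topEquiv.toAlgHom IntermediateField.topEquiv.surjective
  let P0 := MvPolynomial σ k'
  letI : Algebra P0 K' := (MvPolynomial.aeval v).toRingHom.toAlgebra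
  haveI : IsScalarTower k' P0 K' :=
    IsScalarTower.of_algebraMap_eq fun c => ((MvPolynomial.aeval v).commutes c).symm
  have hinj : Function.Injective (algebraMap P0 K') := hv
  haveI : Module.Flat P0 K' := by
    letI : Algebra (FractionRing P0) K' := (IsFractionRing.lift (K := FractionRing P0) hinj).toAlgebra
    haveI : IsScalarTower P0 (FractionRing P0) K' :=
      IsScalarTower.of_algebraMap_eq fun c => (IsFractionRing.lift_algebraMap hinj c).symm
    haveI : Module.Flat P0 (FractionRing P0) := IsLocalization.flat _ (nonZeroDivisors P0)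
    exact Module.Flat.trans P0 (FractionRing P0) K'
  haveI : Algebra.EssFiniteType P0 K' := Algebra.EssFiniteType.of_comp k' P0 K'
  let D := KaehlerDifferential.D P0 K'
  let Z : IntermediateField k' K' :=
    { carrier := {z | D z = 0}
      zero_mem' := map_zero D
      one_mem' := Derivation.map_one_eq_zero D
      add_mem' := fun {a b} (ha : D a = 0) (hb : D b = 0) => show D (a + b) = 0 by rw [map_add, ha, hb, add_zero]
      mul_mem' := fun {a b} (ha : D a = 0) (hb : D b = 0) => show D (a * b) = 0 by
        rw [Derivation.leibniz, ha, hb, smul_zero, smul_zero, add_zero]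
      inv_mem' := fun a (ha : D a = 0) => show D a⁻¹ = 0 by rw [Derivation.leibniz_inv, ha, smul_zero]
      algebraMap_mem' := fun c => show D (algebraMap k' K' c) = 0 by
        rw [IsScalarTower.algebraMap_apply k' P0 K', Derivation.map_algebraMap] }
  have hZv : IntermediateField.adjoin k' (Set.range v) ≤ Z := IntermediateField.adjoin_le_iff.2 (by
    rintro _ ⟨x, rfl⟩
    show D (v x) = 0
    rw [show v x = algebraMap P0 K' (MvPolynomial.X x) from (MvPolynomial.aeval_X v x).symm,
      Derivation.map_algebraMap])
  have hZs : s ⊆ Z := fun z hz => by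
    obtain ⟨g, hg, hroot, hc⟩ := hsep z hz
    have h9 := D_eval P0 K' g z fun i => hZv (hc i)
    rw [hroot, map_zero, eq_comm, smul_eq_zero] at h9
    exact h9.resolve_left (hg.eval₂_derivative_ne_zero (RingHom.id K') (by rwa [Polynomial.eval₂_id]))
  haveI : Algebra.FormallyUnramified P0 K' := by
    refine ⟨subsingleton_of_forall_eq 0 fun ω => ?_⟩
    have hD : ∀ z : K', D z = 0 := fun z =>
      (hs.ge.trans (IntermediateField.adjoin_le_iff.2 hZs) : ⊤ ≤ Z) IntermediateField.mem_top
    have hω := (KaehlerDifferential.span_range_derivation P0 K').ge (Submodule.mem_top (x := ω))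
    rw [show Set.range D = {0} from Set.eq_singleton_iff_unique_mem.2 ⟨⟨0, map_zero D⟩, by
      rintro _ ⟨z, rfl⟩; exact hD z⟩, Submodule.span_zero_singleton, Submodule.mem_bot] at hω
    exact hω
  exact ⟨σ, inferInstance, inferInstance, inferInstance, inferInstance, inferInstance, inferInstance⟩

theorem exists_sepGen (k K : Type u) [Field k] [Field K] [Algebra k K] [Algebra.EssFiniteType k K] :
    ∃ (k' K' : Type u) (_ : Field k') (_ : Field K') (_ : Algebra k k') (_ : Algebra k' K') (_ : Algebra K K')
      (_ : Algebra k K'), IsScalarTower k k' K' ∧ IsScalarTower k K K' ∧ Module.Finite k k' ∧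
        IsPurelyInseparable k k' ∧ Algebra.EssFiniteType k K' ∧ SepGen k' K' := by
  classical
  let Ω := AlgebraicClosure K
  obtain ⟨s₀, hs₀⟩ := IntermediateField.fg_top k K
  let s : Set Ω := algebraMap K Ω '' (s₀ : Set K)
  have hsfin : s.Finite := s₀.finite_toSet.image _
  let kp : IntermediateField k Ω := perfectClosure k Ω
  haveI : PerfectField kp := perfectClosure.perfectField k Ω
  let L : IntermediateField kp Ω := IntermediateField.adjoin kp s
  haveI : Algebra.EssFiniteType kp L := IntermediateField.essFiniteType_iff.2 (fg_adjoin_of_finite hsfin)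
  obtain ⟨t₀, ht₀, hsep⟩ := exists_isTranscendenceBasis_and_isSeparable_of_perfectField kp L
  let t : Set Ω := ((↑) : L → Ω) '' (t₀ : Set L)
  have htfin : t.Finite := t₀.finite_toSet.image _
  have hmem : ∀ (X : Set Ω) (x : Ω), x ∈ IntermediateField.adjoin kp X →
      ∃ F : Finset Ω, (F : Set Ω) ⊆ kp ∧ x ∈ IntermediateField.adjoin k ((F : Set Ω) ∪ X) := fun X x hx => by
    have hx' : x ∈ IntermediateField.adjoin k ((kp : Set Ω) ∪ X) := by
      rw [← IntermediateField.restrictScalars_adjoin]; exact hx
    obtain ⟨T, hTS, hT⟩ := IntermediateField.exists_finset_of_mem_adjoin hx'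
    refine ⟨T.filter (· ∈ kp), fun z hz => (Finset.mem_filter.1 hz).2, IntermediateField.adjoin.mono k _ _ ?_ hT⟩
    intro z hz
    rcases hTS hz with h | h
    · exact Or.inl (Finset.mem_filter.2 ⟨hz, h⟩)
    · exact Or.inr h
  let E0 := IntermediateField.adjoin kp (t₀ : Set L)
  have hgen : ∀ x : s, ∃ f : Polynomial Ω, f.Separable ∧ f.eval (x : Ω) = 0 ∧
      ∀ i, f.coeff i ∈ IntermediateField.adjoin kp t := fun ⟨x, hx⟩ => by
    let x' : L := ⟨x, IntermediateField.subset_adjoin kp s hx⟩
    have hx' : IsSeparable E0 x' := Algebra.IsSeparable.isSeparable E0 x'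
    let φ : E0 →+* Ω := (algebraMap L Ω).comp (algebraMap E0 L)
    refine ⟨(minpoly E0 x').map φ, (Polynomial.separable_map φ).2 hx', ?_, fun i => ?_⟩
    · have h1 := congrArg (algebraMap L Ω) (minpoly.aeval E0 x')
      rw [map_zero, Polynomial.aeval_def, Polynomial.hom_eval₂] at h1
      rw [Polynomial.eval_map]
      exact h1
    · rw [Polynomial.coeff_map]
      have h2 : (IntermediateField.adjoin kp t) = E0.map L.val := by
        rw [IntermediateField.adjoin_map]; rfl
      rw [h2]
      exact ⟨_, ((minpoly E0 x').coeff i).2, rfl⟩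
  choose f hf0 hf1 hf2 using hgen
  choose Fc hFc hFc' using fun (x : s) (i : ℕ) => hmem t _ (hf2 x i)
  have htL : ∀ x : t, (x : Ω) ∈ IntermediateField.adjoin kp s := by
    rintro ⟨_, y, -, rfl⟩; exact y.2
  choose Ft hFt hFt' using fun x : t => hmem s _ (htL x)
  haveI := hsfin.fintype
  haveI := htfin.fintype
  let F : Finset Ω := (Finset.univ.biUnion fun x : s => (Finset.range ((f x).natDegree + 1)).biUnion (Fc x)) ∪
    Finset.univ.biUnion Ft
  have hFkp : (F : Set Ω) ⊆ kp := by
    intro z hz
    rcases Finset.mem_union.1 hz with h | h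
    · obtain ⟨x, -, hx⟩ := Finset.mem_biUnion.1 h
      obtain ⟨i, -, hi⟩ := Finset.mem_biUnion.1 hx
      exact hFc x i hi
    · obtain ⟨x, -, hx⟩ := Finset.mem_biUnion.1 h
      exact hFt x hx
  let k' : IntermediateField k Ω := IntermediateField.adjoin k (F : Set Ω)
  have hk'le : k' ≤ kp := IntermediateField.adjoin_le_iff.2 hFkp
  haveI : IsPurelyInseparable k k' := (le_perfectClosure_iff k Ω k').1 hk'le
  haveI : Module.Finite k k' := IntermediateField.finiteDimensional_adjoin fun z hz =>
    ((mem_perfectClosure_iff.1 (hFkp hz)).elim fun n ⟨y, hy⟩ =>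
      IsIntegral.of_pow (pow_pos (expChar_pos k (ringExpChar k)) n) (hy ▸ isIntegral_algebraMap))
  let K' : IntermediateField k' Ω := IntermediateField.adjoin k' s
  have hk'mem : ∀ (X : Set Ω) (x : Ω), x ∈ IntermediateField.adjoin k ((F : Set Ω) ∪ X) →
      x ∈ IntermediateField.adjoin k' X := fun X x hx => by
    rw [IntermediateField.adjoin_union] at hx
    have h3 : x ∈ (IntermediateField.adjoin k' X).restrictScalars k := by
      rw [IntermediateField.restrictScalars_adjoin_eq_sup]; exact hx
    exact h3
  have htK : ∀ x : t, (x : Ω) ∈ K' := fun x => hk'mem s _ (IntermediateField.adjoin.mono k _ _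
    (Set.union_subset_union_left s fun z hz => Finset.mem_union_right _ (Finset.mem_biUnion.2 ⟨x, Finset.mem_univ _, hz⟩))
    (hFt' x))
  have hKK' : ∀ z : K, algebraMap K Ω z ∈ K' := fun z => by
    have hle : IntermediateField.adjoin k (s₀ : Set K) ≤
        (K'.restrictScalars k).comap (IsScalarTower.toAlgHom k K Ω) :=
      IntermediateField.adjoin_le_iff.2 fun w hw => IntermediateField.subset_adjoin k' s ⟨w, hw, rfl⟩
    exact hle (hs₀.ge IntermediateField.mem_top)
  letI : Algebra K K' := ((algebraMap K Ω).codRestrict K' hKK').toAlgebra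
  haveI : IsScalarTower k K K' := IsScalarTower.of_algebraMap_eq fun c =>
    Subtype.ext ((IsScalarTower.algebraMap_apply k K Ω c).trans rfl)
  haveI : Algebra.EssFiniteType k' K' := IntermediateField.essFiniteType_iff.2 (fg_adjoin_of_finite hsfin)
  haveI : Algebra.EssFiniteType k K' := Algebra.EssFiniteType.comp k k' K'
  have h4 : AlgebraicIndependent kp (fun x : t => (x : Ω)) :=
    ((ht₀.1.map' (f := L.val) Subtype.val_injective).to_subtype_range).mono
      (by rintro _ ⟨y, hy, rfl⟩; exact ⟨⟨y, hy⟩, rfl⟩)
  letI : Algebra k' kp := (IntermediateField.inclusion hk'le).toRingHom.toAlgebra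
  haveI : IsScalarTower k' kp Ω := IsScalarTower.of_algebraMap_eq fun _ => rfl
  have h5 : AlgebraicIndependent k' (fun x : t => (x : Ω)) :=
    h4.restrictScalars (IntermediateField.inclusion hk'le).injective
  let v : t → K' := fun x => ⟨x, htK x⟩
  let s' : Set K' := (algebraMap K' Ω) ⁻¹' s
  have hEv : IntermediateField.adjoin k' t = (IntermediateField.adjoin k' (Set.range v)).map K'.val := by
    rw [IntermediateField.adjoin_map]
    congr 1
    ext z
    exact ⟨fun hz => ⟨_, ⟨⟨z, hz⟩, rfl⟩, rfl⟩, by rintro ⟨_, ⟨x, rfl⟩, rfl⟩; exact x.2⟩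
  refine ⟨k', K', inferInstance, inferInstance, inferInstance, inferInstance, inferInstance, inferInstance,
    inferInstance, inferInstance, inferInstance, inferInstance, inferInstance,
    sepGen_of_separable k' K' v (AlgebraicIndependent.of_comp K'.val h5) s'
      (hsfin.preimage Subtype.val_injective.injOn) ?_ fun z hz => ?_⟩
  · refine IntermediateField.map_injective K'.val ?_
    rw [IntermediateField.adjoin_map, ← AlgHom.fieldRange_eq_map, IntermediateField.fieldRange_val]
    congr 1
    exact Set.image_preimage_eq_of_subset fun w hw => ⟨⟨w, IntermediateField.subset_adjoin k' s hw⟩, rfl⟩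
  · let x₀ : s := ⟨algebraMap K' Ω z, hz⟩
    have h6 : ∀ i, (f x₀).coeff i ∈ IntermediateField.adjoin k' t := fun i => by
      by_cases hi : i ≤ (f x₀).natDegree
      · refine hk'mem t _ (IntermediateField.adjoin.mono k _ _ ?_ (hFc' x₀ i))
        refine Set.union_subset_union_left t fun w hw => ?_
        refine Finset.mem_union_left _ (Finset.mem_biUnion.2 ⟨x₀, Finset.mem_univ _, ?_⟩)
        exact Finset.mem_biUnion.2 ⟨i, Finset.mem_range.2 (Nat.lt_succ_of_le hi), hw⟩
      · rw [Polynomial.coeff_eq_zero_of_natDegree_lt (not_le.1 hi)]; exact zero_mem _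
    rw [hEv] at h6
    choose c hc hc' using h6
    obtain ⟨g, hg⟩ : ∃ g : Polynomial K', g.map (algebraMap K' Ω) = f x₀ :=
      (Polynomial.mem_lifts _).1 ((Polynomial.lifts_iff_coeff_lifts _).2 fun i => ⟨c i, hc' i⟩)
    refine ⟨g, (Polynomial.separable_map (algebraMap K' Ω)).1 (hg ▸ hf0 _), ?_, fun i => ?_⟩
    · refine (algebraMap K' Ω).injective ?_
      rw [← Polynomial.eval_map_apply, hg, map_zero]
      exact hf1 x₀
    · have : g.coeff i = c i := (algebraMap K' Ω).injective (by
        rw [← Polynomial.coeff_map, hg]; exact (hc' i).symm)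
      rw [this]
      exact hc i

end Groth.Agent.GeomProp
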