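import Groth.Agent.FlatDepth.Regular
import Groth.Agent.GeomProp.SepGen
import Mathlib

/-!
Geometric regularity and geometric normality under arbitrary field extensions.
-/

set_option autoImplicit false
set_option linter.style.haveILetI false

namespace Groth.Agent.GeomProp

universe u

open IsLocalRing TensorProduct

/-- A property of Noetherian rings which ascends and descends along flat maps. -/
structure Good (P : ∀ (R : Type u) [CommRing R], Prop) : Prop where
  equiv : ∀ (R R' : Type u) [CommRing R] [CommRing R'], (R ≃+* R') → P R → P R'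
  of_regular : ∀ (R : Type u) [CommRing R], IsRegularRing R → P R
  ascent : ∀ (R S : Type u) [CommRing R] [CommRing S] [Algebra R S] [IsNoetherianRing R] [IsNoetherianRing S]
    [Module.Flat R S], P R → (∀ (Q : Ideal R) [Q.IsPrime], P (Q.Fiber S)) → P S
  descent : ∀ (R S : Type u) [CommRing R] [CommRing S] [Algebra R S] [IsNoetherianRing R] [IsNoetherianRing S]
    [Module.FaithfullyFlat R S], P S → P R
  colim : ∀ (R : Type u) [CommRing R] [IsNoetherianRing R],
    (∀ (Q : Ideal R) [Q.IsPrime], ∃ (R0 : Type u) (_ : CommRing R0) (_ : Algebra R0 R),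
      IsNoetherianRing R0 ∧ Module.Flat R0 R ∧ P R0 ∧ Q = (Q.comap (algebraMap R0 R)).map (algebraMap R0 R)) → P R

theorem isRegularLocalRing_quot_eq {R : Type u} [CommRing R] [IsLocalRing R] (I : Ideal R)
    (hI : I = maximalIdeal R) : IsRegularLocalRing (R ⧸ I) :=
  IsRegularLocalRing.of_ringEquiv (R := ResidueField R) (Ideal.quotEquivOfEq hI).symm

theorem map_comap_eq_maximal {R0 R : Type u} [CommRing R0] [CommRing R] [Algebra R0 R] (P : Ideal R) [P.IsPrime]
    (h : P = (P.comap (algebraMap R0 R)).map (algebraMap R0 R)) :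
    (P.comap (algebraMap R0 R)).map (algebraMap R0 (Localization.AtPrime P)) = maximalIdeal _ := by
  rw [IsScalarTower.algebraMap_eq R0 R, ← Ideal.map_map, ← h, Localization.AtPrime.map_eq_maximalIdeal]

theorem good_regular : Good.{u} (fun R _ => IsRegularRing R) where
  equiv := FlatDepth.isRegularRing_of_equiv
  of_regular _ _ h := h
  ascent R S _ _ _ _ _ _ := FlatDepth.isRegularRing_ascent R S
  descent R S _ _ _ _ _ _ := FlatDepth.isRegularRing_descent R S
  colim R _ _ h := ⟨fun P _ => by
    obtain ⟨R0, _, _, _, _, h0, hP⟩ := h P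
    exact FlatDepth.isRegular_atPrime_ascent P (h0.isRegularLocalRing_localization _)
      (isRegularLocalRing_quot_eq _ (map_comap_eq_maximal P hP))⟩

theorem condS_residueField (n : ℕ) (k : Type u) [Field k] : FlatDepth.CondS n k :=
  FlatDepth.condS_of_hasSk k (FlatDepth.hasSk_of_dim_zero n k)

theorem good_normal : Good.{u} (fun R _ => EGA4.IsNormalRing R) where
  equiv R R' _ _ e h := FlatDepth.isNormalRing_of_equiv e h
  of_regular R _ h := FlatDepth.isNormalRing_of_isRegularRing R
  ascent R S _ _ _ _ _ _ hR hF q _ := by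
    refine FlatDepth.normal_ascent (A := R) (fun P _ => ?_) hR q
    obtain ⟨Q, _, ⟨e⟩⟩ := FlatDepth.exists_fibre_equiv (A := R) P
    obtain ⟨_, _⟩ := hF _ Q
    haveI := e.symm.toMulEquiv.isDomain (Localization.AtPrime Q)
    exact ⟨inferInstance, IsIntegrallyClosed.of_equiv (R := Localization.AtPrime Q) e⟩
  descent R S _ _ _ _ _ _ hS q _ := by
    obtain ⟨P, _, hP, -⟩ := FlatDepth.exists_minimal_over (B := S) q
    obtain ⟨_, _⟩ := hS P
    subst hP
    exact FlatDepth.normal_atPrime_descent P
  colim R _ _ h q _ := by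
    refine (S0601.result R).2 ⟨fun P _ hht => ?_, (FlatDepth.hasSk_iff_condS 2 R).2 fun P _ => ?_⟩ q
    · obtain ⟨R0, _, _, _, _, h0, hP⟩ := h P
      exact FlatDepth.isRegular_atPrime_ascent P
        (((S0601.result R0).1 h0).1 _ ((FlatDepth.height_comap_le P).trans hht))
        (isRegularLocalRing_quot_eq _ (map_comap_eq_maximal P hP))
    · obtain ⟨R0, _, _, _, _, h0, hP⟩ := h P
      haveI := FlatDepth.isLocalRing_fibLocRing (A := R0) P
      refine FlatDepth.condS_atPrime_ascent 2 P
        ((FlatDepth.hasSk_iff_condS 2 R0).1 ((S0601.result R0).1 h0).2 _) ?_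
      exact (condS_residueField 2 (ResidueField (Localization.AtPrime P))).of_ringEquiv
        (Ideal.quotEquivOfEq (map_comap_eq_maximal (R0 := R0) P hP).symm)

theorem isRegularRing_of_reduced_artinian (F : Type u) [CommRing F] [IsArtinianRing F] [IsReduced F] :
    IsRegularRing F := ⟨fun p _ => by
  haveI : IsArtinianRing (Localization.AtPrime p) := inferInstance
  refine IsRegularLocalRing.of_spanFinrank_maximalIdeal_le (Localization.AtPrime p) ?_
  rw [IsLocalRing.isField_iff_maximalIdeal_eq.1
    (IsArtinianRing.isField_of_isReduced_of_isLocalRing (Localization.AtPrime p)), Submodule.spanFinrank_bot,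
    Nat.cast_zero]
  exact ringKrullDim_nonneg_of_nontrivial⟩

variable {P : ∀ (R : Type u) [CommRing R], Prop}

theorem Good.mvPolynomial (hP : Good P) (S : Type u) [CommRing S] [IsNoetherianRing S] (σ : Type u) [Finite σ]
    (hS : P S) : P (MvPolynomial σ S) := by
  refine hP.ascent S (MvPolynomial σ S) hS fun Q _ => hP.of_regular _ ?_
  exact IsRegularRing.of_ringEquiv
    (MvPolynomial.algebraTensorAlgEquiv (σ := σ) S Q.ResidueField).toRingEquiv.symm

theorem Good.formallyUnramified (hP : Good P) (R B : Type u) [CommRing R] [CommRing B] [Algebra R B]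
    [IsNoetherianRing R] [IsNoetherianRing B] [Module.Flat R B] [Algebra.FormallyUnramified R B]
    [Algebra.EssFiniteType R B] (hR : P R) : P B := by
  refine hP.ascent R B hR fun Q _ => hP.of_regular _ ?_
  haveI : Module.Finite Q.ResidueField (Q.Fiber B) := Algebra.FormallyUnramified.finite_of_free _ _
  haveI : IsArtinianRing (Q.Fiber B) := IsArtinianRing.of_finite Q.ResidueField _
  haveI : IsReduced (Q.Fiber B) := Algebra.FormallyUnramified.isReduced_of_field Q.ResidueField _
  exact isRegularRing_of_reduced_artinian _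

theorem Good.sepGen (hP : Good P) (k K S : Type u) [Field k] [Field K] [Algebra k K] [CommRing S] [Algebra k S]
    [IsNoetherianRing S] (hK : SepGen k K) (hS : P S) : P (K ⊗[k] S) ∧ IsNoetherianRing (K ⊗[k] S) := by
  obtain ⟨σ, _, _, _, _, _, _⟩ := hK
  let P0 := MvPolynomial σ k
  let e : P0 ⊗[k] S ≃+* MvPolynomial σ S :=
    (Algebra.TensorProduct.comm k P0 S).toRingEquiv.trans (MvPolynomial.algebraTensorAlgEquiv k S).toRingEquiv
  haveI : IsNoetherianRing (P0 ⊗[k] S) := isNoetherianRing_of_ringEquiv _ e.symm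
  let B := (P0 ⊗[k] S) ⊗[P0] K
  haveI : IsNoetherianRing B := Algebra.EssFiniteType.isNoetherianRing (P0 ⊗[k] S) B
  have h1 : P B := hP.formallyUnramified (P0 ⊗[k] S) B (hP.equiv _ _ e.symm (hP.mvPolynomial S σ hS))
  let φ : B ≃+* K ⊗[k] S := (Algebra.TensorProduct.comm P0 (P0 ⊗[k] S) K).toRingEquiv.trans
    (Algebra.TensorProduct.cancelBaseChange k P0 K K S).toRingEquiv
  exact ⟨hP.equiv _ _ φ h1, isNoetherianRing_of_ringEquiv B φ⟩

/-- Descent along an extension of fields. -/
theorem Good.fieldDescent (hP : Good P) (k K L S : Type u) [Field k] [Field K] [Field L] [Algebra k K] [Algebra k L]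
    [Algebra K L] [IsScalarTower k K L] [CommRing S] [Algebra k S] [IsNoetherianRing (K ⊗[k] S)]
    [IsNoetherianRing (L ⊗[k] S)] (h : P (L ⊗[k] S)) : P (K ⊗[k] S) := by
  let φ : (K ⊗[k] S) ⊗[K] L ≃+* L ⊗[k] S := (Algebra.TensorProduct.comm K (K ⊗[k] S) L).toRingEquiv.trans
    (Algebra.TensorProduct.cancelBaseChange k K L L S).toRingEquiv
  haveI : IsNoetherianRing ((K ⊗[k] S) ⊗[K] L) := isNoetherianRing_of_ringEquiv _ φ.symm
  exact hP.descent (K ⊗[k] S) ((K ⊗[k] S) ⊗[K] L) (hP.equiv _ _ φ.symm h)

/-- Finite purely inseparable extensions suffice for all finitely generated ones. -/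
theorem Good.essFinite (hP : Good P) (k S : Type u) [Field k] [CommRing S] [Algebra k S] [IsNoetherianRing S]
    (h : ∀ (k' : Type u) [Field k'] [Algebra k k'], Module.Finite k k' → IsPurelyInseparable k k' → P (k' ⊗[k] S))
    (K : Type u) [Field K] [Algebra k K] [Algebra.EssFiniteType k K] : P (K ⊗[k] S) := by
  obtain ⟨k', K', _, _, _, _, _, _, _, _, hfin, hpi, hess, hsep⟩ := exists_sepGen k K
  haveI := hfin
  haveI := hess
  haveI := FlatDepth.isNoetherianRing_tensor_essFinite k S k'
  haveI := FlatDepth.isNoetherianRing_tensor_essFinite k S K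
  haveI := FlatDepth.isNoetherianRing_tensor_essFinite k S K'
  exact hP.fieldDescent k K K' S (hP.equiv _ _ (Algebra.TensorProduct.cancelBaseChange k k' K' K' S).toRingEquiv
    (hP.sepGen k' K' (k' ⊗[k] S) hsep (h k' hfin hpi)).1)

theorem exists_range_of_finset (k K S : Type u) [Field k] [Field K] [Algebra k K] [CommRing S] [Algebra k S]
    (G : Finset (K ⊗[k] S)) : ∃ F : Finset K, ∀ z ∈ G, z ∈
      (Algebra.TensorProduct.map (IntermediateField.adjoin k (F : Set K)).val (AlgHom.id k S)).range := by
  classical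
  let f : ∀ L : IntermediateField k K, (L ⊗[k] S) →ₐ[k] (K ⊗[k] S) :=
    fun L => Algebra.TensorProduct.map L.val (AlgHom.id k S)
  have hmono : ∀ {L L' : IntermediateField k K}, L ≤ L' → (f L).range ≤ (f L').range := fun {L L'} hle => by
    rintro _ ⟨w, rfl⟩
    refine ⟨Algebra.TensorProduct.map (IntermediateField.inclusion hle) (AlgHom.id k S) w, ?_⟩
    induction w using TensorProduct.induction_on with
    | zero => simp
    | add a b ha hb => simp only [map_add, ha, hb]
    | tmul a b => rfl
  have h1 : ∀ z : K ⊗[k] S, ∃ F : Finset K, z ∈ (f (IntermediateField.adjoin k (F : Set K))).range := fun z => by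
    induction z using TensorProduct.induction_on with
    | zero => exact ⟨∅, zero_mem _⟩
    | tmul a b => exact ⟨{a}, ⟨⟨a, IntermediateField.subset_adjoin k _ (by simp)⟩ ⊗ₜ b, rfl⟩⟩
    | add x y hx hy =>
      obtain ⟨F1, hF1⟩ := hx
      obtain ⟨F2, hF2⟩ := hy
      exact ⟨F1 ∪ F2, add_mem (hmono (IntermediateField.adjoin.mono k _ _ (by simp)) hF1)
        (hmono (IntermediateField.adjoin.mono k _ _ (by simp)) hF2)⟩
  choose F hF using h1
  exact ⟨G.biUnion F, fun z hz => hmono (IntermediateField.adjoin.mono k _ _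
    (Finset.coe_subset.2 (Finset.subset_biUnion_of_mem F hz))) (hF z)⟩

/-- The change of field as a flat map. -/
theorem exists_flat_map (k L K S : Type u) [Field k] [Field L] [Field K] [Algebra k L] [Algebra k K] [Algebra L K]
    [IsScalarTower k L K] [CommRing S] [Algebra k S] :
    ∃ (g : L ⊗[k] S →+* K ⊗[k] S), g.Flat ∧
      ∀ w, g w = Algebra.TensorProduct.map (IsScalarTower.toAlgHom k L K) (AlgHom.id k S) w := by
  let T := (L ⊗[k] S) ⊗[L] K
  let φ : T →+* K ⊗[k] S := ((Algebra.TensorProduct.cancelBaseChange k L K K S).toRingEquiv.toRingHom).comp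
    (Algebra.TensorProduct.comm L (L ⊗[k] S) K).toRingEquiv.toRingHom
  refine ⟨φ.comp (algebraMap (L ⊗[k] S) T), RingHom.Flat.comp (RingHom.flat_algebraMap_iff.2 inferInstance)
    (RingHom.Flat.of_bijective ((Algebra.TensorProduct.cancelBaseChange k L K K S).bijective.comp
      (Algebra.TensorProduct.comm L (L ⊗[k] S) K).bijective)), fun w => ?_⟩
  induction w using TensorProduct.induction_on with
  | zero => simp
  | add a b ha hb => simp only [map_add, ha, hb]
  | tmul a b =>
    show (Algebra.TensorProduct.cancelBaseChange k L K K S) ((1 : K) ⊗ₜ[L] (a ⊗ₜ[k] b)) = algebraMap L K a ⊗ₜ[k] b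
    rw [Algebra.TensorProduct.cancelBaseChange_tmul]
    simp [Algebra.smul_def]

/-- Finite purely inseparable extensions suffice for all extensions with Noetherian base change. -/
theorem Good.all (hP : Good P) (k S : Type u) [Field k] [CommRing S] [Algebra k S] [IsNoetherianRing S]
    (h : ∀ (k' : Type u) [Field k'] [Algebra k k'], Module.Finite k k' → IsPurelyInseparable k k' → P (k' ⊗[k] S))
    (K : Type u) [Field K] [Algebra k K] [IsNoetherianRing (K ⊗[k] S)] : P (K ⊗[k] S) := by
  refine hP.colim (K ⊗[k] S) fun Q _ => ?_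
  obtain ⟨G, hG⟩ := (IsNoetherian.noetherian Q : Q.FG)
  obtain ⟨F, hF⟩ := exists_range_of_finset k K S G
  let L := IntermediateField.adjoin k (F : Set K)
  haveI : Algebra.EssFiniteType k L := IntermediateField.essFiniteType_iff.2 (IntermediateField.fg_adjoin_finset F)
  haveI := FlatDepth.isNoetherianRing_tensor_essFinite k S L
  obtain ⟨g, hflat, hg⟩ := exists_flat_map k L K S
  letI : Algebra (L ⊗[k] S) (K ⊗[k] S) := g.toAlgebra
  have hφ : ∀ w, algebraMap (L ⊗[k] S) (K ⊗[k] S) w = Algebra.TensorProduct.map L.val (AlgHom.id k S) w :=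
    fun w => (congrArg (· w) (RingHom.algebraMap_toAlgebra g)).trans (hg w)
  refine ⟨L ⊗[k] S, inferInstance, inferInstance, inferInstance, RingHom.flat_algebraMap_iff.1 hflat,
    hP.essFinite k S h L, le_antisymm ?_ Ideal.map_comap_le⟩
  · conv_lhs => rw [← hG]
    refine Ideal.span_le.2 fun z hz => ?_
    obtain ⟨w, hw⟩ := hF z hz
    rw [← show algebraMap (L ⊗[k] S) (K ⊗[k] S) w = z from (hφ w).trans hw]
    exact Ideal.mem_map_of_mem _ (Ideal.mem_comap.2 (by
      rw [show algebraMap (L ⊗[k] S) (K ⊗[k] S) w = z from (hφ w).trans hw, ← hG]; exact Ideal.subset_span hz))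

/-- Change of the base field. -/
theorem Good.baseChange (hP : Good P) (k K S : Type u) [Field k] [Field K] [Algebra k K] [CommRing S] [Algebra k S]
    [IsNoetherianRing S] [IsNoetherianRing (K ⊗[k] S)]
    (h : ∀ (k' : Type u) [Field k'] [Algebra k k'], Module.Finite k k' → IsPurelyInseparable k k' → P (k' ⊗[k] S))
    (L : Type u) [Field L] [Algebra K L] [Module.Finite K L] : P (L ⊗[K] (K ⊗[k] S)) := by
  letI : Algebra k L := ((algebraMap K L).comp (algebraMap k K)).toAlgebra
  haveI : IsScalarTower k K L := IsScalarTower.of_algebraMap_eq fun _ => rfl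
  let e := (Algebra.TensorProduct.cancelBaseChange k K L L S).toRingEquiv
  haveI := FlatDepth.isNoetherianRing_tensor_essFinite K (K ⊗[k] S) L
  haveI : IsNoetherianRing (L ⊗[k] S) := isNoetherianRing_of_ringEquiv _ e
  exact hP.equiv _ _ e.symm (hP.all k S h L)

/-- Descent of the base field. -/
theorem Good.baseDescent (hP : Good P) (k K S : Type u) [Field k] [Field K] [Algebra k K] [CommRing S] [Algebra k S]
    [IsNoetherianRing S] [IsNoetherianRing (K ⊗[k] S)]
    (h : ∀ (L : Type u) [Field L] [Algebra K L], Module.Finite K L → P (L ⊗[K] (K ⊗[k] S)))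
    (k' : Type u) [Field k'] [Algebra k k'] [Module.Finite k k'] : P (k' ⊗[k] S) := by
  obtain ⟨M, hM⟩ := Ideal.exists_maximal (K ⊗[k] k')
  letI : Field ((K ⊗[k] k') ⧸ M) := Ideal.Quotient.field M
  let L := (K ⊗[k] k') ⧸ M
  haveI : Module.Finite K L := Module.Finite.of_surjective (Ideal.Quotient.mkₐ K M).toLinearMap Ideal.Quotient.mk_surjective
  let g : k' →ₐ[k] L := (Ideal.Quotient.mkₐ k M).comp Algebra.TensorProduct.includeRight
  letI : Algebra k' L := g.toRingHom.toAlgebra
  haveI : IsScalarTower k k' L := IsScalarTower.of_algebraMap_eq fun c => (g.commutes c).symm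
  let e := (Algebra.TensorProduct.cancelBaseChange k K L L S).toRingEquiv
  haveI := FlatDepth.isNoetherianRing_tensor_essFinite k S k'
  haveI := FlatDepth.isNoetherianRing_tensor_essFinite K (K ⊗[k] S) L
  haveI : IsNoetherianRing (L ⊗[k] S) := isNoetherianRing_of_ringEquiv _ e
  exact hP.fieldDescent k k' L S (hP.equiv _ _ e (h L inferInstance))

/-- The tensor product with a geometrically `P` algebra. -/
theorem Good.tensor (hP : Good P) (k S T : Type u) [Field k] [CommRing S] [CommRing T] [Algebra k S] [Algebra k T]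
    [IsNoetherianRing S] [IsNoetherianRing T] [IsNoetherianRing (S ⊗[k] T)] (hS : P S)
    (hT : ∀ (k' : Type u) [Field k'] [Algebra k k'], Module.Finite k k' → IsPurelyInseparable k k' → P (k' ⊗[k] T)) :
    P (S ⊗[k] T) := by
  refine hP.ascent S (S ⊗[k] T) hS fun Q _ => ?_
  let e := (Algebra.TensorProduct.cancelBaseChange k S Q.ResidueField Q.ResidueField T).toRingEquiv
  haveI : IsNoetherianRing (Q.ResidueField ⊗[k] T) :=
    @isNoetherianRing_of_ringEquiv (Q.Fiber (S ⊗[k] T)) _ _ _ e
      (FlatDepth.isNoetherianRing_tensor_essFinite S (S ⊗[k] T) Q.ResidueField)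
  exact hP.equiv _ _ e.symm (hP.all k T hT Q.ResidueField)

end Groth.Agent.GeomProp
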