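import Groth.Agent.GeomProp.NormalSep
import Groth.Agent.GeomProp.Good
import Groth.Agent.GeomProp.RegLocal
import Mathlib

/-!
Geometric regularity under separable algebraic extensions of the base field.
-/

set_option autoImplicit false
set_option linter.style.haveILetI false
set_option backward.isDefEq.respectTransparency false
set_option backward.isDefEq.respectTransparency.types false

namespace Groth.Agent.GeomProp

universe u

open IsLocalRing TensorProduct

theorem regular_localize_left (k T U : Type u) [CommRing k] [CommRing T] [CommRing U] [Algebra k T] [Algebra k U]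
    [IsNoetherianRing (T ⊗[k] U)]
    (h : ∀ (p : Ideal T) [p.IsPrime], IsRegularRing (Localization.AtPrime p ⊗[k] U)) :
    IsRegularRing (T ⊗[k] U) := ⟨fun P _ => by
  let p := P.comap (algebraMap T (T ⊗[k] U))
  let R := Localization.AtPrime p
  let f : T ⊗[k] U →ₐ[k] R ⊗[k] U := Algebra.TensorProduct.map (IsScalarTower.toAlgHom k T R) (AlgHom.id k U)
  letI : Algebra (T ⊗[k] U) (R ⊗[k] U) := f.toRingHom.toAlgebra
  haveI : IsScalarTower T (T ⊗[k] U) (R ⊗[k] U) := IsScalarTower.of_algebraMap_eq fun s => by
    show algebraMap T R s ⊗ₜ[k] (1 : U) = f (s ⊗ₜ 1)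
    rfl
  let M := Algebra.algebraMapSubmonoid (T ⊗[k] U) p.primeCompl
  haveI : IsLocalization M (R ⊗[k] U) := IsLocalization.tensorProduct_tensorProduct k U p.primeCompl R
    (RingHom.ext fun c => by
      show f (1 ⊗ₜ c) = 1 ⊗ₜ c
      exact congrArg (· ⊗ₜ[k] c) (map_one (algebraMap T R)))
  have hdisj : Disjoint (M : Set (T ⊗[k] U)) P := by
    rw [Set.disjoint_left]
    rintro _ ⟨b, hb, rfl⟩ hbq
    exact hb hbq
  haveI := IsLocalization.isPrime_of_isPrime_disjoint M (R ⊗[k] U) P inferInstance hdisj
  let Q := P.map (algebraMap (T ⊗[k] U) (R ⊗[k] U))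
  have h1 : Q.comap (algebraMap (T ⊗[k] U) (R ⊗[k] U)) = P :=
    IsLocalization.under_map_of_isPrime_disjoint M _ inferInstance hdisj
  haveI := IsLocalization.isLocalization_isLocalization_atPrime_isLocalization M (Localization.AtPrime Q) Q
  haveI := h p
  haveI : IsRegularLocalRing (Localization.AtPrime Q) := IsRegularRing.isRegularLocalRing_localization Q
  let e : Localization.AtPrime Q ≃+* Localization.AtPrime P :=
    (IsLocalization.algEquiv (Q.comap (algebraMap (T ⊗[k] U) (R ⊗[k] U))).primeCompl
      (Localization.AtPrime Q) (Localization.AtPrime (Q.comap (algebraMap (T ⊗[k] U) (R ⊗[k] U))))).toRingEquiv.trans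
    (IsLocalization.ringEquivOfRingEquiv (M := (Q.comap (algebraMap (T ⊗[k] U) (R ⊗[k] U))).primeCompl)
      (T := P.primeCompl) _ (Localization.AtPrime P) (RingEquiv.refl _) (by
        ext x
        simp only [Submonoid.mem_map, Ideal.mem_primeCompl_iff]
        rw [h1]
        exact ⟨fun ⟨y, hy, hyx⟩ => hyx ▸ hy, fun hx => ⟨x, hx, rfl⟩⟩))
  exact IsRegularLocalRing.of_ringEquiv (R := Localization.AtPrime Q) e⟩

/-- A factor field of an Artinian reduced ring preserves regularity of a tensor product. -/
theorem regular_tensor_of_surjective (k R A : Type u) {L : Type u} [CommRing k] [CommRing R] [IsArtinianRing R]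
    [IsReduced R] [CommRing A] [Field L] [Algebra k R] [Algebra k A] [Algebra k L] (φ : R →ₐ[k] L)
    (hφ : Function.Surjective φ) (hRA : IsRegularRing (R ⊗[k] A)) : IsRegularRing (L ⊗[k] A) := by
  haveI : (RingHom.ker φ).IsMaximal := RingHom.ker_isMaximal_of_surjective φ hφ
  let p : Ideal R := RingHom.ker φ
  let ψ : R →ₐ[k] Localization.AtPrime p := IsScalarTower.toAlgHom k R _
  have hψ : Function.Surjective ψ := IsArtinianRing.localization_surjective p.primeCompl _
  letI := (IsArtinianRing.isField_of_isReduced_of_isLocalRing (Localization.AtPrime p)).toField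
  have hker : RingHom.ker ψ = p := by
    refine Ideal.IsMaximal.eq_of_le (RingHom.ker_isMaximal_of_surjective ψ hψ) (Ideal.IsMaximal.ne_top inferInstance) fun r hr => ?_
    by_contra hrp
    exact (IsLocalization.map_units (Localization.AtPrime p) (⟨r, hrp⟩ : p.primeCompl)).ne_zero hr
  let eL : Localization.AtPrime p ≃ₐ[k] L :=
    ((Ideal.quotientKerAlgEquivOfSurjective hψ).symm.trans (Ideal.quotientEquivAlgOfEq k hker)).trans
      (Ideal.quotientKerAlgEquivOfSurjective hφ)
  let f : R ⊗[k] A →ₐ[k] Localization.AtPrime p ⊗[k] A :=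
    Algebra.TensorProduct.map ψ (AlgHom.id k A)
  letI : Algebra (R ⊗[k] A) (Localization.AtPrime p ⊗[k] A) := f.toRingHom.toAlgebra
  haveI : IsScalarTower R (R ⊗[k] A) (Localization.AtPrime p ⊗[k] A) :=
    IsScalarTower.of_algebraMap_eq fun s => by
      show algebraMap R _ s ⊗ₜ[k] (1 : A) = f (s ⊗ₜ 1)
      rfl
  haveI : IsLocalization (Algebra.algebraMapSubmonoid (R ⊗[k] A) p.primeCompl)
      (Localization.AtPrime p ⊗[k] A) :=
    IsLocalization.tensorProduct_tensorProduct k A p.primeCompl (Localization.AtPrime p)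
      (RingHom.ext fun c => by
        show f (1 ⊗ₜ c) = 1 ⊗ₜ c
        exact congrArg (· ⊗ₜ[k] c) (map_one ψ))
  exact FlatDepth.isRegularRing_of_equiv _ _
    (Algebra.TensorProduct.congr eL (AlgEquiv.refl (R := k) (A₁ := A))).toRingEquiv
    (isRegularRing_of_isLocalization (L := Localization.AtPrime p ⊗[k] A) (Algebra.algebraMapSubmonoid (R ⊗[k] A) p.primeCompl) hRA)

section sep

variable (k k' A : Type u) [Field k] [Field k'] [Algebra k k'] [CommRing A] [Algebra k' A] [Algebra k A]
  [IsScalarTower k k' A] [Algebra.IsSeparable k k'] [IsNoetherianRing A]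

/-- `R = k' ⊗_k k1` is Artinian and reduced, and `R ⊗_{k'} A ≅ k1 ⊗_k A`. -/
theorem sep_tensor_data (k1 : Type u) [Field k1] [Algebra k k1] [Module.Finite k k1] :
    IsArtinianRing (k' ⊗[k] k1) ∧ IsReduced (k' ⊗[k] k1) ∧
      Nonempty ((k' ⊗[k] k1) ⊗[k'] A ≃+* k1 ⊗[k] A) := by
  haveI := geomReduced_of_isSeparable k k'
  haveI : IsReduced (k1 ⊗[k] k') := GeomRedPull.isReduced_field_tensor (k := k) (A := k') k1
  exact ⟨IsArtinianRing.of_finite k' _,
    isReduced_of_injective (Algebra.TensorProduct.comm k k' k1) (Algebra.TensorProduct.comm k k' k1).injective,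
    ⟨(((Algebra.TensorProduct.comm k' (k' ⊗[k] k1) A).toRingEquiv).trans
        (Algebra.TensorProduct.cancelBaseChange k k' A A k1).toRingEquiv).trans
        (Algebra.TensorProduct.comm k A k1).toRingEquiv⟩⟩

theorem geomRegular_iff_of_isSeparable :
    CAlg.IsGeometricallyRegular k A ↔ CAlg.IsGeometricallyRegular k' A := by
  refine ⟨fun h L _ _ hL => ?_, fun h k1 _ _ hk1 => ?_⟩
  · haveI := hL
    letI : Algebra k L := ((algebraMap k' L).comp (algebraMap k k')).toAlgebra
    haveI : IsScalarTower k k' L := IsScalarTower.of_algebraMap_eq fun _ => rfl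
    obtain ⟨s, hs⟩ : (⊤ : Submodule k' L).FG := Module.Finite.fg_top
    haveI : Algebra.IsAlgebraic k' L := Algebra.IsAlgebraic.of_finite k' L
    haveI : Algebra.IsAlgebraic k L := Algebra.IsAlgebraic.trans k k' L
    let L1 := IntermediateField.adjoin k (s : Set L)
    haveI : Module.Finite k L1 := IntermediateField.finiteDimensional_adjoin fun x _ =>
      (Algebra.IsAlgebraic.isAlgebraic x).isIntegral
    obtain ⟨hart, hred, ⟨e⟩⟩ := sep_tensor_data k k' A L1
    haveI := hart
    haveI := hred
    let R := k' ⊗[k] L1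
    let φ : R →ₐ[k'] L := Algebra.TensorProduct.lift (Algebra.ofId k' L) L1.val fun _ _ => Commute.all _ _
    have hφ : Function.Surjective φ := by
      intro x
      have hx : x ∈ Submodule.span k' (s : Set L) := hs ▸ Submodule.mem_top
      refine (Submodule.span_le.2 ?_ : Submodule.span k' (s : Set L) ≤ LinearMap.range φ.toLinearMap) hx
      intro y hy
      exact ⟨(1 : k') ⊗ₜ[k] (⟨y, IntermediateField.subset_adjoin k _ hy⟩ : L1),
        (Algebra.TensorProduct.lift_tmul (Algebra.ofId k' L) L1.val (fun _ _ => Commute.all _ _) _ _).trans (by rw [map_one, one_mul]; rfl)⟩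
    exact regular_tensor_of_surjective k' R A φ hφ (FlatDepth.isRegularRing_of_equiv _ _ e.symm (h L1 inferInstance))
  · haveI := hk1
    obtain ⟨hart, hred, ⟨e⟩⟩ := sep_tensor_data k k' A k1
    haveI := hart
    haveI := hred
    let R := k' ⊗[k] k1
    haveI : IsNoetherianRing (k1 ⊗[k] A) := FlatDepth.isNoetherianRing_tensor_essFinite k A k1
    haveI : IsNoetherianRing (R ⊗[k'] A) := isNoetherianRing_of_ringEquiv _ e.symm
    refine FlatDepth.isRegularRing_of_equiv _ _ e (regular_localize_left k' R A fun p _ => ?_)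
    let φ := IsScalarTower.toAlgHom k' R (Localization.AtPrime p)
    haveI : Module.Finite k' (Localization.AtPrime p) :=
      Module.Finite.of_surjective φ.toLinearMap (IsArtinianRing.localization_surjective p.primeCompl _)
    letI := (IsArtinianRing.isField_of_isReduced_of_isLocalRing (Localization.AtPrime p)).toField
    exact h (Localization.AtPrime p) inferInstance

end sep

end Groth.Agent.GeomProp
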