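import Groth.Agent.GeomProp.SmoothReg
import Groth.Agent.SmDesc.Ring
import Groth.Agent.CotT.PointSmooth
import Mathlib

/-!
Smoothness and geometric regularity.
-/

set_option autoImplicit false
set_option linter.style.haveILetI false

namespace Groth.Agent.GeomProp

universe u

open TensorProduct

theorem geomRegular_of_smooth (k A B : Type u) [Field k] [CommRing A] [Algebra k A] [IsNoetherianRing A] [CommRing B]
    [Algebra k B] [Algebra A B] [IsScalarTower k A B] [Algebra.Smooth A B] (hA : CAlg.IsGeometricallyRegular k A) :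
    CAlg.IsGeometricallyRegular k B := fun k' _ _ hk' => by
  haveI := hk'
  haveI := hA k' hk'
  let A' := A ⊗[k] k'
  haveI : IsRegularRing A' := IsRegularRing.of_ringEquiv (Algebra.TensorProduct.comm k k' A).toRingEquiv
  let B' := B ⊗[A] A'
  haveI : Algebra.Smooth A' (A' ⊗[A] B) := inferInstance
  haveI : IsNoetherianRing (A' ⊗[A] B) := Algebra.FiniteType.isNoetherianRing A' _
  have hr := isRegularHom_of_smooth A' (A' ⊗[A] B)
  haveI := hr.1
  have h1 : IsRegularRing (A' ⊗[A] B) := FlatDepth.isRegularRing_ascent A' _ inferInstance fun Q _ =>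
    FlatDepth.isRegularRing_of_equiv _ _ (Algebra.TensorProduct.lid Q.ResidueField _).toRingEquiv
      ((hr.2 Q).2 Q.ResidueField inferInstance)
  let e : (A' ⊗[A] B) ≃+* (k' ⊗[k] B) :=
    (Algebra.TensorProduct.comm A A' B).toRingEquiv.trans
      ((Algebra.TensorProduct.cancelBaseChange k A B B k').toRingEquiv.trans
        (Algebra.TensorProduct.comm k B k').toRingEquiv)
  exact FlatDepth.isRegularRing_of_equiv _ _ e h1

attribute [local instance] Algebra.TensorProduct.rightAlgebra in
/-- A finite type algebra over a field which is geometrically regular is smooth. -/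
theorem smooth_of_geomRegular (k S : Type u) [Field k] [CommRing S] [Algebra k S] [Algebra.FiniteType k S]
    (h : CAlg.IsGeometricallyRegular k S) : Algebra.Smooth k S := by
  haveI : IsNoetherianRing S := Algebra.FiniteType.isNoetherianRing k S
  haveI : Algebra.FinitePresentation k S := Algebra.FinitePresentation.of_finiteType.1 inferInstance
  let T := AlgebraicClosure k
  haveI : IsNoetherianRing (T ⊗[k] S) := Algebra.FiniteType.isNoetherianRing T _
  haveI : IsRegularRing (T ⊗[k] S) := good_regular.all k S (fun k' _ _ hfin _ => h k' hfin) T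
  haveI : Algebra.FinitePresentation T (T ⊗[k] S) := Algebra.FinitePresentation.of_finiteType.1 inferInstance
  have hall : ∀ Q : PrimeSpectrum (T ⊗[k] S), Q ∈ Algebra.smoothLocus T (T ⊗[k] S) := fun Q => by
    obtain ⟨M, hM, hle⟩ := Ideal.exists_le_maximal Q.asIdeal Q.isPrime.ne_top
    haveI := hM
    have hM' : (⟨M, hM.isPrime⟩ : PrimeSpectrum (T ⊗[k] S)) ∈ Algebra.smoothLocus T (T ⊗[k] S) :=
      (CotT.regular_iff_smoothAt (k := T) M).1 (IsRegularRing.isRegularLocalRing_localization M)
    exact ((PrimeSpectrum.le_iff_specializes Q ⟨M, hM.isPrime⟩).1 hle).mem_open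
      Algebra.isOpen_smoothLocus hM'
  refine ⟨Algebra.smoothLocus_eq_univ_iff.1 (Set.eq_univ_iff_forall.2 fun q => ?_), inferInstance⟩
  obtain ⟨Q', hQ'⟩ := PrimeSpectrum.comap_surjective_of_faithfullyFlat (A := S) (B := S ⊗[k] T) q
  let Q : PrimeSpectrum (T ⊗[k] S) :=
    PrimeSpectrum.comap (Algebra.TensorProduct.comm k T S).toRingEquiv.toRingHom Q'
  have hq : PrimeSpectrum.comap (algebraMap S (T ⊗[k] S)) Q = q := by
    rw [← hQ', ← PrimeSpectrum.comap_comp_apply]
    congr 1
  subst hq
  exact SmDesc.isSmoothAt_of_tensor (R := k) (S := S) (T := T) Q (hall Q)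

theorem smooth_iff (A B : Type u) [CommRing A] [CommRing B] [Algebra A B] [Algebra.FinitePresentation A B] :
    Algebra.Smooth A B ↔
      Module.Flat A B ∧ ∀ (p : Ideal A) [p.IsPrime], CAlg.IsGeometricallyRegular p.ResidueField (p.Fiber B) := by
  refine ⟨fun _ => ⟨inferInstance, fun p _ => ((isRegularHom_of_smooth A B).2 p).2⟩, fun ⟨_, h⟩ => ?_⟩
  refine Algebra.Smooth.of_formallySmooth_fiber fun p _ => ?_
  haveI := smooth_of_geomRegular p.ResidueField (p.Fiber B) (h p)
  infer_instance

end Groth.Agent.GeomProp
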