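import Groth.Agent.GeomProp.NormalColim
import Mathlib

/-!
Geometric normality under localisation and separable algebraic extensions of the base field.
-/

set_option autoImplicit false
set_option linter.style.haveILetI false

namespace Groth.Agent.GeomProp

universe u

open IsLocalRing TensorProduct

theorem geomNormal_localization (k : Type u) [Field k] (A : Type u) [CommRing A] [Algebra k A] (M : Submonoid A)
    (B : Type u) [CommRing B] [Algebra A B] [IsLocalization M B] [Algebra k B] [IsScalarTower k A B]
    (h : EGA4.IsGeomNormal k A) : EGA4.IsGeomNormal k B := fun K _ _ hK => by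
  let f : A ⊗[k] K →ₐ[k] B ⊗[k] K := Algebra.TensorProduct.map (IsScalarTower.toAlgHom k A B) (AlgHom.id k K)
  letI : Algebra (A ⊗[k] K) (B ⊗[k] K) := f.toRingHom.toAlgebra
  haveI : IsScalarTower A (A ⊗[k] K) (B ⊗[k] K) := IsScalarTower.of_algebraMap_eq fun s => by
    show algebraMap A B s ⊗ₜ[k] (1 : K) = f (s ⊗ₜ 1)
    rfl
  haveI : IsLocalization (Algebra.algebraMapSubmonoid (A ⊗[k] K) M) (B ⊗[k] K) :=
    IsLocalization.tensorProduct_tensorProduct k K M B (RingHom.ext fun c => by
      show f (1 ⊗ₜ c) = 1 ⊗ₜ c
      exact congrArg (· ⊗ₜ[k] c) (map_one (algebraMap A B)))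
  exact FlatDepth.isNormalRing_of_equiv (Algebra.TensorProduct.comm k B K).toRingEquiv
    (isNormalRing_of_isLocalization (Algebra.algebraMapSubmonoid (A ⊗[k] K) M)
      (FlatDepth.isNormalRing_of_equiv (Algebra.TensorProduct.comm k K A).toRingEquiv (h K hK)))

theorem geomReduced_of_isSeparable (k k' : Type u) [Field k] [Field k'] [Algebra k k'] [Algebra.IsSeparable k k'] :
    Algebra.IsGeometricallyReduced k k' := by
  refine Algebra.IsGeometricallyReduced.of_forall_fg fun D hD => ?_
  haveI : Algebra.FiniteType k D := (Subalgebra.fg_iff_finiteType D).1 hD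
  haveI : Algebra.IsIntegral k D := Algebra.IsIntegral.of_injective D.val Subtype.val_injective
  haveI : Module.Finite k D := Algebra.IsIntegral.finite
  let L : IntermediateField k k' := D.toIntermediateField' (Subalgebra.isField_of_algebraic D)
  let e : L ≃ₐ[k] D := Subalgebra.equivOfEq _ _ (rfl : L.toSubalgebra = D)
  haveI : Module.Finite k L := Module.Finite.equiv e.symm.toLinearEquiv
  haveI : Algebra.FormallyEtale k L := Algebra.FormallyEtale.of_isSeparable k L
  haveI : Algebra.IsGeometricallyReduced k L := FlatDepth.geomReduced_of_finite fun K _ _ hK => by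
    haveI := hK
    haveI : Algebra.EssFiniteType K (K ⊗[k] L) := inferInstance
    exact Algebra.FormallyUnramified.isReduced_of_field K _
  exact Algebra.IsGeometricallyReduced.of_injective e.symm.toAlgHom e.symm.injective

section sep

variable (k k' A : Type u) [Field k] [Field k'] [Algebra k k'] [CommRing A] [Algebra k' A] [Algebra k A]
  [IsScalarTower k k' A]

/-- The forgetful map `L ⊗_k A → L ⊗_{k'} A`. -/
noncomputable def forget (L : Type u) [CommRing L] [Algebra k' L] [Algebra k L] [IsScalarTower k k' L] :
    L ⊗[k] A →ₐ[k] L ⊗[k'] A :=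
  Algebra.TensorProduct.lift ((Algebra.TensorProduct.includeLeft : L →ₐ[k'] L ⊗[k'] A).restrictScalars k)
    ((Algebra.TensorProduct.includeRight : A →ₐ[k'] L ⊗[k'] A).restrictScalars k) fun _ _ => Commute.all _ _

theorem forget_tmul (L : Type u) [CommRing L] [Algebra k' L] [Algebra k L] [IsScalarTower k k' L] (x : L) (a : A) :
    forget k k' A L (x ⊗ₜ a) = x ⊗ₜ a := by
  rw [forget, Algebra.TensorProduct.lift_tmul]
  show (x ⊗ₜ[k'] (1 : A)) * ((1 : L) ⊗ₜ[k'] a) = x ⊗ₜ a
  rw [Algebra.TensorProduct.tmul_mul_tmul, mul_one, one_mul]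

theorem forget_surjective (L : Type u) [CommRing L] [Algebra k' L] [Algebra k L] [IsScalarTower k k' L] :
    Function.Surjective (forget k k' A L) := fun z => by
  induction z using TensorProduct.induction_on with
  | zero => exact ⟨0, map_zero _⟩
  | tmul x a => exact ⟨x ⊗ₜ a, forget_tmul k k' A L x a⟩
  | add x y hx hy =>
    obtain ⟨a, rfl⟩ := hx
    obtain ⟨b, rfl⟩ := hy
    exact ⟨a + b, map_add _ a b⟩

/-- The differences of the two actions of `k'`. -/
noncomputable def diffIdeal (L : Type u) [CommRing L] [Algebra k' L] [Algebra k L] [IsScalarTower k k' L] :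
    Ideal (L ⊗[k] A) :=
  Ideal.span (Set.range fun c : k' => algebraMap k' L c ⊗ₜ[k] (1 : A) - (1 : L) ⊗ₜ[k] algebraMap k' A c)

theorem forget_ker (L : Type u) [CommRing L] [Algebra k' L] [Algebra k L] [IsScalarTower k k' L] :
    RingHom.ker (forget k k' A L) = diffIdeal k k' A L := by
  refine le_antisymm (fun z hz => ?_) (Ideal.span_le.2 ?_)
  · let J := diffIdeal k k' A L
    let α : L →ₐ[k'] (L ⊗[k] A) ⧸ J :=
      (Ideal.Quotient.mkₐ k' J).comp (Algebra.TensorProduct.includeLeft : L →ₐ[k'] L ⊗[k] A)
    let β : A →ₐ[k'] (L ⊗[k] A) ⧸ J :=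
      { ((Ideal.Quotient.mk J).comp (Algebra.TensorProduct.includeRight : A →ₐ[k] L ⊗[k] A).toRingHom) with
        commutes' := fun c => by
          show Ideal.Quotient.mk J ((1 : L) ⊗ₜ[k] algebraMap k' A c) = Ideal.Quotient.mk J (algebraMap k' (L ⊗[k] A) c)
          rw [Algebra.TensorProduct.algebraMap_apply, eq_comm, Ideal.Quotient.eq]
          exact Ideal.subset_span ⟨c, rfl⟩ }
    let g : L ⊗[k'] A →ₐ[k'] (L ⊗[k] A) ⧸ J := Algebra.TensorProduct.lift α β fun _ _ => Commute.all _ _
    have hg : ∀ w, g (forget k k' A L w) = Ideal.Quotient.mk J w := fun w => by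
      induction w using TensorProduct.induction_on with
      | zero => simp
      | add x y hx hy => rw [map_add, map_add, hx, hy, map_add]
      | tmul x a =>
        rw [forget_tmul, Algebra.TensorProduct.lift_tmul]
        show Ideal.Quotient.mk J (x ⊗ₜ[k] (1 : A)) * Ideal.Quotient.mk J ((1 : L) ⊗ₜ[k] a) = _
        rw [← map_mul, Algebra.TensorProduct.tmul_mul_tmul, mul_one, one_mul]
    exact Ideal.Quotient.eq_zero_iff_mem.1 ((hg z).symm.trans (by rw [RingHom.mem_ker.1 hz, map_zero]))
  · rintro _ ⟨c, rfl⟩
    show forget k k' A L _ = 0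
    rw [map_sub, forget_tmul, forget_tmul, sub_eq_zero, Algebra.algebraMap_eq_smul_one c,
      Algebra.algebraMap_eq_smul_one c, TensorProduct.smul_tmul]

variable [Algebra.IsSeparable k k']

/-- The forgetful map is a local isomorphism. -/
theorem exists_forget_localEquiv (L : Type u) [CommRing L] [Algebra k' L] [Algebra k L] [IsScalarTower k k' L]
    (Q : Ideal (L ⊗[k'] A)) [Q.IsPrime] :
    Nonempty (Localization.AtPrime (Q.comap (forget k k' A L).toRingHom) ≃+* Localization.AtPrime Q) := by
  let π := (forget k k' A L).toRingHom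
  let P := Q.comap π
  have hkill : ∀ w ∈ RingHom.ker π, algebraMap (L ⊗[k] A) (Localization.AtPrime P) w = 0 := by
    intro w hw
    have hw' : w ∈ diffIdeal k k' A L := forget_ker k k' A L ▸ hw
    refine (Ideal.span_le.2 ?_ : diffIdeal k k' A L ≤ RingHom.ker (algebraMap (L ⊗[k] A) (Localization.AtPrime P))) hw'
    rintro _ ⟨c, rfl⟩
    let R := L ⊗[k] A
    let x : R := algebraMap k' L c ⊗ₜ 1
    let y : R := (1 : L) ⊗ₜ algebraMap k' A c
    let f := minpoly k c
    have hx : Polynomial.eval₂ (algebraMap k R) x f = 0 := by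
      have := Polynomial.aeval_algHom_apply
        ((Algebra.TensorProduct.includeLeft : L →ₐ[k] R).comp (IsScalarTower.toAlgHom k k' L)) c f
      rw [minpoly.aeval, map_zero] at this
      exact this
    have hy : Polynomial.eval₂ (algebraMap k R) y f = 0 := by
      have := Polynomial.aeval_algHom_apply
        ((Algebra.TensorProduct.includeRight : A →ₐ[k] R).comp (IsScalarTower.toAlgHom k k' A)) c f
      rw [minpoly.aeval, map_zero] at this
      exact this
    let F := f.map (algebraMap k R)
    obtain ⟨e, he⟩ := Polynomial.binomExpansion F y (x - y)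
    rw [add_sub_cancel, Polynomial.eval_map, Polynomial.eval_map, hx, hy, zero_add] at he
    let g := F.derivative.eval y + e * (x - y)
    have hg : (x - y) * g = 0 := by
      show (x - y) * (F.derivative.eval y + e * (x - y)) = 0
      conv_rhs => rw [he]
      ring
    have hgP : g ∉ P := by
      intro hgP
      have hd : π (x - y) = 0 := (forget_ker k k' A L).ge (Ideal.subset_span ⟨c, rfl⟩)
      have h1 : π g = algebraMap k' (L ⊗[k'] A) (f.derivative.aeval c) := by
        show π (F.derivative.eval y + e * (x - y)) = _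
        rw [map_add, map_mul, hd, mul_zero, add_zero, Polynomial.derivative_map, Polynomial.eval_map,
          Polynomial.hom_eval₂, Polynomial.aeval_def, Polynomial.hom_eval₂]
        congr 1
        · refine RingHom.ext fun r => ?_
          rw [RingHom.comp_apply, RingHom.comp_apply, ← IsScalarTower.algebraMap_apply]
          exact (forget k k' A L).commutes r
        · show forget k k' A L ((1 : L) ⊗ₜ algebraMap k' A c) = _
          rw [forget_tmul, Algebra.TensorProduct.algebraMap_apply, Algebra.algebraMap_eq_smul_one c,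
            Algebra.algebraMap_eq_smul_one c, TensorProduct.smul_tmul]
      have h2 : f.derivative.aeval c ≠ 0 :=
        (Algebra.IsSeparable.isSeparable k c).aeval_derivative_ne_zero (minpoly.aeval k c)
      have h3 : π g ∈ Q := hgP
      rw [h1] at h3
      exact Ideal.IsPrime.ne_top' (Ideal.eq_top_of_isUnit_mem Q h3 ((Ne.isUnit h2).map _))
    have hu : IsUnit (algebraMap R (Localization.AtPrime P) g) :=
      IsLocalization.map_units _ (⟨g, hgP⟩ : P.primeCompl)
    exact (hu.mul_left_eq_zero).1 (by rw [← map_mul, hg, map_zero] : algebraMap R (Localization.AtPrime P) (x - y) *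
      algebraMap R (Localization.AtPrime P) g = 0)
  refine ⟨RingEquiv.ofBijective (Localization.localRingHom P Q π rfl)
    ⟨(injective_iff_map_eq_zero _).2 fun z hz => ?_, fun z => ?_⟩⟩
  · obtain ⟨a, ⟨s, hs⟩, rfl⟩ := IsLocalization.exists_mk'_eq P.primeCompl z
    rw [Localization.localRingHom_mk', IsLocalization.mk'_eq_zero_iff] at hz
    obtain ⟨⟨u, hu⟩, hua⟩ := hz
    obtain ⟨u', rfl⟩ := forget_surjective k k' A L u
    have h4 : algebraMap (L ⊗[k] A) (Localization.AtPrime P) (u' * a) = 0 :=
      hkill _ (RingHom.mem_ker.2 (by rw [map_mul]; exact hua))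
    rw [map_mul] at h4
    have hu' : IsUnit (algebraMap (L ⊗[k] A) (Localization.AtPrime P) u') :=
      IsLocalization.map_units _ (⟨u', hu⟩ : P.primeCompl)
    rw [IsLocalization.mk'_eq_mul_mk'_one, (hu'.mul_right_eq_zero).1 h4, zero_mul]
  · obtain ⟨b, ⟨t, ht⟩, rfl⟩ := IsLocalization.exists_mk'_eq Q.primeCompl z
    obtain ⟨a, rfl⟩ := forget_surjective k k' A L b
    obtain ⟨s, rfl⟩ := forget_surjective k k' A L t
    exact ⟨IsLocalization.mk' _ a (⟨s, ht⟩ : P.primeCompl), Localization.localRingHom_mk' _ _ _ rfl _ _⟩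

theorem geomNormal_iff_of_isSeparable : EGA4.IsGeomNormal k A ↔ EGA4.IsGeomNormal k' A := by
  refine ⟨fun h L _ _ hL Q _ => ?_, fun h k1 _ _ hk1 => ?_⟩
  · haveI := hL
    letI : Algebra k L := ((algebraMap k' L).comp (algebraMap k k')).toAlgebra
    haveI : IsScalarTower k k' L := IsScalarTower.of_algebraMap_eq fun _ => rfl
    have hn : EGA4.IsNormalRing (L ⊗[k] A) := by
      refine normal_all_of_purelyInseparable k A (fun k2 _ _ hfin _ => h k2 hfin) L
    obtain ⟨e⟩ := exists_forget_localEquiv k k' A L Q
    obtain ⟨_, _⟩ := hn (Q.comap (forget k k' A L).toRingHom)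
    exact ⟨e.symm.toMulEquiv.isDomain (Localization.AtPrime (Q.comap (forget k k' A L).toRingHom)),
      IsIntegrallyClosed.of_equiv (R := Localization.AtPrime (Q.comap (forget k k' A L).toRingHom)) e⟩
  · haveI := hk1
    haveI := geomReduced_of_isSeparable k k'
    haveI : IsReduced (k' ⊗[k] k1) := by
      haveI : IsReduced (k1 ⊗[k] k') := GeomRedPull.isReduced_field_tensor (k := k) (A := k') k1
      exact isReduced_of_injective (Algebra.TensorProduct.comm k k' k1) (Algebra.TensorProduct.comm k k' k1).injective
    let R := k' ⊗[k] k1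
    haveI : IsArtinianRing R := IsArtinianRing.of_finite k' R
    have key : EGA4.IsNormalRing (R ⊗[k'] A) := normal_localize_left k' R A fun p _ => by
      let φ := IsScalarTower.toAlgHom k' R (Localization.AtPrime p)
      haveI : Module.Finite k' (Localization.AtPrime p) :=
        Module.Finite.of_surjective φ.toLinearMap (IsArtinianRing.localization_surjective p.primeCompl _)
      letI := (IsArtinianRing.isField_of_isReduced_of_isLocalRing (Localization.AtPrime p)).toField
      exact h (Localization.AtPrime p) inferInstance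
    let e : R ⊗[k'] A ≃+* k1 ⊗[k] A :=
      (((Algebra.TensorProduct.comm k' R A).toRingEquiv).trans
        (Algebra.TensorProduct.cancelBaseChange k k' A A k1).toRingEquiv).trans
        (Algebra.TensorProduct.comm k A k1).toRingEquiv
    exact FlatDepth.isNormalRing_of_equiv e key

end sep

end Groth.Agent.GeomProp
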