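import Groth.Agent.GeomProp.SchemeReduced
import Groth.Agent.SerreReg.Descent
import Groth.Agent.Hensel.HenselizationNoeth
import Mathlib

/-!
Descent and transport of geometric regularity and reducedness at points of schemes over a field.
-/

set_option autoImplicit false
set_option linter.style.haveILetI false

namespace Groth.Agent.GeomProp

universe u

open CategoryTheory AlgebraicGeometry Limits
open scoped TensorProduct

attribute [local instance] Curv2.stalkAlgebra

theorem regular_stalk_descent {S T : Scheme.{u}} (f : S ⟶ T) (s : S) (hf : (f.stalkMap s).hom.Flat)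
    (h : IsRegularLocalRing (S.presheaf.stalk s)) : IsRegularLocalRing (T.presheaf.stalk (f s)) := by
  let A : Type u := T.presheaf.stalk (f s)
  let B : Type u := S.presheaf.stalk s
  let : Algebra A B := (f.stalkMap s).hom.toAlgebra
  haveI : IsLocalHom (algebraMap A B) := inferInstanceAs (IsLocalHom (f.stalkMap s).hom)
  haveI : Module.Flat A B := hf
  haveI : Module.FaithfullyFlat A B := Module.FaithfullyFlat.of_flat_of_isLocalHom
  haveI : IsRegularLocalRing B := h
  haveI : IsNoetherianRing A := Hensel.isNoetherianRing_of_faithfullyFlat (S := B)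
  exact SerreReg.isRegularLocalRing_of_flat A B

theorem isGeomRegularAt_of_flat (k : Type u) [Field k] (X Y : Scheme.{u}) [X.Over (Spec (CommRingCat.of k))]
    [Y.Over (Spec (CommRingCat.of k))] [IsLocallyNoetherian X] [IsLocallyNoetherian Y] (f : X ⟶ Y)
    (hf : f ≫ (Y ↘ (Spec (CommRingCat.of k))) = X ↘ (Spec (CommRingCat.of k))) (x : X)
    (hflat : (f.stalkMap x).hom.Flat) (hx : Curv2.IsGeomRegularAt k X x) :
    Curv2.IsGeomRegularAt k Y (f x) := by
  refine (isGeomRegularAt_iff k Y (f x)).2 fun k' _ _ hk' => ?_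
  let A : Type u := Y.presheaf.stalk (f x)
  let B : Type u := X.presheaf.stalk x
  let : Algebra A B := (f.stalkMap x).hom.toAlgebra
  have hc : CommRingCat.ofHom (algebraMap k A) ≫ f.stalkMap x = CommRingCat.ofHom (algebraMap k B) := by
    apply Spec.map_injective
    rw [Spec.map_comp, ← fromSpecStalk_over k X x, ← fromSpecStalk_over k Y (f x),
      Scheme.SpecMap_stalkMap_fromSpecStalk_assoc, hf]
  haveI : IsScalarTower k A B := IsScalarTower.of_algebraMap_eq fun c => congr($(hc.symm) c)
  haveI : IsLocalHom (algebraMap A B) := inferInstanceAs (IsLocalHom (f.stalkMap x).hom)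
  haveI : Module.Flat A B := hflat
  haveI : Module.FaithfullyFlat A B := Module.FaithfullyFlat.of_flat_of_isLocalHom
  haveI := hk'
  let eA : k' ⊗[k] A ≃+* A ⊗[k] k' := (Algebra.TensorProduct.comm k k' A).toRingEquiv
  let eB : k' ⊗[k] B ≃+* (A ⊗[k] k') ⊗[A] B := (Algebra.TensorProduct.comm k k' B).toRingEquiv.trans
    ((Algebra.TensorProduct.cancelBaseChange k A B B k').toRingEquiv.symm.trans
      (Algebra.TensorProduct.comm A (A ⊗[k] k') B).toRingEquiv.symm)
  haveI := FlatDepth.isNoetherianRing_tensor_essFinite k A k'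
  haveI := FlatDepth.isNoetherianRing_tensor_essFinite k B k'
  haveI : IsNoetherianRing (A ⊗[k] k') := isNoetherianRing_of_ringEquiv _ eA
  haveI : IsNoetherianRing ((A ⊗[k] k') ⊗[A] B) := isNoetherianRing_of_ringEquiv _ eB
  exact FlatDepth.isRegularRing_of_equiv _ _ eA.symm (FlatDepth.isRegularRing_descent (A ⊗[k] k') _
    (FlatDepth.isRegularRing_of_equiv _ _ eB ((isGeomRegularAt_iff k X x).1 hx k' inferInstance)))

theorem isReduced_stalk_pullback (k : Type u) [Field k] (X : Scheme.{u}) [X.Over (Spec (CommRingCat.of k))]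
    (Y : Scheme.{u}) [Y.Over (Spec (CommRingCat.of k))] [AlgebraicGeometry.IsReduced Y] (x : X)
    (hx : Curv2.IsGeomReducedAt k X x)
    (z : ↥(pullback (X ↘ (Spec (CommRingCat.of k))) (Y ↘ (Spec (CommRingCat.of k)))))
    (hz : pullback.fst (X ↘ (Spec (CommRingCat.of k))) (Y ↘ (Spec (CommRingCat.of k))) z = x) :
    _root_.IsReduced ((pullback (X ↘ (Spec (CommRingCat.of k))) (Y ↘ (Spec (CommRingCat.of k)))).presheaf.stalk z) := by
  let p := X ↘ Spec (CommRingCat.of k)
  let q := Y ↘ Spec (CommRingCat.of k)
  let j := X.fromSpecStalk x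
  let P := pullback (pullback.fst p q) j
  haveI : Flat j := GrpField.flat_fromSpecStalk x
  have hsq : IsPullback (pullback.snd (pullback.fst p q) j) (pullback.fst (pullback.fst p q) j ≫ pullback.snd p q)
      (j ≫ p) q :=
    (IsPullback.of_hasPullback (pullback.fst p q) j).flip.paste_vert (IsPullback.of_hasPullback p q)
  haveI := (isGeomReducedAt_iff k X x).1 hx
  haveI : GeometricallyReduced (j ≫ p) := by
    rw [fromSpecStalk_over k X x]
    exact GeomRedPull.geometricallyReduced_Spec fun K _ _ =>
      haveI := GeomRedPull.isReduced_field_tensor (A := X.presheaf.stalk x) (k := k) K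
      isReduced_of_injective (Algebra.TensorProduct.comm k (X.presheaf.stalk x) K)
        (Algebra.TensorProduct.comm k (X.presheaf.stalk x) K).injective
  haveI := GeomRedPull.isReduced_pullback (j ≫ p) q
  haveI : AlgebraicGeometry.IsReduced P := isReduced_of_isOpenImmersion hsq.isoPullback.hom
  obtain ⟨w, hw, -⟩ := Scheme.Pullback.exists_preimage_pullback (f := pullback.fst p q) (g := j) z
    (IsLocalRing.closedPoint _) (hz.trans (Scheme.fromSpecStalk_closedPoint).symm)
  subst hw
  haveI : Flat (pullback.fst (pullback.fst p q) j) := inferInstance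
  haveI : IsPreimmersion (pullback.fst (pullback.fst p q) j) := inferInstance
  exact isReduced_of_injective _ (bijective_stalkMap (pullback.fst (pullback.fst p q) j) w).1

theorem isGeomRegularAt_of_baseChange (k : Type u) [Field k] (X : Scheme.{u}) [X.Over (Spec (CommRingCat.of k))]
    (k' : Type u) [Field k'] [Algebra k k'] (hfg : (⊤ : IntermediateField k k').FG) (x' : Curv2.bc k X k')
    (h : @Curv2.IsGeomRegularAt k' _ (Curv2.bc k X k') ⟨Curv2.bcSnd k X k'⟩ x') :
    Curv2.IsGeomRegularAt k X (Curv2.bcFst k X k' x') := fun K _ _ hK y hy => by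
  haveI : Algebra.EssFiniteType k k' := IntermediateField.fg_top_iff.1 hfg
  haveI : Algebra.EssFiniteType k K := IntermediateField.fg_top_iff.1 hK
  obtain ⟨p, hp1, hp2⟩ := Scheme.Pullback.exists_preimage_pullback (f := Curv2.bcFst k X k') (g := Curv2.bcFst k X K)
    x' y hy.symm
  let P := pullback (Curv2.bcFst k X k') (Curv2.bcFst k X K)
  let M0 : Type u := P.residueField p
  let r := P.fromSpecResidueField p
  let a := r ≫ pullback.fst (Curv2.bcFst k X k') (Curv2.bcFst k X K) ≫ Curv2.bcSnd k X k'
  let b := r ≫ pullback.snd (Curv2.bcFst k X k') (Curv2.bcFst k X K) ≫ Curv2.bcSnd k X K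
  obtain ⟨α, hα⟩ := Spec.map_surjective a
  obtain ⟨β, hβ⟩ := Spec.map_surjective b
  letI : Algebra k' M0 := α.hom.toAlgebra
  letI : Algebra k M0 := (α.hom.comp (algebraMap k k')).toAlgebra
  haveI : IsScalarTower k k' M0 := IsScalarTower.of_algebraMap_eq fun _ => rfl
  have hab : CommRingCat.ofHom (algebraMap k k') ≫ α = CommRingCat.ofHom (algebraMap k K) ≫ β := by
    apply Spec.map_injective
    rw [Spec.map_comp, Spec.map_comp, hα, hβ]
    simp only [a, b, Category.assoc]
    rw [show Curv2.bcSnd k X k' ≫ Spec.map (CommRingCat.ofHom (algebraMap k k')) =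
        Curv2.bcFst k X k' ≫ (X ↘ Spec (CommRingCat.of k)) from pullback.condition.symm,
      show Curv2.bcSnd k X K ≫ Spec.map (CommRingCat.ofHom (algebraMap k K)) =
        Curv2.bcFst k X K ≫ (X ↘ Spec (CommRingCat.of k)) from pullback.condition.symm,
      pullback.condition_assoc]
  let g : k' ⊗[k] K →ₐ[k'] M0 := Algebra.TensorProduct.lift (Algebra.ofId k' M0)
    { β.hom with commutes' := fun c => congr($(hab.symm) c) } fun _ _ => Commute.all _ _
  let q := RingHom.ker g
  haveI : q.IsPrime := RingHom.ker_isPrime g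
  let M := q.ResidueField
  let ι : M →ₐ[k'] M0 := Ideal.ResidueField.liftₐ q g le_rfl (fun t ht => IsUnit.mk0 _ ht)
  let jK : K →+* M := (algebraMap (k' ⊗[k] K) M).comp (Algebra.TensorProduct.includeRight (R := k) (A := k')).toRingHom
  letI : Algebra K M := jK.toAlgebra
  haveI : IsScalarTower k K M := IsScalarTower.of_algebraMap_eq fun c => by
    show algebraMap k M c = algebraMap (k' ⊗[k] K) M ((Algebra.TensorProduct.includeRight (R := k) (A := k')) (algebraMap k K c))
    rw [AlgHom.commutes]
    exact IsScalarTower.algebraMap_apply k (k' ⊗[k] K) M c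
  haveI : IsScalarTower k k' M := IsScalarTower.of_algebraMap_eq fun c => by
    rw [IsScalarTower.algebraMap_apply k (k' ⊗[k] K) M c, IsScalarTower.algebraMap_apply k' (k' ⊗[k] K) M]
    rfl
  haveI : Algebra.EssFiniteType k' M := Algebra.EssFiniteType.comp k' (k' ⊗[k] K) M
  have hιK : ∀ c : K, ι (algebraMap K M c) = β.hom c := fun c => by
    show ι (algebraMap (k' ⊗[k] K) M (1 ⊗ₜ c)) = β.hom c
    rw [Ideal.ResidueField.liftₐ_algebraMap]
    exact (Algebra.TensorProduct.lift_tmul _ _ _ _ _).trans (by rw [map_one, one_mul]; rfl)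
  let gM := Spec.map (CommRingCat.ofHom (algebraMap k' M))
  let gKM := Spec.map (CommRingCat.ofHom (algebraMap K M))
  let s := Spec.map (CommRingCat.ofHom ι.toRingHom)
  have hsM : s ≫ gM = a := by
    rw [← hα, ← Spec.map_comp]
    congr 1
    ext c
    exact ι.commutes c
  have hsK : s ≫ gKM = b := by
    rw [← hβ, ← Spec.map_comp]
    congr 1
    ext c
    exact hιK c
  let t : Spec (CommRingCat.of M0) ⟶ pullback (Curv2.bcSnd k X k') gM :=
    pullback.lift (r ≫ pullback.fst (Curv2.bcFst k X k') (Curv2.bcFst k X K)) s (by rw [hsM, Category.assoc])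
  let z := t (IsLocalRing.closedPoint M0)
  have hgk : gM ≫ Spec.map (CommRingCat.ofHom (algebraMap k k')) = gKM ≫ Spec.map (CommRingCat.ofHom (algebraMap k K)) := by
    rw [← Spec.map_comp, ← Spec.map_comp]
    congr 1
    ext c
    exact (IsScalarTower.algebraMap_apply k k' M c).symm.trans (IsScalarTower.algebraMap_apply k K M c)
  let c : pullback (Curv2.bcSnd k X k') gM ⟶ Curv2.bc k X K :=
    pullback.lift (pullback.fst _ _ ≫ Curv2.bcFst k X k') (pullback.snd _ gM ≫ gKM) (by
      rw [Category.assoc, Category.assoc, show Curv2.bcFst k X k' ≫ (X ↘ Spec (CommRingCat.of k)) =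
        Curv2.bcSnd k X k' ≫ Spec.map (CommRingCat.ofHom (algebraMap k k')) from pullback.condition,
        pullback.condition_assoc, hgk])
  have hbig : IsPullback (pullback.fst (Curv2.bcSnd k X k') gM ≫ Curv2.bcFst k X k') (pullback.snd _ gM)
      (X ↘ Spec (CommRingCat.of k)) (gKM ≫ Spec.map (CommRingCat.ofHom (algebraMap k K))) := by
    rw [← hgk]
    exact (IsPullback.of_hasPullback (Curv2.bcSnd k X k') gM).paste_horiz
      (IsPullback.of_hasPullback (X ↘ Spec (CommRingCat.of k)) (Spec.map (CommRingCat.ofHom (algebraMap k k'))))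
  have hc : IsPullback c (pullback.snd _ gM) (Curv2.bcSnd k X K) gKM := by
    refine IsPullback.of_right (h₁₂ := Curv2.bcFst k X K) ?_ (pullback.lift_snd _ _ _)
      (IsPullback.of_hasPullback (X ↘ Spec (CommRingCat.of k)) (Spec.map (CommRingCat.ofHom (algebraMap k K))))
    rw [show c ≫ Curv2.bcFst k X K = _ from pullback.lift_fst _ _ _]
    exact hbig
  haveI : Flat gKM := by
    rw [HasRingHomProperty.Spec_iff (P := @Flat)]
    exact RingHom.flat_algebraMap_iff.2 inferInstance
  haveI : Flat c := MorphismProperty.of_isPullback (P := @Flat) hc.flip inferInstance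
  have hz1 : pullback.fst (Curv2.bcSnd k X k') gM z = x' := by
    show (t ≫ pullback.fst (Curv2.bcSnd k X k') gM) (IsLocalRing.closedPoint M0) = x'
    rw [pullback.lift_fst, Scheme.Hom.comp_apply, Scheme.fromSpecResidueField_apply, hp1]
  have hz2 : c z = y := by
    have htc : t ≫ c = r ≫ pullback.snd (Curv2.bcFst k X k') (Curv2.bcFst k X K) := by
      apply pullback.hom_ext
      · simp only [c, t, Category.assoc, pullback.lift_fst, pullback.lift_fst_assoc]
        rw [pullback.condition]
      · simp only [c, t, Category.assoc, pullback.lift_snd, pullback.lift_snd_assoc]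
        exact hsK
    show (t ≫ c) (IsLocalRing.closedPoint M0) = y
    rw [htc, Scheme.Hom.comp_apply, Scheme.fromSpecResidueField_apply, hp2]
  have hreg := h M (IntermediateField.fg_top_iff.2 inferInstance) z hz1
  rw [← hz2]
  exact regular_stalk_descent c z (Flat.stalkMap c z) hreg

end Groth.Agent.GeomProp
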