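import Groth.Agent.GeomProp.BCStalk
import Groth.Agent.GeomProp.NormalColim
import Groth.Agent.RegTrans.Basic
import Groth.Prelude.Def_Curv2
import Mathlib

/-!
Geometric regularity and normality of schemes over a field at a point.
-/

set_option autoImplicit false
set_option linter.style.haveILetI false

namespace Groth.Agent.GeomProp

universe u

open CategoryTheory AlgebraicGeometry
open scoped TensorProduct

attribute [local instance] Curv2.stalkAlgebra

theorem isNormalRing_of_maximal (R : Type u) [CommRing R]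
    (h : ∀ (M : Ideal R) [M.IsMaximal], IsDomain (Localization.AtPrime M) ∧ IsIntegrallyClosed (Localization.AtPrime M)) :
    EGA4.IsNormalRing R := fun p hp => by
  obtain ⟨M, hM, hpM⟩ := Ideal.exists_le_maximal p hp.ne_top
  obtain ⟨_, _⟩ := h M
  have hN : EGA4.IsNormalRing (Localization.AtPrime M) := isNormalRing_of_domain _
  have disj : Disjoint (M.primeCompl : Set R) (p : Set R) :=
    Set.disjoint_left.mpr fun a ha hap => ha (hpM hap)
  let q := p.map (algebraMap R (Localization.AtPrime M))
  have : q.IsPrime := IsLocalization.isPrime_of_isPrime_disjoint M.primeCompl _ _ hp disj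
  have : IsLocalization.AtPrime (Localization.AtPrime q) p := by
    convert IsLocalization.isLocalization_isLocalization_atPrime_isLocalization M.primeCompl
      (Localization.AtPrime q) q
    exact (IsLocalization.under_map_of_isPrime_disjoint M.primeCompl _ hp disj).symm
  let e := (IsLocalization.algEquiv p.primeCompl (Localization.AtPrime q) (Localization.AtPrime p)).toRingEquiv
  obtain ⟨_, _⟩ := hN q
  exact ⟨e.symm.toMulEquiv.isDomain (Localization.AtPrime q),
    IsIntegrallyClosed.of_equiv (R := Localization.AtPrime q) e⟩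

theorem comap_eq_maximalIdeal (k k' A : Type u) [Field k] [CommRing k'] [Algebra k k'] [Module.Finite k k']
    [CommRing A] [IsLocalRing A] [Algebra k A] (M : Ideal (A ⊗[k] k')) [M.IsMaximal] :
    M.comap (algebraMap A (A ⊗[k] k')) = IsLocalRing.maximalIdeal A :=
  haveI := Ideal.isMaximal_comap_of_isIntegral_of_isMaximal (R := A) M
  IsLocalRing.eq_maximalIdeal inferInstance

variable (k : Type u) [Field k] (X : Scheme.{u}) [X.Over (Spec (CommRingCat.of k))] (x : X)

/-- Regular local rings over `x` give regularity of the tensor product. -/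
theorem regular_tensor_of_stalks [IsLocallyNoetherian X] (k' : Type u) [Field k'] [Algebra k k'] [Module.Finite k k']
    (h : ∀ x' : Curv2.bc k X k', Curv2.bcFst k X k' x' = x →
      IsRegularLocalRing ((Curv2.bc k X k').presheaf.stalk x')) :
    IsRegularRing (k' ⊗[k] X.presheaf.stalk x) := by
  let A : Type u := X.presheaf.stalk x
  let e : k' ⊗[k] A ≃+* A ⊗[k] k' := (Algebra.TensorProduct.comm k k' A).toRingEquiv
  haveI := FlatDepth.isNoetherianRing_tensor_essFinite k A k'
  haveI : IsNoetherianRing (A ⊗[k] k') := isNoetherianRing_of_ringEquiv _ e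
  refine FlatDepth.isRegularRing_of_equiv _ _ e.symm (RegTrans.isRegularRing_of_maximal fun M _ => ?_)
  obtain ⟨x', hx', ⟨g⟩⟩ := (bc_stalks k X k' x).2 M (comap_eq_maximalIdeal k k' A M)
  haveI := h x' hx'
  exact IsRegularLocalRing.of_ringEquiv (R := (Curv2.bc k X k').presheaf.stalk x') g.symm

theorem regular_stalk_of_tensor (k' : Type u) [Field k'] [Algebra k k']
    (h : IsRegularRing (k' ⊗[k] X.presheaf.stalk x)) (x' : Curv2.bc k X k') (hx' : Curv2.bcFst k X k' x' = x) :
    IsRegularLocalRing ((Curv2.bc k X k').presheaf.stalk x') := by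
  obtain ⟨Q, _, -, ⟨g⟩⟩ := (bc_stalks k X k' x).1 x' hx'
  haveI : IsRegularRing (X.presheaf.stalk x ⊗[k] k') :=
    FlatDepth.isRegularRing_of_equiv _ _ (Algebra.TensorProduct.comm k k' _).toRingEquiv h
  haveI := IsRegularRing.isRegularLocalRing_localization (R := X.presheaf.stalk x ⊗[k] k') Q
  exact IsRegularLocalRing.of_ringEquiv (R := Localization.AtPrime Q) g

theorem normal_tensor_of_stalks (k' : Type u) [Field k'] [Algebra k k'] [Module.Finite k k']
    (h : ∀ x' : Curv2.bc k X k', Curv2.bcFst k X k' x' = x →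
      IsDomain ((Curv2.bc k X k').presheaf.stalk x') ∧ IsIntegrallyClosed ((Curv2.bc k X k').presheaf.stalk x')) :
    EGA4.IsNormalRing (k' ⊗[k] X.presheaf.stalk x) := by
  let A : Type u := X.presheaf.stalk x
  refine FlatDepth.isNormalRing_of_equiv (Algebra.TensorProduct.comm k k' A).toRingEquiv.symm
    (isNormalRing_of_maximal _ fun M _ => ?_)
  obtain ⟨x', hx', ⟨g⟩⟩ := (bc_stalks k X k' x).2 M (comap_eq_maximalIdeal k k' A M)
  obtain ⟨_, _⟩ := h x' hx'
  exact ⟨g.toMulEquiv.isDomain ((Curv2.bc k X k').presheaf.stalk x'),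
    IsIntegrallyClosed.of_equiv (R := (Curv2.bc k X k').presheaf.stalk x') g.symm⟩

theorem normal_stalk_of_tensor (k' : Type u) [Field k'] [Algebra k k']
    (h : EGA4.IsNormalRing (k' ⊗[k] X.presheaf.stalk x)) (x' : Curv2.bc k X k') (hx' : Curv2.bcFst k X k' x' = x) :
    IsDomain ((Curv2.bc k X k').presheaf.stalk x') ∧ IsIntegrallyClosed ((Curv2.bc k X k').presheaf.stalk x') := by
  obtain ⟨Q, _, -, ⟨g⟩⟩ := (bc_stalks k X k' x).1 x' hx'
  obtain ⟨_, _⟩ :=
    FlatDepth.isNormalRing_of_equiv (Algebra.TensorProduct.comm k k' (X.presheaf.stalk x)).toRingEquiv h Q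
  exact ⟨g.symm.toMulEquiv.isDomain (Localization.AtPrime Q), IsIntegrallyClosed.of_equiv (R := Localization.AtPrime Q) g⟩

theorem geomNormal_stalk
    (h : ∀ (k' : Type u) [Field k'] [Algebra k k'] [Module.Finite k k'] [IsPurelyInseparable k k']
      (x' : Curv2.bc k X k'), Curv2.bcFst k X k' x' = x →
      IsDomain ((Curv2.bc k X k').presheaf.stalk x') ∧ IsIntegrallyClosed ((Curv2.bc k X k').presheaf.stalk x'))
    (K : Type u) [Field K] [Algebra k K] : EGA4.IsNormalRing (K ⊗[k] X.presheaf.stalk x) := by
  refine normal_all_of_purelyInseparable k _ (fun k' _ _ hfin hpi => ?_) K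
  haveI := hfin
  haveI := hpi
  exact normal_tensor_of_stalks k X x k' (h k')

theorem geomRegular_stalk [IsLocallyNoetherian X]
    (h : ∀ (k' : Type u) [Field k'] [Algebra k k'] [Module.Finite k k'] [IsPurelyInseparable k k']
      (x' : Curv2.bc k X k'), Curv2.bcFst k X k' x' = x →
      IsRegularLocalRing ((Curv2.bc k X k').presheaf.stalk x'))
    (K : Type u) [Field K] [Algebra k K] [Algebra.EssFiniteType k K] :
    IsRegularRing (K ⊗[k] X.presheaf.stalk x) := by
  refine good_regular.essFinite k _ (fun k' _ _ hfin hpi => ?_) K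
  haveI := hfin
  haveI := hpi
  exact regular_tensor_of_stalks k X x k' (h k')

theorem isGeomRegularAt_iff_pi [IsLocallyNoetherian X] :
    Curv2.IsGeomRegularAt k X x ↔
      ∀ (k' : Type u) [Field k'] [Algebra k k'] [Module.Finite k k'] [IsPurelyInseparable k k']
      (x' : Curv2.bc k X k'), Curv2.bcFst k X k' x' = x →
        IsRegularLocalRing ((Curv2.bc k X k').presheaf.stalk x') := by
  refine ⟨fun h k' _ _ _ _ x' hx' => h k' (IntermediateField.fg_top k k') x' hx', fun h k' _ _ hfg x' hx' => ?_⟩
  haveI : Algebra.EssFiniteType k k' := IntermediateField.fg_top_iff.1 hfg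
  exact regular_stalk_of_tensor k X x k' (geomRegular_stalk k X x h k') x' hx'

theorem isGeomRegularAt_iff [IsLocallyNoetherian X] :
    Curv2.IsGeomRegularAt k X x ↔ CAlg.IsGeometricallyRegular k (X.presheaf.stalk x) := by
  refine ⟨fun h k' _ _ hfin => ?_, fun h k' _ _ hfg x' hx' => ?_⟩
  · haveI := hfin
    exact regular_tensor_of_stalks k X x k' fun x' hx' => h k' (IntermediateField.fg_top k k') x' hx'
  · haveI : Algebra.EssFiniteType k k' := IntermediateField.fg_top_iff.1 hfg
    exact regular_stalk_of_tensor k X x k'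
      (good_regular.essFinite k _ (fun k'' _ _ hfin _ => h k'' hfin) k') x' hx'

end Groth.Agent.GeomProp
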