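import Groth.Agent.GeomProp.Good
import Mathlib

/-!
Geometric reducedness after a finite purely inseparable extension.
-/

set_option autoImplicit false
set_option linter.style.haveILetI false

namespace Groth.Agent.GeomProp

universe u

open TensorProduct

theorem geomReduced_of_sepGen (k K : Type u) [Field k] [Field K] [Algebra k K] (h : SepGen k K) :
    Algebra.IsGeometricallyReduced k K := FlatDepth.geomReduced_of_finite fun L _ _ hL => by
  haveI := hL
  obtain ⟨hr, hN⟩ := good_regular.sepGen k K L h inferInstance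
  haveI : IsReduced (K ⊗[k] L) :=
    FlatDepth.isReduced_of_isNormalRing _ (haveI := hr; FlatDepth.isNormalRing_of_isRegularRing (K ⊗[k] L))
  exact isReduced_of_injective (Algebra.TensorProduct.comm k L K) (Algebra.TensorProduct.comm k L K).injective

/-- The reduced base change is geometrically reduced. -/
def RedGeomReduced (k k' A : Type u) [Field k] [Field k'] [Algebra k k'] [CommRing A] [Algebra k A] : Prop :=
  Algebra.IsGeometricallyReduced k' ((k' ⊗[k] A) ⧸ nilradical (k' ⊗[k] A))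

/-- Powers in a purely inseparable base change come from the algebra. -/
theorem exists_pow_mem (k k' A : Type u) [Field k] [Field k'] [Algebra k k'] [IsPurelyInseparable k k'] [CommRing A]
    [Algebra k A] (z : k' ⊗[k] A) : ∃ N, 0 < N ∧ ∃ c : A, z ^ N = 1 ⊗ₜ c := by
  rcases subsingleton_or_nontrivial (k' ⊗[k] A) with h | h
  · exact ⟨1, one_pos, 0, Subsingleton.elim _ _⟩
  let q := ringExpChar k
  haveI : ExpChar (k' ⊗[k] A) q :=
    expChar_of_injective_algebraMap (algebraMap k (k' ⊗[k] A)).injective q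
  suffices hh : ∃ n : ℕ, ∃ c : A, z ^ q ^ n = 1 ⊗ₜ c by
    obtain ⟨n, c, hc⟩ := hh
    exact ⟨q ^ n, pow_pos (expChar_pos k q) n, c, hc⟩
  induction z using TensorProduct.induction_on with
  | zero => exact ⟨0, 0, by simp⟩
  | tmul a b =>
    obtain ⟨n, r, hr⟩ := IsPurelyInseparable.pow_mem k q a
    refine ⟨n, r • b ^ q ^ n, ?_⟩
    rw [Algebra.TensorProduct.tmul_pow, ← hr, Algebra.algebraMap_eq_smul_one r, TensorProduct.smul_tmul]
  | add x y hx hy =>
    obtain ⟨n, c, hc⟩ := hx
    obtain ⟨m, d, hd⟩ := hy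
    refine ⟨n + m, c ^ q ^ m + d ^ q ^ n, ?_⟩
    rw [add_pow_expChar_pow, pow_add, pow_mul, hc, pow_mul', hd, Algebra.TensorProduct.tmul_pow,
      Algebra.TensorProduct.tmul_pow, one_pow, one_pow, TensorProduct.tmul_add]

theorem exists_field (k K : Type u) [Field k] [Field K] [Algebra k K] [Algebra.EssFiniteType k K] :
    ∃ (k' : Type u) (_ : Field k') (_ : Algebra k k'), Module.Finite k k' ∧ IsPurelyInseparable k k' ∧
      RedGeomReduced k k' K ∧ ∀ m : Ideal (k' ⊗[k] K), m.IsPrime → m = nilradical (k' ⊗[k] K) := by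
  obtain ⟨k', K', _, _, _, _, _, _, _, _, hfin, hpi, _, hsep⟩ := exists_sepGen k K
  haveI := hpi
  haveI := geomReduced_of_sepGen k' K' hsep
  let g : k' ⊗[k] K →ₐ[k'] K' :=
    Algebra.TensorProduct.lift (Algebra.ofId k' K') (IsScalarTower.toAlgHom k K K') fun _ _ => Commute.all _ _
  have hg : ∀ c : K, g (1 ⊗ₜ c) = algebraMap K K' c := fun c => by
    rw [Algebra.TensorProduct.lift_tmul, map_one, one_mul]; rfl
  have hker : RingHom.ker g = nilradical (k' ⊗[k] K) := by
    refine le_antisymm (fun z hz => ?_) (fun z ⟨n, hn⟩ => RingHom.mem_ker.2 ?_)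
    · obtain ⟨N, hN, c, hc⟩ := exists_pow_mem k k' K z
      refine ⟨N, ?_⟩
      have h0 : algebraMap K K' c = 0 := by rw [← hg, ← hc, map_pow, RingHom.mem_ker.1 hz, zero_pow hN.ne']
      rw [hc, (map_eq_zero _).1 h0, TensorProduct.tmul_zero]
      exact zero_mem _
    · exact IsNilpotent.eq_zero ⟨n, by rw [← map_pow, hn, map_zero]⟩
  refine ⟨k', inferInstance, inferInstance, hfin, hpi, ?_, fun m hm => le_antisymm (fun z hz => ?_) (nilradical_le_prime m)⟩
  · let g' : ((k' ⊗[k] K) ⧸ nilradical (k' ⊗[k] K)) →ₐ[k'] K' :=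
      Ideal.Quotient.liftₐ _ g fun a ha => RingHom.mem_ker.1 (hker.ge ha)
    refine Algebra.IsGeometricallyReduced.of_injective g' ?_
    intro x y hxy
    obtain ⟨x, rfl⟩ := Ideal.Quotient.mk_surjective x
    obtain ⟨y, rfl⟩ := Ideal.Quotient.mk_surjective y
    refine Ideal.Quotient.eq.2 (hker.le (RingHom.mem_ker.2 ?_))
    rw [map_sub, sub_eq_zero]
    exact hxy
  · obtain ⟨N, hN, c, hc⟩ := exists_pow_mem k k' K z
    refine ⟨N, ?_⟩
    rw [hc]
    by_cases hc0 : c = 0
    · rw [hc0, TensorProduct.tmul_zero]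
      exact zero_mem _
    · refine absurd (Ideal.eq_top_of_isUnit_mem m (hc ▸ Ideal.pow_mem_of_mem m hz N hN) ?_) hm.ne_top
      exact (Ne.isUnit hc0).map (Algebra.TensorProduct.includeRight : K →ₐ[k] k' ⊗[k] K)

/-- Transfer of geometric reducedness up a tower. -/
theorem redGeomReduced_tower (k k1 k2 A : Type u) [Field k] [Field k1] [Field k2] [Algebra k k1] [Algebra k k2]
    [Algebra k1 k2] [IsScalarTower k k1 k2] [CommRing A] [Algebra k A]
    (h : RedGeomReduced k1 k2 ((k1 ⊗[k] A) ⧸ nilradical (k1 ⊗[k] A))) : RedGeomReduced k k2 A := by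
  let Q1 := (k1 ⊗[k] A) ⧸ nilradical (k1 ⊗[k] A)
  let π1 : k1 ⊗[k] A →ₐ[k1] Q1 := Ideal.Quotient.mkₐ k1 _
  let e : k2 ⊗[k1] (k1 ⊗[k] A) ≃ₐ[k2] k2 ⊗[k] A := Algebra.TensorProduct.cancelBaseChange k k1 k2 k2 A
  let π : k2 ⊗[k] A →ₐ[k2] k2 ⊗[k1] Q1 :=
    (Algebra.TensorProduct.map (AlgHom.id k2 k2) π1).comp e.symm.toAlgHom
  let g : k2 ⊗[k] A →ₐ[k2] (k2 ⊗[k1] Q1) ⧸ nilradical (k2 ⊗[k1] Q1) := (Ideal.Quotient.mkₐ k2 _).comp π
  have hπ1 : Function.Surjective π1 := Ideal.Quotient.mk_surjective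
  have hsurj : Function.Surjective π := by
    intro z
    obtain ⟨w, hw⟩ : ∃ w, Algebra.TensorProduct.map (AlgHom.id k2 k2) π1 w = z :=
      LinearMap.lTensor_surjective k2 (g := π1.toLinearMap) hπ1 z
    exact ⟨e w, by
      show Algebra.TensorProduct.map (AlgHom.id k2 k2) π1 (e.symm (e w)) = z
      rw [e.symm_apply_apply, hw]⟩
  have hnil : ∀ z, π z = 0 → IsNilpotent z := fun z hz => by
    have h1 : e.symm z ∈ RingHom.ker (Algebra.TensorProduct.map (AlgHom.id k1 k2) π1) := RingHom.mem_ker.2 hz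
    rw [Algebra.TensorProduct.lTensor_ker π1 hπ1] at h1
    have h2 : (RingHom.ker π1).map (Algebra.TensorProduct.includeRight : k1 ⊗[k] A →ₐ[k1] k2 ⊗[k1] (k1 ⊗[k] A)) ≤
        nilradical _ := Ideal.map_le_iff_le_comap.2 fun a ha => by
      have ha' : a ∈ nilradical (k1 ⊗[k] A) := Ideal.Quotient.eq_zero_iff_mem.1 (RingHom.mem_ker.1 ha)
      exact IsNilpotent.map ha' _
    have h3 := IsNilpotent.map (show IsNilpotent (e.symm z) from h2 h1) e
    rwa [e.apply_symm_apply] at h3
  have hker : RingHom.ker g = nilradical (k2 ⊗[k] A) := by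
    refine le_antisymm (fun z hz => ?_) (fun z hz => ?_)
    · obtain ⟨n, hn⟩ : IsNilpotent (π z) := Ideal.Quotient.eq_zero_iff_mem.1 (RingHom.mem_ker.1 hz)
      obtain ⟨m, hm⟩ := hnil (z ^ n) (by rw [map_pow, hn])
      exact ⟨n * m, by rw [pow_mul, hm]; exact zero_mem _⟩
    · exact RingHom.mem_ker.2 (Ideal.Quotient.eq_zero_iff_mem.2 (IsNilpotent.map hz π))
  let g' : ((k2 ⊗[k] A) ⧸ nilradical (k2 ⊗[k] A)) →ₐ[k2] (k2 ⊗[k1] Q1) ⧸ nilradical (k2 ⊗[k1] Q1) :=
    Ideal.Quotient.liftₐ _ g fun a ha => RingHom.mem_ker.1 (hker.ge ha)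
  have hinj : Function.Injective g' := fun x y hxy => by
    obtain ⟨x, rfl⟩ := Ideal.Quotient.mk_surjective x
    obtain ⟨y, rfl⟩ := Ideal.Quotient.mk_surjective y
    refine Ideal.Quotient.eq.2 (hker.le (RingHom.mem_ker.2 ?_))
    rw [map_sub, sub_eq_zero]
    exact hxy
  haveI : Algebra.IsGeometricallyReduced k2 ((k2 ⊗[k1] Q1) ⧸ nilradical (k2 ⊗[k1] Q1)) := h
  exact Algebra.IsGeometricallyReduced.of_injective g' hinj

theorem redGeomReduced_of_geomReduced (k1 k2 Q : Type u) [Field k1] [Field k2] [Algebra k1 k2] [CommRing Q]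
    [Algebra k1 Q] [Algebra.IsGeometricallyReduced k1 Q] : RedGeomReduced k1 k2 Q := by
  haveI : IsReduced (k2 ⊗[k1] Q) := GeomRedPull.isReduced_field_tensor (k := k1) (A := Q) k2
  have hgr : Algebra.IsGeometricallyReduced k2 (k2 ⊗[k1] Q) := by
    refine FlatDepth.geomReduced_of_finite fun L _ _ _ => ?_
    letI : Algebra k1 L := ((algebraMap k2 L).comp (algebraMap k1 k2)).toAlgebra
    haveI : IsScalarTower k1 k2 L := IsScalarTower.of_algebraMap_eq fun _ => rfl
    haveI : IsReduced (L ⊗[k1] Q) := GeomRedPull.isReduced_field_tensor (k := k1) (A := Q) L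
    exact isReduced_of_injective (Algebra.TensorProduct.cancelBaseChange k1 k2 L L Q)
      (Algebra.TensorProduct.cancelBaseChange k1 k2 L L Q).injective
  haveI := hgr
  have hbot : nilradical (k2 ⊗[k1] Q) = ⊥ := nilradical_eq_zero _
  let e : ((k2 ⊗[k1] Q) ⧸ nilradical (k2 ⊗[k1] Q)) →ₐ[k2] k2 ⊗[k1] Q :=
    Ideal.Quotient.liftₐ _ (AlgHom.id k2 _) fun a ha => by rw [hbot] at ha; exact Ideal.mem_bot.1 ha
  refine Algebra.IsGeometricallyReduced.of_injective e fun x y hxy => ?_
  obtain ⟨x, rfl⟩ := Ideal.Quotient.mk_surjective x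
  obtain ⟨y, rfl⟩ := Ideal.Quotient.mk_surjective y
  exact congrArg _ hxy

/-- Finitely many fields at once. -/
theorem exists_fields (k : Type u) [Field k] (n : ℕ) (K : Fin n → Type u) [∀ i, Field (K i)] [∀ i, Algebra k (K i)]
    [∀ i, Algebra.EssFiniteType k (K i)] :
    ∃ (k' : Type u) (_ : Field k') (_ : Algebra k k'), Module.Finite k k' ∧ IsPurelyInseparable k k' ∧
      ∀ i, RedGeomReduced k k' (K i) := by
  induction n with
  | zero => exact ⟨k, inferInstance, inferInstance, inferInstance, inferInstance, fun i => i.elim0⟩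
  | succ n ih =>
    obtain ⟨k1, _, _, hf1, hp1, h1⟩ := ih (fun i => K i.castSucc)
    haveI := hf1
    haveI := hp1
    obtain ⟨k1', _, _, hf1', hp1', -, huniq⟩ := exists_field k (K (Fin.last n))
    let R := k1 ⊗[k] K (Fin.last n)
    haveI : Algebra.EssFiniteType k1 R := inferInstance
    haveI : (nilradical R).IsMaximal := by
      haveI : Nontrivial R := (Algebra.TensorProduct.includeRight_injective
        (A := k1) (B := K (Fin.last n)) (algebraMap k k1).injective).nontrivial
      obtain ⟨m, hm⟩ := Ideal.exists_maximal R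
      suffices heq : m = nilradical R from heq ▸ hm
      refine le_antisymm (fun z hz => ?_) (nilradical_le_prime m)
      obtain ⟨N, hN, c, hc⟩ := exists_pow_mem k k1 (K (Fin.last n)) z
      refine ⟨N, ?_⟩
      rw [hc]
      by_cases hc0 : c = 0
      · rw [hc0, TensorProduct.tmul_zero]
        exact zero_mem _
      · refine absurd (Ideal.eq_top_of_isUnit_mem m (hc ▸ Ideal.pow_mem_of_mem m hz N hN) ?_) hm.ne_top
        exact (Ne.isUnit hc0).map (Algebra.TensorProduct.includeRight : K (Fin.last n) →ₐ[k] R)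
    letI : Field (R ⧸ nilradical R) := Ideal.Quotient.field _
    haveI : Algebra.EssFiniteType k1 (R ⧸ nilradical R) :=
      Algebra.EssFiniteType.of_surjective (Ideal.Quotient.mkₐ k1 _) Ideal.Quotient.mk_surjective
    obtain ⟨k2, _, _, hf2, hp2, h2, -⟩ := exists_field k1 (R ⧸ nilradical R)
    haveI := hf2
    haveI := hp2
    letI : Algebra k k2 := ((algebraMap k1 k2).comp (algebraMap k k1)).toAlgebra
    haveI : IsScalarTower k k1 k2 := IsScalarTower.of_algebraMap_eq fun _ => rfl
    refine ⟨k2, inferInstance, inferInstance, Module.Finite.trans k1 k2, IsPurelyInseparable.trans k k1 k2,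
      fun i => redGeomReduced_tower k k1 k2 (K i) ?_⟩
    refine Fin.lastCases ?_ (fun j => ?_) i
    · exact h2
    · haveI : Algebra.IsGeometricallyReduced k1 ((k1 ⊗[k] K j.castSucc) ⧸ nilradical (k1 ⊗[k] K j.castSucc)) := h1 j
      exact redGeomReduced_of_geomReduced k1 k2 _

theorem geomReduced_pi (k : Type u) [Field k] {ι : Type u} [Fintype ι] (Q : ι → Type u) [∀ i, CommRing (Q i)]
    [∀ i, Algebra k (Q i)] [∀ i, Algebra.IsGeometricallyReduced k (Q i)] :
    Algebra.IsGeometricallyReduced k (∀ i, Q i) := FlatDepth.geomReduced_of_finite fun L _ _ _ => by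
  classical
  haveI : ∀ i, IsReduced (L ⊗[k] Q i) := fun i => GeomRedPull.isReduced_field_tensor (k := k) (A := Q i) L
  exact isReduced_of_injective (Algebra.TensorProduct.piRight k k L Q) (Algebra.TensorProduct.piRight k k L Q).injective

/-- Geometric reducedness of the reduced base change of a finite type algebra. -/
theorem exists_finiteType (k A : Type u) [Field k] [CommRing A] [Algebra k A] [Algebra.FiniteType k A] :
    ∃ (k' : Type u) (_ : Field k') (_ : Algebra k k'), FiniteDimensional k k' ∧ IsPurelyInseparable k k' ∧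
      RedGeomReduced k k' A := by
  classical
  haveI : IsNoetherianRing A := Algebra.FiniteType.isNoetherianRing k A
  let S := (minimalPrimes.finite_of_isNoetherianRing A).toFinset
  let P : Fin S.card → Ideal A := fun i => (S.equivFin.symm i : Ideal A)
  have hP : ∀ i, P i ∈ minimalPrimes A := fun i => (Set.Finite.mem_toFinset _).1 (S.equivFin.symm i).2
  haveI : ∀ i, (P i).IsPrime := fun i => (hP i).1.1
  haveI : ∀ i, Algebra.EssFiniteType k (P i).ResidueField := fun i =>
    Algebra.EssFiniteType.comp k A (P i).ResidueField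
  obtain ⟨k', _, _, hf, hp, h⟩ := exists_fields k S.card (fun i => (P i).ResidueField)
  haveI := hp
  let Q : ULift.{u} (Fin S.card) → Type u :=
    fun i => (k' ⊗[k] (P i.down).ResidueField) ⧸ nilradical (k' ⊗[k] (P i.down).ResidueField)
  haveI : ∀ i, Algebra.IsGeometricallyReduced k' (Q i) := fun i => h i.down
  haveI := geomReduced_pi k' Q
  let g : k' ⊗[k] A →ₐ[k'] (∀ i, Q i) := Pi.algHom k' Q fun i =>
    (Ideal.Quotient.mkₐ k' _).comp
      (Algebra.TensorProduct.map (AlgHom.id k' k') (IsScalarTower.toAlgHom k A (P i.down).ResidueField))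
  have hker : RingHom.ker g = nilradical (k' ⊗[k] A) := by
    refine le_antisymm (fun z hz => ?_) (fun z hz => ?_)
    · obtain ⟨N, hN, c, hc⟩ := exists_pow_mem k k' A z
      have hnil : IsNilpotent c := by
        rw [← mem_nilradical, nilradical, show (0 : Ideal A) = ⊥ from rfl, ← Ideal.sInf_minimalPrimes, Submodule.mem_sInf]
        intro p hp'
        let i := S.equivFin ⟨p, (Set.Finite.mem_toFinset _).2 hp'⟩
        have hi : P i = p := by simp [P, i]
        have h0 : g (z ^ N) ⟨i⟩ = 0 := by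
          rw [map_pow, RingHom.mem_ker.1 hz, zero_pow hN.ne']; rfl
        rw [hc] at h0
        have h1 : IsNilpotent ((1 : k') ⊗ₜ[k] algebraMap A (P i).ResidueField c) :=
          Ideal.Quotient.eq_zero_iff_mem.1 h0
        have h2 : algebraMap A (P i).ResidueField c = 0 := by
          obtain ⟨n, hn⟩ := h1
          rw [Algebra.TensorProduct.tmul_pow, one_pow] at hn
          have hinj : Function.Injective (Algebra.TensorProduct.includeRight :
              (P i).ResidueField →ₐ[k] k' ⊗[k] (P i).ResidueField) :=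
            Algebra.TensorProduct.includeRight_injective (algebraMap k k').injective
          exact eq_zero_of_pow_eq_zero (hinj (hn.trans (map_zero _).symm))
        rw [← hi]
        exact Ideal.algebraMap_residueField_eq_zero.1 h2
      obtain ⟨n, hn⟩ := hnil
      exact ⟨N * n, by rw [pow_mul, hc, Algebra.TensorProduct.tmul_pow, hn, TensorProduct.tmul_zero]; exact zero_mem _⟩
    · exact RingHom.mem_ker.2 (funext fun i => Ideal.Quotient.eq_zero_iff_mem.2 (IsNilpotent.map hz _))
  let g' : ((k' ⊗[k] A) ⧸ nilradical (k' ⊗[k] A)) →ₐ[k'] (∀ i, Q i) :=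
    Ideal.Quotient.liftₐ _ g fun a ha => RingHom.mem_ker.1 (hker.ge ha)
  refine ⟨k', inferInstance, inferInstance, hf, hp, Algebra.IsGeometricallyReduced.of_injective g' fun x y hxy => ?_⟩
  obtain ⟨x, rfl⟩ := Ideal.Quotient.mk_surjective x
  obtain ⟨y, rfl⟩ := Ideal.Quotient.mk_surjective y
  refine Ideal.Quotient.eq.2 (hker.le (RingHom.mem_ker.2 ?_))
  rw [map_sub, sub_eq_zero]
  exact hxy

end Groth.Agent.GeomProp
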