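import Groth.Agent.GeomProp.SmoothPoint
import Groth.Agent.RedSepLib.Basic
import Mathlib

/-!
The reduction of a base change is geometrically reduced after a finite purely inseparable extension.
-/

set_option autoImplicit false
set_option linter.style.haveILetI false

namespace Groth.Agent.GeomProp

universe u

open CategoryTheory AlgebraicGeometry Limits
open scoped TensorProduct

theorem exists_finiteType_family (k : Type u) [Field k] (n : ℕ) (A : Fin n → Type u) [∀ i, CommRing (A i)]
    [∀ i, Algebra k (A i)] [∀ i, Algebra.FiniteType k (A i)] :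
    ∃ (k' : Type u) (_ : Field k') (_ : Algebra k k'), Module.Finite k k' ∧ IsPurelyInseparable k k' ∧
      ∀ i, RedGeomReduced k k' (A i) := by
  induction n with
  | zero => exact ⟨k, inferInstance, inferInstance, inferInstance, inferInstance, fun i => i.elim0⟩
  | succ n ih =>
    obtain ⟨k1, _, _, hf1, hp1, h1⟩ := ih (fun i => A i.castSucc)
    haveI := hf1
    haveI := hp1
    let R := k1 ⊗[k] A (Fin.last n)
    haveI : Algebra.FiniteType k1 (R ⧸ nilradical R) :=
      Algebra.FiniteType.of_surjective (Ideal.Quotient.mkₐ k1 _) Ideal.Quotient.mk_surjective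
    obtain ⟨k2, _, _, hf2, hp2, h2⟩ := exists_finiteType k1 (R ⧸ nilradical R)
    haveI := hf2
    haveI := hp2
    letI : Algebra k k2 := ((algebraMap k1 k2).comp (algebraMap k k1)).toAlgebra
    haveI : IsScalarTower k k1 k2 := IsScalarTower.of_algebraMap_eq fun _ => rfl
    refine ⟨k2, inferInstance, inferInstance, Module.Finite.trans k1 k2, IsPurelyInseparable.trans k k1 k2,
      fun i => redGeomReduced_tower k k1 k2 (A i) ?_⟩
    refine Fin.lastCases ?_ (fun j => ?_) i
    · exact h2
    · haveI : Algebra.IsGeometricallyReduced k1 ((k1 ⊗[k] A j.castSucc) ⧸ nilradical (k1 ⊗[k] A j.castSucc)) := h1 j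
      exact redGeomReduced_of_geomReduced k1 k2 _

theorem mem_genericPoints_iff (X : Scheme.{u}) (η : X) : η ∈ genericPoints X ↔ ∀ z, z ⤳ η → z = η := by
  refine ⟨fun h z hz => ?_, fun h => ⟨isIrreducible_singleton.closure, fun Z hZ hle => ?_⟩⟩
  · have h1 : closure {z} ⊆ closure {η} :=
      h.2 isIrreducible_singleton.closure (specializes_iff_closure_subset.1 hz)
    exact (hz.antisymm (specializes_iff_closure_subset.2 h1)).eq
  · let z := hZ.closure.genericPoint
    have hz : IsGenericPoint z (closure Z) := hZ.closure.isGenericPoint_genericPoint isClosed_closure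
    have hzη : z = η := h z (hz.specializes (subset_closure (hle (subset_closure rfl))))
    exact subset_closure.trans (hz.symm.trans (by rw [hzη])).le

/-- The reduced subscheme near a point of an affine chart with geometrically reduced reduced base change. -/
theorem gr_nilradical_of_chart (k : Type u) [Field k] (X : Scheme.{u}) [X.Over (Spec (CommRingCat.of k))]
    (V : X.Opens) (hV : IsAffineOpen V) (φ : CommRingCat.of k ⟶ Γ(X, V))
    (hφ : Spec.map φ = hV.fromSpec ≫ (X ↘ Spec (CommRingCat.of k))) (k' : Type u) [Field k'] [Algebra k k']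
    (h : letI := φ.hom.toAlgebra; RedGeomReduced k k' Γ(X, V))
    (r : ↥(Curv2.bc k X k').nilradical.subscheme)
    (hr : Curv2.bcFst k X k' ((Curv2.bc k X k').nilradical.subschemeι r) ∈ V) :
    GeomRedAt.GR ((Curv2.bc k X k').nilradical.subschemeι ≫ Curv2.bcSnd k X k') r := by
  let X' := Curv2.bc k X k'
  let R := X'.nilradical.subscheme
  let ι : R ⟶ X' := X'.nilradical.subschemeι
  let A : Type u := Γ(X, V)
  letI : Algebra k A := φ.hom.toAlgebra
  let p := X ↘ Spec (CommRingCat.of k)
  let g := Spec.map (CommRingCat.ofHom (algebraMap k k'))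
  let P1 := pullback (Curv2.bcFst k X k') hV.fromSpec
  have hsq : IsPullback (pullback.fst (Curv2.bcFst k X k') hV.fromSpec ≫ Curv2.bcSnd k X k')
      (pullback.snd (Curv2.bcFst k X k') hV.fromSpec) g (Spec.map (CommRingCat.ofHom (algebraMap k A))) := by
    rw [show Spec.map (CommRingCat.ofHom (algebraMap k A)) = hV.fromSpec ≫ p from hφ]
    exact ((IsPullback.of_hasPullback (Curv2.bcFst k X k') hV.fromSpec).flip.paste_vert
      (IsPullback.of_hasPullback p g)).flip
  let e : P1 ≅ Spec (CommRingCat.of (k' ⊗[k] A)) := hsq.isoPullback ≪≫ pullbackSpecIso k k' A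
  let j : Spec (CommRingCat.of (k' ⊗[k] A)) ⟶ X' := e.inv ≫ pullback.fst (Curv2.bcFst k X k') hV.fromSpec
  have hj : j ≫ Curv2.bcSnd k X k' = Spec.map (CommRingCat.ofHom (algebraMap k' (k' ⊗[k] A))) := by
    show (pullbackSpecIso k k' A).inv ≫ hsq.isoPullback.inv ≫ _ ≫ Curv2.bcSnd k X k' = _
    rw [hsq.isoPullback_inv_fst]
    exact pullbackSpecIso_inv_fst k k' A
  haveI : AlgebraicGeometry.IsReduced R := RedSepLib.isReduced_subscheme_nilradical X'
  haveI : IsClosedImmersion ι := inferInstance
  haveI : IsOpenImmersion j := inferInstance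
  haveI : IsOpenImmersion (pullback.fst ι j) := inferInstance
  haveI : AlgebraicGeometry.IsReduced (pullback ι j) := isReduced_of_isOpenImmersion (pullback.fst ι j)
  haveI : IsClosedImmersion (pullback.snd ι j) := inferInstance
  obtain ⟨I, ε, hε⟩ := IsClosedImmersion.Spec_iff.1 (inferInstance : IsClosedImmersion (pullback.snd ι j))
  have hsurj : ∀ q, ∃ w, pullback.snd ι j w = q := fun q => by
    obtain ⟨t, ht⟩ : j q ∈ Set.range ι := by
      rw [Scheme.IdealSheafData.range_subschemeι, Scheme.support_nilradical]; trivial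
    obtain ⟨w, -, hw⟩ := Scheme.Pullback.exists_preimage_pullback t q ht
    exact ⟨w, hw⟩
  have hIred : _root_.IsReduced ((k' ⊗[k] A) ⧸ I) :=
    haveI : AlgebraicGeometry.IsReduced (Spec (CommRingCat.of ((k' ⊗[k] A) ⧸ I))) := isReduced_of_isOpenImmersion ε.inv
    (affine_isReduced_iff (CommRingCat.of ((k' ⊗[k] A) ⧸ I))).1 inferInstance
  have hI : I = nilradical (k' ⊗[k] A) := le_antisymm (fun a ha => by
      rw [nilradical_eq_sInf]
      refine Ideal.mem_sInf.2 fun {Q} hQ => ?_
      obtain ⟨w, hw⟩ := hsurj ⟨Q, hQ⟩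
      rw [hε, Scheme.Hom.comp_apply] at hw
      have : a ∈ (Spec.map (CommRingCat.ofHom (Ideal.Quotient.mk I)) (ε.hom w)).asIdeal := by
        show Ideal.Quotient.mk I a ∈ (ε.hom w).asIdeal
        rw [Ideal.Quotient.eq_zero_iff_mem.2 ha]
        exact zero_mem _
      rwa [hw] at this)
    ((Ideal.isRadical_iff_quotient_reduced I).2 hIred |>.trans' (Ideal.radical_mono bot_le))
  subst hI
  haveI : Algebra.IsGeometricallyReduced k' ((k' ⊗[k] A) ⧸ nilradical (k' ⊗[k] A)) := h
  let T := (k' ⊗[k] A) ⧸ nilradical (k' ⊗[k] A)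
  let m : Spec (CommRingCat.of T) ⟶ R := ε.inv ≫ pullback.fst ι j
  haveI : IsOpenImmersion m := inferInstance
  have hm : m ≫ ι ≫ Curv2.bcSnd k X k' = Spec.map (CommRingCat.ofHom (algebraMap k' T)) := by
    show (ε.inv ≫ pullback.fst ι j) ≫ ι ≫ Curv2.bcSnd k X k' = _
    rw [Category.assoc, pullback.condition_assoc, hj, hε, Category.assoc, Iso.inv_hom_id_assoc, ← Spec.map_comp]
    rfl
  obtain ⟨u, hu⟩ : r ∈ Set.range m := by
    obtain ⟨a, ha⟩ : Curv2.bcFst k X k' (ι r) ∈ Set.range hV.fromSpec := by rw [hV.range_fromSpec]; exact hr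
    obtain ⟨w, hw, -⟩ := Scheme.Pullback.exists_preimage_pullback (f := Curv2.bcFst k X k') (g := hV.fromSpec)
      (ι r) a ha.symm
    have hjw : j (e.hom w) = ι r := by
      show (e.hom ≫ e.inv ≫ pullback.fst (Curv2.bcFst k X k') hV.fromSpec) w = ι r
      rw [Iso.hom_inv_id_assoc, hw]
    obtain ⟨v, hv, -⟩ := Scheme.Pullback.exists_preimage_pullback (f := ι) (g := j) r (e.hom w) hjw.symm
    exact ⟨ε.hom v, by
      show (ε.hom ≫ ε.inv ≫ pullback.fst ι j) v = r
      rw [Iso.hom_inv_id_assoc, hv]⟩
  subst hu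
  refine (GeomRedAt.gr_source_iff (ι ≫ Curv2.bcSnd k X k') m u).1 ?_
  rw [hm]
  haveI : GeometricallyReduced (Spec.map (CommRingCat.ofHom (algebraMap k' T))) :=
    GeomRedPull.geometricallyReduced_Spec fun K _ _ =>
      haveI := GeomRedPull.isReduced_field_tensor (k := k') (A := T) K
      isReduced_of_injective (Algebra.TensorProduct.comm k' T K) (Algebra.TensorProduct.comm k' T K).injective
  intro K _ v q _
  haveI : AlgebraicGeometry.IsReduced (pullback (Spec.map (CommRingCat.ofHom (algebraMap k' T))) v) :=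
    pullback_of_geometrically (GeometricallyReduced.geometrically_isReduced
      (f := Spec.map (CommRingCat.ofHom (algebraMap k' T)))) K v
  infer_instance

theorem exists_pi_geometricallyReduced (k : Type u) [Field k] (X : Scheme.{u}) [X.Over (Spec (CommRingCat.of k))]
    [LocallyOfFiniteType (X ↘ (Spec (CommRingCat.of k)))] (hirr : (irreducibleComponents (X : Type u)).Finite) :
    ∃ (k' : Type u) (_ : Field k') (_ : Algebra k k'), FiniteDimensional k k' ∧ IsPurelyInseparable k k' ∧
      GeometricallyReduced ((Curv2.bc k X k').nilradical.subschemeι ≫ Curv2.bcSnd k X k') := by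
  classical
  let G := (genericPoints.finite hirr).toFinset
  let η : Fin G.card → X := fun i => (G.equivFin.symm i : X)
  have hVex : ∀ i, ∃ V : X.Opens, IsAffineOpen V ∧ η i ∈ V := fun i =>
    let ⟨V, hV, hx, _⟩ := exists_isAffineOpen_mem_and_subset (show η i ∈ (⊤ : X.Opens) from trivial)
    ⟨V, hV, hx⟩
  choose V hV hηV using hVex
  choose φ hφ using fun i => Spec.map_surjective ((hV i).fromSpec ≫ (X ↘ Spec (CommRingCat.of k)))
  letI : ∀ i, Algebra k Γ(X, V i) := fun i => (φ i).hom.toAlgebra
  haveI : ∀ i, Algebra.FiniteType k Γ(X, V i) := fun i => by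
    have h1 : LocallyOfFiniteType (Spec.map (φ i)) := by rw [hφ i]; infer_instance
    exact (HasRingHomProperty.Spec_iff (P := @LocallyOfFiniteType)).1 h1
  obtain ⟨k', _, _, hf, hp, h⟩ := exists_finiteType_family k G.card (fun i => Γ(X, V i))
  refine ⟨k', inferInstance, inferInstance, hf, hp, ?_⟩
  let X' := Curv2.bc k X k'
  let R := X'.nilradical.subscheme
  haveI : AlgebraicGeometry.IsReduced R := RedSepLib.isReduced_subscheme_nilradical X'
  letI : R.Over (Spec (CommRingCat.of k')) := ⟨X'.nilradical.subschemeι ≫ Curv2.bcSnd k X k'⟩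
  refine geometricallyReduced_of_genericPoints k' R fun r hr => (isGeomReducedAt_iff_gr k' R r).2 ?_
  have hx : Curv2.bcFst k X k' (X'.nilradical.subschemeι r) ∈ genericPoints X := by
    rw [mem_genericPoints_iff]
    intro z hz
    haveI := flat_specMap_field k k'
    haveI : Flat (Curv2.bcFst k X k') := inferInstanceAs (Flat (pullback.fst _ _))
    obtain ⟨z', hz', rfl⟩ := Flat.generalizingMap (f := Curv2.bcFst k X k') hz
    obtain ⟨t, rfl⟩ : z' ∈ Set.range X'.nilradical.subschemeι := by
      rw [Scheme.IdealSheafData.range_subschemeι, Scheme.support_nilradical]; trivial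
    rw [(mem_genericPoints_iff R r).1 hr t
      (X'.nilradical.subschemeι.isEmbedding.isInducing.specializes_iff.1 hz')]
  have hi := G.equivFin.symm_apply_apply ⟨_, (genericPoints.finite hirr).mem_toFinset.2 hx⟩
  exact gr_nilradical_of_chart k X (V _) (hV _) (φ _) (hφ _) k' (h _) r
    (by
      have := hηV (G.equivFin ⟨_, (genericPoints.finite hirr).mem_toFinset.2 hx⟩)
      rwa [show η (G.equivFin ⟨_, (genericPoints.finite hirr).mem_toFinset.2 hx⟩) =
        Curv2.bcFst k X k' (X'.nilradical.subschemeι r) from congrArg Subtype.val hi] at this)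

end Groth.Agent.GeomProp
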