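import Groth.Agent.GeomProp.SmoothReg
import Mathlib

/-!
Direct limits of smooth algebras.
-/

set_option autoImplicit false
set_option linter.style.haveILetI false

namespace Groth.Agent.GeomProp

universe u

open TensorProduct

variable (R : Type u) [CommRing R] {ι : Type u} [Preorder ι] [IsDirectedOrder ι] [Nonempty ι]
  (G : ι → Type u) [∀ i, CommRing (G i)] [∀ i, Algebra R (G i)] (f : ∀ i j : ι, i ≤ j → (G i →ₐ[R] G j))
  [DirectedSystem G (fun i j h => f i j h)]

theorem directLimit_zero_exact {i : ι} {x : G i}
    (hx : DirectLimit.Algebra.of (R := R) G f i x = 0) : ∃ j, ∃ h : i ≤ j, f i j h x = 0 := by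
  have hx' : (⟦⟨i, x⟩⟧ : DirectLimit G f) = ⟦⟨i, 0⟩⟧ :=
    hx.trans (map_zero (DirectLimit.Algebra.of (R := R) G f i)).symm
  obtain ⟨j, hij, _, h⟩ := Quotient.exact hx'
  exact ⟨j, hij, h.trans (map_zero _)⟩

theorem directLimit_exists_of (z : DirectLimit G f) : ∃ i x, DirectLimit.Algebra.of (R := R) G f i x = z := by
  obtain ⟨i, x, rfl⟩ := DirectLimit.exists_eq_mk f z
  exact ⟨i, x, rfl⟩

theorem flat_directLimit [∀ i, Module.Flat R (G i)] : Module.Flat R (DirectLimit G f) := by
  classical
  rw [Module.Flat.iff_forall_isTrivialRelation]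
  intro l c x hx
  choose I Y hY using fun k => directLimit_exists_of R G f (x k)
  obtain ⟨j, hj⟩ := (Finset.univ.image I).exists_le
  let Y' : Fin l → G j := fun k => f (I k) j (hj _ (Finset.mem_image_of_mem _ (Finset.mem_univ k))) (Y k)
  have hY' : ∀ k, DirectLimit.Algebra.of (R := R) G f j (Y' k) = x k := fun k =>
    (DirectLimit.Algebra.of_f (R := R) (G := G) (f := f) _ _).trans (hY k)
  have h0 : DirectLimit.Algebra.of (R := R) G f j (∑ k, c k • Y' k) = 0 := by
    rw [map_sum]
    simp only [map_smul, hY']
    exact hx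
  obtain ⟨j', hjj, hzero⟩ := directLimit_zero_exact R G f h0
  have hrel : ∑ k, c k • f j j' hjj (Y' k) = 0 := by
    rw [← hzero, map_sum]
    simp only [map_smul]
  obtain ⟨κ, a, y, h1, h2⟩ := (Module.Flat.iff_forall_isTrivialRelation (R := R) (M := G j')).1 inferInstance hrel
  refine ⟨κ, a, fun m => DirectLimit.Algebra.of (R := R) G f j' (y m), fun k => ?_, h2⟩
  rw [← hY' k, ← DirectLimit.Algebra.of_f (R := R) (G := G) (f := f) hjj (Y' k), show f j j' hjj (Y' k) = _ from h1 k, map_sum]
  simp only [map_smul]

/-- Base change commutes with direct limits, as rings. -/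
theorem exists_tensor_directLimit_equiv (K : Type u) [CommRing K] [Algebra R K] :
    ∃ (_ : DirectedSystem (fun i => K ⊗[R] G i)
      (fun i j h => (Algebra.TensorProduct.map (AlgHom.id R K) (f i j h)).toRingHom)),
      Nonempty (Ring.DirectLimit (fun i => K ⊗[R] G i)
        (fun i j h => (Algebra.TensorProduct.map (AlgHom.id R K) (f i j h)).toRingHom) ≃+* (K ⊗[R] DirectLimit G f)) := by
  let G' := fun i => K ⊗[R] G i
  let f' : ∀ i j, i ≤ j → G' i →+* G' j := fun i j h => (Algebra.TensorProduct.map (AlgHom.id R K) (f i j h)).toRingHom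
  haveI hds : DirectedSystem G' (fun i j h => f' i j h) :=
    { map_self := fun i x => by
        show Algebra.TensorProduct.map (AlgHom.id R K) (f i i le_rfl) x = x
        induction x using TensorProduct.induction_on with
        | zero => simp
        | add a b ha hb => rw [map_add, ha, hb]
        | tmul a b => rw [Algebra.TensorProduct.map_tmul, DirectedSystem.map_self (f := fun i j h => f i j h)]; rfl
      map_map := fun k j i hij hjk x => by
        show Algebra.TensorProduct.map (AlgHom.id R K) (f j k hjk)
          (Algebra.TensorProduct.map (AlgHom.id R K) (f i j hij) x) = Algebra.TensorProduct.map (AlgHom.id R K) (f i k _) x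
        induction x using TensorProduct.induction_on with
        | zero => simp
        | add a b ha hb => rw [map_add, map_add, map_add, ha, hb]
        | tmul a b =>
          rw [Algebra.TensorProduct.map_tmul, Algebra.TensorProduct.map_tmul, Algebra.TensorProduct.map_tmul,
            DirectedSystem.map_map' (fun i j h => f i j h)]
          rfl }
  let D := Ring.DirectLimit G' (fun i j h => f' i j h)
  let o : ∀ i, G' i →+* D := Ring.DirectLimit.of G' (fun i j h => f' i j h)
  have ho : ∀ i j (h : i ≤ j) z, o j (f' i j h z) = o i z := fun i j h z =>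
    Ring.DirectLimit.of_f (G := G') (f := fun i j h => f' i j h) h z
  obtain ⟨i0⟩ : Nonempty ι := inferInstance
  let α : K →+* D := (o i0).comp Algebra.TensorProduct.includeLeftRingHom
  have hα : ∀ i (a : K), o i (a ⊗ₜ 1) = α a := fun i a => by
    obtain ⟨j, h1, h2⟩ := directed_of (· ≤ ·) i i0
    show o i (a ⊗ₜ 1) = o i0 (a ⊗ₜ 1)
    rw [← ho i j h1, ← ho i0 j h2]
    congr 1
    show Algebra.TensorProduct.map (AlgHom.id R K) (f i j h1) (a ⊗ₜ 1) =
      Algebra.TensorProduct.map (AlgHom.id R K) (f i0 j h2) (a ⊗ₜ 1)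
    rw [Algebra.TensorProduct.map_tmul, Algebra.TensorProduct.map_tmul, map_one, map_one]
  letI : Algebra R D := (α.comp (algebraMap R K)).toAlgebra
  let αA : K →ₐ[R] D := { α with commutes' := fun _ => rfl }
  let g : ∀ i, G i →ₐ[R] D := fun i =>
    { (o i).comp (Algebra.TensorProduct.includeRight : G i →ₐ[R] G' i).toRingHom with
      commutes' := fun r => by
        show o i ((1 : K) ⊗ₜ[R] algebraMap R (G i) r) = α (algebraMap R K r)
        rw [← hα i]
        congr 1
        rw [Algebra.algebraMap_eq_smul_one r, Algebra.algebraMap_eq_smul_one r, TensorProduct.smul_tmul] }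
  let β : DirectLimit G f →ₐ[R] D := DirectLimit.Algebra.lift G f D g fun i j h x => by
    show o j ((1 : K) ⊗ₜ f i j h x) = o i ((1 : K) ⊗ₜ x)
    rw [← ho i j h]
    rfl
  let ψ : D →+* K ⊗[R] DirectLimit G f := Ring.DirectLimit.lift G' (fun i j h => f' i j h) _
    (fun i => (Algebra.TensorProduct.map (AlgHom.id R K) (DirectLimit.Algebra.of (R := R) G f i)).toRingHom)
    (fun i j h x => by
      show Algebra.TensorProduct.map (AlgHom.id R K) (DirectLimit.Algebra.of (R := R) G f j)
          (Algebra.TensorProduct.map (AlgHom.id R K) (f i j h) x) =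
        Algebra.TensorProduct.map (AlgHom.id R K) (DirectLimit.Algebra.of (R := R) G f i) x
      induction x using TensorProduct.induction_on with
      | zero => simp
      | add a b ha hb => rw [map_add, map_add, map_add, ha, hb]
      | tmul a b =>
        rw [Algebra.TensorProduct.map_tmul, Algebra.TensorProduct.map_tmul, Algebra.TensorProduct.map_tmul,
          DirectLimit.Algebra.of_f]
        rfl)
  let χ : K ⊗[R] DirectLimit G f →ₐ[R] D := Algebra.TensorProduct.lift αA β fun _ _ => Commute.all _ _
  have h1 : ∀ z, χ (ψ z) = z := fun z => by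
    obtain ⟨i, w, rfl⟩ := Ring.DirectLimit.exists_of z
    rw [Ring.DirectLimit.lift_of]
    show χ (Algebra.TensorProduct.map (AlgHom.id R K) (DirectLimit.Algebra.of (R := R) G f i) w) = o i w
    induction w using TensorProduct.induction_on with
    | zero => simp
    | add a b ha hb => rw [map_add, map_add, ha, hb, map_add]
    | tmul a b =>
      rw [Algebra.TensorProduct.map_tmul, Algebra.TensorProduct.lift_tmul]
      show α a * β (DirectLimit.Algebra.of (R := R) G f i b) = _
      rw [show β (DirectLimit.Algebra.of (R := R) G f i b) = g i b from DirectLimit.Algebra.lift_of _ _ _ _ _, ← hα i]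
      show o i (a ⊗ₜ 1) * o i ((1 : K) ⊗ₜ b) = _
      rw [← map_mul, Algebra.TensorProduct.tmul_mul_tmul, mul_one, one_mul]
  have h2 : ∀ z, ψ (χ z) = z := fun z => by
    induction z using TensorProduct.induction_on with
    | zero => simp
    | add a b ha hb => rw [map_add, map_add, ha, hb]
    | tmul a b =>
      obtain ⟨i, y, rfl⟩ := directLimit_exists_of R G f b
      rw [Algebra.TensorProduct.lift_tmul]
      show ψ (α a * β (DirectLimit.Algebra.of (R := R) G f i y)) = _
      rw [show β (DirectLimit.Algebra.of (R := R) G f i y) = g i y from DirectLimit.Algebra.lift_of _ _ _ _ _, ← hα i]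
      show ψ (o i (a ⊗ₜ 1) * o i ((1 : K) ⊗ₜ y)) = _
      rw [← map_mul, Algebra.TensorProduct.tmul_mul_tmul, mul_one, one_mul, Ring.DirectLimit.lift_of]
      rfl
  exact ⟨hds, ⟨{ ψ with invFun := χ, left_inv := h1, right_inv := h2 }⟩⟩

theorem isRegularHom_directLimit (hs : ∀ i, Algebra.Smooth R (G i))
    (hN : ∀ (p : Ideal R) [p.IsPrime], IsNoetherianRing (p.Fiber (DirectLimit G f))) :
    CAlg.IsRegularHom R (DirectLimit G f) := by
  haveI : ∀ i, Module.Flat R (G i) := fun i => haveI := hs i; inferInstance
  refine ⟨flat_directLimit R G f, fun p _ => ⟨hN p, fun K _ _ hK => ?_⟩⟩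
  letI : Algebra R K := ((algebraMap p.ResidueField K).comp (algebraMap R p.ResidueField)).toAlgebra
  haveI : IsScalarTower R p.ResidueField K := IsScalarTower.of_algebraMap_eq fun _ => rfl
  haveI := hK
  haveI := hN p
  let e₀ := (Algebra.TensorProduct.cancelBaseChange R p.ResidueField K K (DirectLimit G f)).toRingEquiv
  haveI : IsNoetherianRing (K ⊗[R] DirectLimit G f) :=
    @isNoetherianRing_of_ringEquiv (K ⊗[p.ResidueField] p.Fiber (DirectLimit G f)) _ _ _ e₀
      (FlatDepth.isNoetherianRing_tensor_essFinite p.ResidueField (p.Fiber (DirectLimit G f)) K)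
  obtain ⟨_, ⟨e⟩⟩ := exists_tensor_directLimit_equiv R G f K
  haveI : IsNoetherianRing (Ring.DirectLimit (fun i => K ⊗[R] G i)
      (fun i j h => (Algebra.TensorProduct.map (AlgHom.id R K) (f i j h)).toRingHom)) :=
    isNoetherianRing_of_ringEquiv (K ⊗[R] DirectLimit G f) e.symm
  exact FlatDepth.isRegularRing_of_equiv _ _ (e.trans e₀.symm)
    (RegLimit.isRegularRing_directLimit ι (fun i => K ⊗[R] G i)
      (fun i j h => (Algebra.TensorProduct.map (AlgHom.id R K) (f i j h)).toRingHom)
      fun i => haveI := hs i; isRegularRing_of_smooth K _)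

end Groth.Agent.GeomProp
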